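import Cfsg.Agent.Lib.J2Core.Frame
import Cfsg.Agent.Lib.Signalizer.Ambient
import Cfsg.Agent.Lib.OddOrderTheorem.Basic

/-!
# A closure inside `O(C(x))`

* `Frame.fx γ`    : the elements of `C(γ)` commuting with `E` modulo the core
* `Frame.theta`   : `O(C(x)) ⊓ fx γ ⊓ fx (x γ)`, balanced on `E/⟨x⟩`
* `Frame.exists_closure` : a subgroup `Y ≤ O(C(x))` cutting out the functor, and what normalises it
-/

set_option autoImplicit false
set_option linter.style.haveILetI false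
set_option linter.unusedSectionVars false

namespace Cfsg.Agent.J2Core

open Subgroup

universe u

variable {G : Type u} [Group G] [Finite G] (Φ : Frame G)

local notation "C[" γ "]" => centralizer ({γ} : Set G)
local notation "O[" γ "]" => Cfsg.centralizerPPrimeCore 2 γ

/-- The elements of `C(γ)` commuting with `E` modulo the core. -/
def Frame.fx (γ : G) (hγ : γ ∈ Φ.E) : Subgroup G where
  carrier := {c | c ∈ C[γ] ∧ ∀ e ∈ Φ.E, c * e * c⁻¹ * e⁻¹ ∈ O[γ]}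
  one_mem' := ⟨one_mem _, fun e _ => by simp⟩
  mul_mem' := fun {a b} ha hb => ⟨mul_mem ha.1 hb.1, fun e he => by
    have := mul_mem (conj_core_mem ha.1 (hb.2 e he)) (ha.2 e he)
    rwa [show a * (b * e * b⁻¹ * e⁻¹) * a⁻¹ * (a * e * a⁻¹ * e⁻¹) = a * b * e * (a * b)⁻¹ * e⁻¹ by group] at this⟩
  inv_mem' := fun {a} ha => ⟨inv_mem ha.1, fun e he => by
    have := conj_core_mem (inv_mem ha.1) (inv_mem (ha.2 e he))
    rwa [show a⁻¹ * (a * e * a⁻¹ * e⁻¹)⁻¹ * a⁻¹⁻¹ = a⁻¹ * e * a⁻¹⁻¹ * e⁻¹ by group] at this⟩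

theorem Frame.fx_conj {γ c g : G} (hγ : γ ∈ Φ.E) (hg : g ∈ normalizer (Φ.E : Set G))
    (hc : c ∈ Φ.fx γ hγ) (hγ' : g * γ * g⁻¹ ∈ Φ.E) : g * c * g⁻¹ ∈ Φ.fx (g * γ * g⁻¹) hγ' := by
  refine ⟨mem_centralizer_singleton_iff.2 ?_, fun e he => ?_⟩
  · have h := mem_centralizer_singleton_iff.1 hc.1
    calc g * c * g⁻¹ * (g * γ * g⁻¹) = g * (c * γ) * g⁻¹ := by group
      _ = g * (γ * c) * g⁻¹ := by rw [h]
      _ = _ := by group
  · have he' : g⁻¹ * e * g ∈ Φ.E := by simpa using (mem_normalizer_iff.1 (inv_mem hg) e).1 he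
    have := core_conj (g := g) (hc.2 _ he')
    rwa [show g * (c * (g⁻¹ * e * g) * c⁻¹ * (g⁻¹ * e * g)⁻¹) * g⁻¹ =
      g * c * g⁻¹ * e * (g * c * g⁻¹)⁻¹ * e⁻¹ by group] at this

/-- The elements of `E` commuting with `c` modulo the core. -/
theorem Frame.comm_mul {γ c a b : G} (hγ : γ ∈ Φ.E) (ha : a ∈ Φ.E)
    (h1 : c * a * c⁻¹ * a⁻¹ ∈ O[γ]) (h2 : c * b * c⁻¹ * b⁻¹ ∈ O[γ]) :
    c * (a * b) * c⁻¹ * (a * b)⁻¹ ∈ O[γ] := by
  have := mul_mem h1 (conj_core_mem (Φ.mem_C ha hγ) h2)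
  rwa [show c * a * c⁻¹ * a⁻¹ * (a * (c * b * c⁻¹ * b⁻¹) * a⁻¹) = c * (a * b) * c⁻¹ * (a * b)⁻¹ by group] at this

theorem comm_of_commute {γ c a : G} (h : Commute c a) : c * a * c⁻¹ * a⁻¹ ∈ O[γ] := by
  rw [h.eq, mul_inv_cancel_right, mul_inv_cancel]; exact one_mem _

/-- Two elements of `V` suffice. -/
theorem Frame.fx_of_two {δ c a b : G} (hδ : δ ∈ Φ.E) (hδV : δ ∉ Φ.V) (hc : c ∈ C[δ]) (ha : a ∈ Φ.V)
    (ha1 : a ≠ 1) (hb : b ∈ Φ.V) (hb1 : b ≠ 1) (hab : a ≠ b) (h1 : c * a * c⁻¹ * a⁻¹ ∈ O[δ])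
    (h2 : c * b * c⁻¹ * b⁻¹ ∈ O[δ]) : c ∈ Φ.fx δ hδ := by
  let T : Subgroup G :=
    { carrier := {e | e ∈ Φ.E ∧ c * e * c⁻¹ * e⁻¹ ∈ O[δ]}
      one_mem' := ⟨one_mem _, by simp⟩
      mul_mem' := fun {x y} hx hy => ⟨mul_mem hx.1 hy.1, Φ.comm_mul hδ hx.1 hx.2 hy.2⟩
      inv_mem' := fun {x} hx => by
        have hx2 : x⁻¹ = x := inv_eq_of_mul_eq_one_right (by rw [← pow_two, Φ.ea.2 x hx.1])
        rw [hx2]; exact hx }
  have hVT : Φ.V ≤ T := by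
    have h3 : Nat.card ↥({1, a, b} : Set G) ≤ Nat.card ↥(Φ.V ⊓ T) :=
      Nat.card_le_card_of_injective (fun z => ⟨z.1, by
        rcases z.2 with e | e | e <;> rw [e]
        exacts [one_mem _, ⟨ha, Φ.le ha, h1⟩, ⟨hb, Φ.le hb, h2⟩]⟩)
        fun z w e => Subtype.ext (congrArg (fun t : ↥(Φ.V ⊓ T) => (t : G)) e)
    rw [Nat.card_coe_set_eq, Set.ncard_eq_three.2 ⟨1, a, b, ha1.symm, hb1.symm, hab, rfl⟩] at h3
    have hd := card_dvd_of_le (inf_le_left : Φ.V ⊓ T ≤ Φ.V)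
    rw [Φ.cardV] at hd
    have h4 : 4 ≤ Nat.card ↥(Φ.V ⊓ T) := by
      have := Nat.le_of_dvd (by norm_num) hd
      rcases (show Nat.card ↥(Φ.V ⊓ T) = 3 ∨ 4 ≤ Nat.card ↥(Φ.V ⊓ T) by omega) with e | e
      · rw [e] at hd; norm_num at hd
      · exact e
    exact (eq_of_le_of_card_ge inf_le_left (Φ.cardV ▸ h4) : Φ.V ⊓ T = Φ.V) ▸ inf_le_right
  refine ⟨hc, fun e he => ?_⟩
  obtain ⟨v, hv, hev⟩ := Φ.exists_proj hδ hδV he
  have := Φ.comm_mul hδ hev.1 (hev.2 c hc) (hVT hv).2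
  rwa [mul_assoc e v v, ← pow_two, Φ.ea.2 v (Φ.le hv), mul_one] at this

/-- Cores of clique mates agree on the intersection. -/
theorem Frame.core_inf_of_inB {δ β c : G} (hδ : δ ∈ Φ.E) (hβ : Φ.InB δ β) (hc : c ∈ O[β])
    (hcδ : c ∈ C[δ]) : c ∈ O[δ] := by
  haveI : Fact (Nat.Prime 2) := ⟨Nat.prime_two⟩
  have hβ2 : β * β = 1 := by rw [← pow_two, Φ.ea.2 β hβ.1]
  have hβC : β ∈ C[δ] := Φ.mem_C hβ.1 hδ
  set N : Subgroup ↥C[δ] := (O[β]).subgroupOf C[δ]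
  set O' : Subgroup ↥C[δ] := Cfsg.pPrimeCore 2 ↥C[δ]
  haveI : O'.Normal := Cores.pPrimeCore_normal 2 _
  have hMn : (N ⊔ O').Normal := by
    refine normalizer_eq_top_iff.1 (eq_top_iff.2 fun g _ => ?_)
    obtain ⟨d, hd, hdc⟩ := exists_lift (c := (g : G)) hβ2 hβC (by
      have := inv_mem (hβ.2 g g.2)
      rwa [show ((g : G) * β * (g : G)⁻¹ * β⁻¹)⁻¹ = β * g * β⁻¹ * (g : G)⁻¹ by group] at this)
    have hdC := Signalizer.core_le_centralizer δ hd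
    set g' : ↥C[δ] := ⟨d, hdC⟩ * g
    have hg'N : g' ∈ normalizer (N : Set ↥C[δ]) := Signalizer.mem_normalizer_of_conj_mem fun n hn => by
      rw [mem_subgroupOf] at hn ⊢
      exact conj_core_mem (mem_centralizer_singleton_iff.2 hdc.eq) hn
    have hdO : (⟨d, hdC⟩ : ↥C[δ]) ∈ O' := (mem_core_iff hdC).1 hd
    have h1 : g' ∈ normalizer ((N ⊔ O' : Subgroup ↥C[δ]) : Set ↥C[δ]) :=
      Signalizer.le_normalizer_sup (zpowers_le.2 hg'N)
        (by rw [normalizer_eq_top O']; exact le_top) (mem_zpowers g')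
    have h2 : (⟨d, hdC⟩ : ↥C[δ]) ∈ normalizer ((N ⊔ O' : Subgroup ↥C[δ]) : Set ↥C[δ]) :=
      le_normalizer (mem_sup_right hdO)
    have := mul_mem (inv_mem h2) h1
    rwa [inv_mul_cancel_left] at this
  have hN2 : ¬ 2 ∣ Nat.card N := fun h =>
    Signalizer.not_dvd_card_core (p := 2) β (h.trans (Subgroup.card_comap_dvd_of_injective
      (O[β]) C[δ].subtype C[δ].subtype_injective))
  have hle : N ⊔ O' ≤ O' := Cores.le_pPrimeCore hMn ((Nat.prime_two.coprime_iff_not_dvd.2 fun h =>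
    ((Nat.Prime.dvd_mul Nat.prime_two).1 (h.trans (Cores.card_sup_dvd N O'))).elim hN2
      Cores.not_dvd_card_pPrimeCore).symm)
  exact (mem_core_iff hcδ).2 (hle (mem_sup_left (show (⟨c, hcδ⟩ : ↥C[δ]) ∈ N from hc)))

theorem Frame.fx_of_core {δ c : G} (hδ : δ ∈ Φ.E) (hc : c ∈ O[δ]) : c ∈ Φ.fx δ hδ := by
  refine ⟨Signalizer.core_le_centralizer δ hc, fun e he => ?_⟩
  have := mul_mem hc (conj_core_mem (Φ.mem_C he hδ) (inv_mem hc))
  rwa [show c * (e * c⁻¹ * e⁻¹) = c * e * c⁻¹ * e⁻¹ by group] at this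

/-- For these `δ` there is no condition. -/
theorem Frame.fx_auto {x δ c : G} (hx : x ∈ Φ.E) (hxV : x ∉ Φ.V) (hδ : δ ∈ Φ.E) (hδ1 : δ ≠ 1)
    (h : δ ∈ Φ.V ∨ Φ.InB δ x) (hc : c ∈ O[x]) (hcδ : c ∈ C[δ]) : c ∈ Φ.fx δ hδ := by
  haveI : Fact (Nat.Prime 2) := ⟨Nat.prime_two⟩
  refine Φ.fx_of_core hδ ?_
  rcases h with h | h
  · exact Φ.good δ h hδ1 x (orderOf_eq_prime (Φ.ea.2 x hx) fun e => hxV (e ▸ one_mem _))
      (Φ.comm hx hδ) ⟨hc, hcδ⟩
  · exact Φ.core_inf_of_inB hδ h hc hcδ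

/-- The functor. -/
def Frame.theta {x : G} (hx : x ∈ Φ.E) (γ : G) : Subgroup G :=
  O[x] ⊓ ⨅ hγ : γ ∈ Φ.E, (Φ.fx γ hγ ⊓ Φ.fx (x * γ) (mul_mem hx hγ))

theorem Frame.mem_theta {x γ c : G} (hx : x ∈ Φ.E) (hγ : γ ∈ Φ.E) :
    c ∈ Φ.theta hx γ ↔ c ∈ O[x] ∧ c ∈ Φ.fx γ hγ ∧ c ∈ Φ.fx (x * γ) (mul_mem hx hγ) := by
  simp only [Frame.theta, mem_inf, mem_iInf]
  exact ⟨fun h => ⟨h.1, h.2 hγ⟩, fun h => ⟨h.1, fun _ => h.2⟩⟩

theorem Frame.mem_C_mul {x γ c : G} (hx : c ∈ C[x]) (hγ : c ∈ C[γ]) : c ∈ C[x * γ] := by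
  rw [mem_centralizer_singleton_iff] at *
  exact (show Commute c x from hx).mul_right hγ

/-- Balance. -/
theorem Frame.fx_balance {x γ δ c : G} (hx : x ∈ Φ.E) (hxV : x ∉ Φ.V) (hγ : γ ∈ Φ.E) (hγ1 : γ ≠ 1)
    (hγx : γ ≠ x) (hδ : δ ∈ Φ.E) (hδ1 : δ ≠ 1) (hc : c ∈ Φ.theta hx γ) (hcδ : c ∈ C[δ]) :
    c ∈ Φ.fx δ hδ := by
  obtain ⟨hcx, hcγ, hcxγ⟩ := (Φ.mem_theta hx hγ).1 hc
  by_cases hauto : δ ∈ Φ.V ∨ Φ.InB δ x
  · exact Φ.fx_auto hx hxV hδ hδ1 hauto hcx hcδ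
  push Not at hauto
  obtain ⟨hδV, hxB⟩ := hauto
  obtain ⟨v1, hv1, hb1⟩ := Φ.exists_proj hδ hδV hx
  obtain ⟨v2, hv2, hb2⟩ := Φ.exists_proj hδ hδV hγ
  have hv1' : v1 ≠ 1 := fun e => hxB (by rwa [e, mul_one] at hb1)
  have hT : ∀ a v : G, a ∈ Φ.E → v ∈ Φ.V → Φ.InB δ (a * v) → Commute c a →
      c * v * c⁻¹ * v⁻¹ ∈ O[δ] := fun a v ha hv hb hca => by
    have := Φ.comm_mul hδ ha (comm_of_commute (γ := δ) hca) (hb.2 c hcδ)
    rwa [← mul_assoc a a v, ← pow_two, Φ.ea.2 a ha, one_mul] at this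
  have hcx' : Commute c x := mem_centralizer_singleton_iff.1 (Signalizer.core_le_centralizer x hcx)
  have h1 := hT x v1 hx hv1 hb1 hcx'
  have h2 := hT γ v2 hγ hv2 hb2 (mem_centralizer_singleton_iff.1 hcγ.1)
  -- a clique mate `β` of `δ` gives the missing condition
  have hmate : ∀ β (hβ : β ∈ Φ.E), Φ.InB δ β → c ∈ Φ.fx β hβ → c ∈ Φ.fx δ hδ := fun β hβ hB hcβ =>
    ⟨hcδ, fun e he => Φ.core_inf_of_inB hδ hB (hcβ.2 e he)
      (mul_mem (mul_mem (mul_mem hcδ (Φ.mem_C he hδ)) (inv_mem hcδ)) (inv_mem (Φ.mem_C he hδ)))⟩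
  by_cases h21 : v2 = 1
  · exact hmate γ hγ (by rwa [h21, mul_one] at hb2) hcγ
  by_cases h12 : v1 = v2
  · refine hmate (x * γ) (mul_mem hx hγ) ?_ hcxγ
    have := Φ.inB_mul hb1 hb2 hδ
    rwa [← h12, show x * v1 * (γ * v1) = x * (v1 * γ) * v1 by group, Φ.comm (Φ.le hv1) hγ,
      mul_assoc, mul_assoc γ, ← pow_two, Φ.ea.2 v1 (Φ.le hv1), mul_one] at this
  exact Φ.fx_of_two hδ hδV hcδ hv1 hv1' hv2 h21 h12 h1 h2

/-- An element centralising `x`, a clique mate and a point of `V` keeps the condition. -/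
theorem Frame.fx_conj_pair {x x' w u δ d : G} (hx : x ∈ Φ.E) (hxV : x ∉ Φ.V) (hB : Φ.InB x x') (hx'1 : x' ≠ 1)
    (hx'x : x' ≠ x) (hw : w ∈ Φ.V) (hw1 : w ≠ 1) (hux : Commute u x) (hux' : Commute u x')
    (huw : Commute u w) (hδ : δ ∈ Φ.E) (hδ1 : δ ≠ 1) (huδ : Commute u δ) (hdx : d ∈ O[x])
    (hd : d ∈ Φ.fx δ hδ) : u * d * u⁻¹ ∈ Φ.fx δ hδ := by
  have huC : u ∈ C[δ] := mem_centralizer_singleton_iff.2 huδ.eq
  by_cases hauto : δ ∈ Φ.V ∨ Φ.InB δ x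
  · exact Φ.fx_auto hx hxV hδ hδ1 hauto (conj_core_mem (mem_centralizer_singleton_iff.2 hux.eq) hdx)
      (mul_mem (mul_mem huC hd.1) (inv_mem huC))
  push Not at hauto
  obtain ⟨hδV, hxB⟩ := hauto
  obtain ⟨v1, hv1, hb1⟩ := Φ.exists_proj hδ hδV hx
  have hv1' : v1 ≠ 1 := fun e => hxB (by rwa [e, mul_one] at hb1)
  have hT : ∀ a v : G, a ∈ Φ.E → v ∈ Φ.V → Φ.InB δ (a * v) → Commute u a →
      u * v * u⁻¹ * v⁻¹ ∈ O[δ] := fun a v ha hv hb hca => by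
    have := Φ.comm_mul hδ ha (comm_of_commute (γ := δ) hca) (hb.2 u huC)
    rwa [← mul_assoc a a v, ← pow_two, Φ.ea.2 a ha, one_mul] at this
  have h1 := hT x v1 hx hv1 hb1 hux
  have hu : u ∈ Φ.fx δ hδ := by
    by_cases hwv : w = v1
    · obtain ⟨v2, hv2, hb2⟩ := Φ.exists_proj hδ hδV hB.1
      have hx'V : x' ∉ Φ.V := fun h => hx'1 (Φ.eq_one_of_inB hx hxV hB h)
      -- `x` is no clique mate of `δ`, hence neither are `x'` and `x x'`
      have hno : ∀ β, Φ.InB x β → β ≠ 1 → ¬ Φ.InB δ β := fun β h1 h2 h3 =>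
        hxB ((Φ.inB_trans hδ hδV h3 h2).2.1 ((Φ.inB_trans hx hxV h1 h2).2.2 (Φ.inB_self hx)))
      have h21 : v2 ≠ 1 := fun e => hno x' hB hx'1 (by rwa [e, mul_one] at hb2)
      have h12 : v1 ≠ v2 := fun e => by
        have := Φ.inB_mul hb1 hb2 hδ
        rw [← e, show x * v1 * (x' * v1) = x * (v1 * x') * v1 by group, Φ.comm (Φ.le hv1) hB.1,
          mul_assoc, mul_assoc x', ← pow_two, Φ.ea.2 v1 (Φ.le hv1), mul_one] at this
        exact hno _ (Φ.inB_mul (Φ.inB_self hx) hB hx) (fun h => hx'x (by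
          rw [← inv_eq_of_mul_eq_one_right h,
            inv_eq_of_mul_eq_one_right (by rw [← pow_two, Φ.ea.2 x hx])])) this
      exact Φ.fx_of_two hδ hδV huC hv1 hv1' hv2 h21 h12 h1 (hT x' v2 hB.1 hv2 hb2 hux')
    · exact Φ.fx_of_two hδ hδV huC hv1 hv1' hw hw1 (Ne.symm hwv) h1 (comm_of_commute huw)
  exact mul_mem (mul_mem hu hd) (inv_mem hu)

/-- The closure. -/
theorem Frame.exists_closure {x : G} (hx : x ∈ Φ.E) (hxV : x ∉ Φ.V) :
    ∃ Y : Subgroup G, Y ≤ O[x] ∧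
      (∀ g ∈ normalizer (Φ.E : Set G), g * x * g⁻¹ = x → g ∈ normalizer (Y : Set G)) ∧
      (∀ e ∈ Φ.E, e ≠ 1 → e ≠ x → Y ⊓ C[e] ≤ Φ.theta hx e) ∧
      (∀ e ∈ Φ.E, e ≠ 1 → e ≠ x → Φ.theta hx e ≤ Y) ∧
      ∀ x' w u : G, Φ.InB x x' → x' ≠ 1 → x' ≠ x → w ∈ Φ.V → w ≠ 1 → Commute u x → Commute u x' →
        Commute u w → u ∈ normalizer (Y : Set G) := by
  haveI : Fact (Nat.Prime 2) := ⟨Nat.prime_two⟩
  have hx1 : x ≠ 1 := fun e => hxV (e ▸ one_mem _)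
  obtain ⟨A, hA, hxA, hsup⟩ := Signalizer.exists_complement_zpowers Φ.ea hx hx1
  have hAea := Signalizer.elemAb_of_le Φ.ea hA
  have hA8 : 2 ^ 3 ≤ Nat.card A := by
    have h := Signalizer.card_sup_zpowers Φ.ea hA hx hxA
    rw [hsup, Φ.card] at h
    omega
  have hne : ∀ a ∈ A, a ≠ x := fun a ha e => hxA (e ▸ ha)
  have hEC : ∀ γ ∈ Φ.E, ∀ b ∈ Φ.E, b * γ * b⁻¹ = γ := fun γ hγ b hb => by
    rw [Φ.comm hb hγ, mul_inv_cancel_right]
  have hth : ∀ g ∈ normalizer (Φ.E : Set G), g * x * g⁻¹ = x → ∀ γ ∈ Φ.E, ∀ c ∈ Φ.theta hx γ,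
      g * c * g⁻¹ ∈ Φ.theta hx (g * γ * g⁻¹) := by
    intro g hg hgx γ hγ c hc
    have hγ' := (mem_normalizer_iff.1 hg γ).1 hγ
    obtain ⟨h1, h2, h3⟩ := (Φ.mem_theta hx hγ).1 hc
    refine (Φ.mem_theta hx hγ').2 ⟨hgx ▸ core_conj h1, Φ.fx_conj hγ hg h2 hγ', ?_⟩
    have e : g * (x * γ) * g⁻¹ = x * (g * γ * g⁻¹) := by
      rw [show g * (x * γ) * g⁻¹ = g * x * g⁻¹ * (g * γ * g⁻¹) by group, hgx]
    have h4 := Φ.fx_conj (mul_mem hx hγ) hg h3 ((mem_normalizer_iff.1 hg _).1 (mul_mem hx hγ))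
    simp only [e] at h4
    exact h4
  have hfun : Cfsg.IsSignalizerFunctor 2 A (fun a => Φ.theta hx a) := by
    refine ⟨fun a ha _ c hc => ((Φ.mem_theta hx (hA ha)).1 hc).2.1.1,
      fun a _ _ => Signalizer.not_dvd_card_of_le (inf_le_left) (Signalizer.not_dvd_card_core x),
      fun a ha _ b hb c hc => ?_, fun a ha ha1 b hb hb1 c hc => ?_⟩
    · have := hth b (le_normalizer (hA hb)) (hEC x hx b (hA hb)) a (hA ha) c hc
      rwa [hEC a (hA ha) b (hA hb)] at this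
    · refine (Φ.mem_theta hx (hA hb)).2 ⟨((Φ.mem_theta hx (hA ha)).1 hc.1).1,
        Φ.fx_balance hx hxV (hA ha) ha1 (hne a ha) (hA hb) hb1 hc.1 hc.2,
        Φ.fx_balance hx hxV (hA ha) ha1 (hne a ha) (mul_mem hx (hA hb)) (fun e => hne b hb ?_) hc.1
          (Frame.mem_C_mul (Signalizer.core_le_centralizer x ((Φ.mem_theta hx (hA ha)).1 hc.1).1) hc.2)⟩
      rw [← inv_eq_of_mul_eq_one_right e, inv_eq_of_mul_eq_one_right (by rw [← pow_two, Φ.ea.2 x hx])]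
  set Y := Cfsg.signalizerClosure A (fun a => Φ.theta hx a) with hY
  have hYle : Y ≤ O[x] := iSup_le fun a => inf_le_left
  have hθY : ∀ a ∈ A, a ≠ 1 → Φ.theta hx a ≤ Y := fun a ha ha1 =>
    le_iSup (fun a : {a : G // a ∈ A ∧ a ≠ 1} => Φ.theta hx (a : G)) ⟨a, ha, ha1⟩
  have hsolv : Group.IsSolvable ↥(O[x]) := OddOrderTheorem.solvable
    (Nat.odd_iff.2 (Nat.two_dvd_ne_zero.1 (Signalizer.not_dvd_card_core x)))
  have hAY : A ≤ normalizer (O[x] : Set G) := hA.trans (Signalizer.invariant_core Φ.ea.1 hx)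
  have hamb : ∀ a ∈ A, a ≠ 1 → Y ⊓ C[a] ≤ Φ.theta hx a := fun a ha ha1 =>
    Signalizer.inf_centralizer_le_of_ambient hAea hA8 hsolv (Signalizer.not_dvd_card_core x) hAY hfun
      (fun a _ _ => inf_le_left) ha ha1
  -- the coset representatives
  have hrep : ∀ e ∈ Φ.E, e ∈ A ∨ x * e ∈ A := by
    intro e he
    have he' : e ∈ A ⊔ zpowers x := hsup.symm ▸ he
    rw [← SetLike.mem_coe, coe_mul_of_right_le_normalizer_left _ _ (Signalizer.le_normalizer_of_commute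
      fun u hu v hv => Φ.comm (zpowers_le.2 hx hu) (hA hv))] at he'
    obtain ⟨a, ha, b, hb, hab⟩ := he'
    have hab' : a * b = e := hab
    subst hab'
    obtain ⟨k, rfl⟩ := mem_zpowers_iff.1 hb
    have hx2 : x ^ (2 : ℤ) = 1 := by rw [zpow_two, ← pow_two, Φ.ea.2 x hx]
    rcases Int.even_or_odd k with ⟨m, rfl⟩ | ⟨m, rfl⟩
    · left; rw [← two_mul, zpow_mul, hx2, one_zpow, mul_one]; exact ha
    · right
      rw [zpow_add, zpow_mul, hx2, one_zpow, one_mul, zpow_one, Φ.comm (hA ha) hx, ← mul_assoc, ← pow_two,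
        Φ.ea.2 x hx, one_mul]
      exact ha
  have hsym : ∀ e ∈ Φ.E, Φ.theta hx (x * e) = Φ.theta hx e := by
    intro e he
    ext c
    rw [Φ.mem_theta hx (mul_mem hx he), Φ.mem_theta hx he]
    have e2 : x * (x * e) = e := by rw [← mul_assoc, ← pow_two, Φ.ea.2 x hx, one_mul]
    simp only [e2]
    tauto
  have hcent : ∀ e ∈ Φ.E, e ≠ 1 → e ≠ x → Y ⊓ C[e] ≤ Φ.theta hx e ∧ Φ.theta hx e ≤ Y := by
    intro e he he1 hex
    rcases hrep e he with h | h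
    · exact ⟨hamb e h he1, hθY e h he1⟩
    · have h1 : x * e ≠ 1 := fun h0 => hex (by
        rw [← inv_eq_of_mul_eq_one_right h0, inv_eq_of_mul_eq_one_right (by rw [← pow_two, Φ.ea.2 x hx])])
      rw [← hsym e he]
      exact ⟨fun c hc => hamb _ h h1 ⟨hc.1, Frame.mem_C_mul
        (Signalizer.core_le_centralizer x (hYle hc.1)) hc.2⟩, hθY _ h h1⟩
  refine ⟨Y, hYle, fun g hg hgx => Signalizer.mem_normalizer_of_conj_mem fun c hc => ?_,
    fun e he he1 hex => (hcent e he he1 hex).1, fun e he he1 hex => (hcent e he he1 hex).2,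
    fun x' w u hB hx'1 hx'x hw hw1 hux hux' huw => Signalizer.mem_normalizer_of_conj_mem fun c hc => ?_⟩
  · have hle : Y ≤ Y.comap (MulAut.conj g).toMonoidHom := iSup_le fun a d hd => by
      have hd' := hth g hg hgx a (hA a.2.1) d hd
      refine (hcent _ ((mem_normalizer_iff.1 hg _).1 (hA a.2.1)) (fun e => a.2.2 (conj_eq_one_iff.1 e))
        (fun e => hne a a.2.1 ?_)).2 hd'
      rw [← hgx] at e
      exact mul_left_cancel (mul_right_cancel e)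
    exact hle hc
  · have hx'E : x' ∈ Φ.E := hB.1
    set U : Subgroup G := zpowers x' ⊔ zpowers w
    have hUE : U ≤ Φ.E := sup_le (zpowers_le.2 hx'E) (zpowers_le.2 (Φ.le hw))
    have hx'V : x' ∉ Φ.V := fun h => hx'1 (Φ.eq_one_of_inB hx hxV hB h)
    have hwx' : w ∉ zpowers x' := by
      intro h
      obtain ⟨k, hk⟩ := mem_zpowers_iff.1 h
      rcases Int.even_or_odd k with ⟨m, rfl⟩ | ⟨m, rfl⟩
      · rw [← two_mul, zpow_mul, zpow_two, ← pow_two, Φ.ea.2 x' hx'E, one_zpow] at hk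
        exact hw1 hk.symm
      · rw [zpow_add, zpow_mul, zpow_two, ← pow_two, Φ.ea.2 x' hx'E, one_zpow, one_mul, zpow_one] at hk
        exact hx'V (hk ▸ hw)
    have hU4 : 2 ^ 2 ≤ Nat.card U := by
      rw [Signalizer.card_sup_zpowers Φ.ea (zpowers_le.2 hx'E) (Φ.le hw) hwx', Nat.card_zpowers,
        orderOf_eq_prime (Φ.ea.2 x' hx'E) hx'1]
      norm_num
    have hxU : x ∉ U := by
      intro h
      rw [← SetLike.mem_coe, coe_mul_of_right_le_normalizer_left _ _ (Signalizer.le_normalizer_of_commute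
        fun a ha b hb => Φ.comm (zpowers_le.2 (Φ.le hw) ha) (zpowers_le.2 hx'E hb))] at h
      obtain ⟨a, ha, b, hb, hab⟩ := h
      have hab' : a * b = x := hab
      have haB : Φ.InB x a := by
        obtain ⟨k, rfl⟩ := mem_zpowers_iff.1 ha
        rcases Int.even_or_odd k with ⟨m, rfl⟩ | ⟨m, rfl⟩
        · rw [← two_mul, zpow_mul, zpow_two, ← pow_two, Φ.ea.2 x' hx'E, one_zpow]; exact Φ.inB_one x
        · rwa [zpow_add, zpow_mul, zpow_two, ← pow_two, Φ.ea.2 x' hx'E, one_zpow, one_mul, zpow_one]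
      have hbV : b ∈ Φ.V := zpowers_le.2 hw hb
      have hb1 : b = 1 := Φ.eq_one_of_inB hx hxV (by
        have := Φ.inB_mul haB (Φ.inB_self hx) hx
        rw [← hab', ← mul_assoc, ← pow_two, Φ.ea.2 a haB.1, one_mul] at this
        exact hab'.symm ▸ this) hbV
      rw [hb1, mul_one] at hab'
      obtain ⟨k, hk⟩ := mem_zpowers_iff.1 ha
      rcases Int.even_or_odd k with ⟨m, rfl⟩ | ⟨m, rfl⟩
      · rw [← two_mul, zpow_mul, zpow_two, ← pow_two, Φ.ea.2 x' hx'E, one_zpow] at hk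
        exact hx1 (hab' ▸ hk.symm)
      · rw [zpow_add, zpow_mul, zpow_two, ← pow_two, Φ.ea.2 x' hx'E, one_zpow, one_mul, zpow_one] at hk
        exact hx'x (hk.trans hab')
    have hUC : ∀ a ∈ U, Commute u a := by
      intro a ha
      have : U ≤ centralizer ({u} : Set G) := sup_le
        (zpowers_le.2 (mem_centralizer_singleton_iff.2 hux'.eq.symm))
        (zpowers_le.2 (mem_centralizer_singleton_iff.2 huw.eq.symm))
      exact (mem_centralizer_singleton_iff.1 (this ha)).symm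
    have hUY : U ≤ normalizer (Y : Set G) := fun b hb =>
      Signalizer.mem_normalizer_of_conj_mem fun d hd => by
        have hle : Y ≤ Y.comap (MulAut.conj b).toMonoidHom := iSup_le fun a f hf => by
          have := hth b (le_normalizer (hUE hb)) (hEC x hx b (hUE hb)) a (hA a.2.1) f hf
          rw [hEC a (hA a.2.1) b (hUE hb)] at this
          exact hθY a a.2.1 a.2.2 this
        exact hle hd
    have hle : Y ≤ Y.comap (MulAut.conj u).toMonoidHom := by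
      refine Signalizer.le_of_elements (Signalizer.elemAb_of_le Φ.ea hUE) hU4 _ Y
        (Signalizer.not_dvd_card_of_le hYle (Signalizer.not_dvd_card_core x)) hUY fun a ha ha1 d hd => ?_
      have hax : a ≠ x := fun e => hxU (e ▸ ha)
      have haE := hUE ha
      obtain ⟨hdx, hda, hdxa⟩ := (Φ.mem_theta hx haE).1 ((hcent a haE ha1 hax).1 hd)
      have huC : u ∈ C[x] := mem_centralizer_singleton_iff.2 hux.eq
      have hux2 : u * d * u⁻¹ ∈ O[x] := conj_core_mem huC hdx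
      refine (hcent a haE ha1 hax).2 ((Φ.mem_theta hx haE).2 ⟨hux2, ?_, ?_⟩)
      · exact Φ.fx_conj_pair hx hxV hB hx'1 hx'x hw hw1 hux hux' huw haE ha1 (hUC a ha) hdx hda
      · exact Φ.fx_conj_pair hx hxV hB hx'1 hx'x hw hw1 hux hux' huw (mul_mem hx haE)
          (fun e => hax (by rw [← inv_eq_of_mul_eq_one_right e,
            inv_eq_of_mul_eq_one_right (by rw [← pow_two, Φ.ea.2 x hx])]))
          (hux.mul_right (hUC a ha)) hdx hdxa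
    exact hle hc

end Cfsg.Agent.J2Core
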