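import Cfsg.Agent.Lib.J2Core.Klein
import Cfsg.Agent.Lib.Signalizer.Core
import Cfsg.Agent.Lib.Cores.Basic
import Cfsg.Prelude.Def_Local

/-!
# Two classes of involutions with `C(γ)` having Sylow 2-subgroup `E ≅ E₁₆`

* `Frame G`        : `E`, its four-group `V` of involutions of the first class, and the data on centralisers
* `Frame.InB γ e`  : `e ∈ E` is central in `C(γ)` modulo the core; `exists_proj`, `inB_iff`, `inB_symm`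
* `Frame.LData γ L` : the normal subgroup of `C(γ)` over `L₂(q)`, on the level of `G`; `exists_ldata`
-/

set_option autoImplicit false
set_option linter.style.haveILetI false
set_option linter.unusedSectionVars false

namespace Cfsg.Agent.J2Core

open Subgroup
open scoped Pointwise

universe u

/-- The configuration. -/
structure Frame (G : Type u) [Group G] where
  E : Subgroup G
  V : Subgroup G
  ea : Cfsg.IsElementaryAbelian 2 E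
  card : Nat.card E = 16
  le : V ≤ E
  cardV : Nat.card V = 4
  norm : ∀ g ∈ normalizer (E : Set G), g ∈ normalizer (V : Set G)
  maxi : ∀ γ ∈ E, γ ∉ V → ∀ T : Subgroup G, IsPGroup 2 T → E ≤ T →
    T ≤ centralizer ({γ} : Set G) → T = E
  good : ∀ v ∈ V, v ≠ 1 → ∀ u : G, orderOf u = 2 → u * v = v * u →
    Cfsg.centralizerPPrimeCore 2 u ⊓ centralizer ({v} : Set G) ≤ Cfsg.centralizerPPrimeCore 2 v
  meet : ∀ v ∈ V, v ≠ 1 → ∀ γ ∈ E, γ ∉ V → ∀ c : G, Commute c v → Commute c γ →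
    ∃ d ∈ Cfsg.centralizerPPrimeCore 2 v, ∃ e ∈ E, c = d * e
  three : ∀ γ ∈ E, γ ∉ V → ∃ τ ∈ normalizer (E : Set G), Odd (orderOf τ) ∧ τ * γ * τ⁻¹ = γ ∧
    ∀ v ∈ V, τ * v * τ⁻¹ = v → v = 1
  trans : ∀ γ ∈ E, γ ∉ V → ∀ γ' ∈ E, γ' ∉ V → ∃ g ∈ normalizer (E : Set G), g * γ * g⁻¹ = γ'

variable {G : Type u} [Group G] [Finite G] (Φ : Frame G)

local notation "C[" γ "]" => centralizer ({γ} : Set G)
local notation "O[" γ "]" => Cfsg.centralizerPPrimeCore 2 γ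

theorem Frame.cV : Cfsg.IsElementaryAbelian 2 Φ.V := Signalizer.elemAb_of_le Φ.ea Φ.le

omit [Finite G] in
theorem Frame.comm {a b : G} (ha : a ∈ Φ.E) (hb : b ∈ Φ.E) : a * b = b * a :=
  Signalizer.commute_of_isMulCommutative Φ.ea.1 ha hb

omit [Finite G] in
theorem Frame.mem_C {a b : G} (ha : a ∈ Φ.E) (hb : b ∈ Φ.E) : a ∈ C[b] :=
  mem_centralizer_singleton_iff.2 (Φ.comm ha hb)

theorem mem_core_iff {γ c : G} (hc : c ∈ C[γ]) :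
    c ∈ O[γ] ↔ (⟨c, hc⟩ : ↥C[γ]) ∈ Cfsg.pPrimeCore 2 ↥C[γ] :=
  ⟨fun ⟨d, hd, e⟩ => (show d = ⟨c, hc⟩ from Subtype.ext e) ▸ hd, fun h => ⟨_, h, rfl⟩⟩

theorem conj_core_mem {γ c d : G} (hc : c ∈ C[γ]) (hd : d ∈ O[γ]) : c * d * c⁻¹ ∈ O[γ] :=
  (mem_normalizer_iff.1 (Signalizer.centralizer_le_normalizer_core (p := 2) γ hc) d).1 hd

theorem core_conj {g γ c : G} (hc : c ∈ O[γ]) : g * c * g⁻¹ ∈ O[g * γ * g⁻¹] := by
  rw [← Signalizer.map_conj_centralizerPPrimeCore]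
  exact ⟨c, hc, rfl⟩

theorem eq_one_of_core {γ c : G} (hc : c ∈ O[γ]) (h2 : c * c = 1) : c = 1 := by
  haveI : Fact (Nat.Prime 2) := ⟨Nat.prime_two⟩
  refine orderOf_eq_one_iff.1 (Nat.eq_one_of_dvd_coprimes ?_
    (orderOf_dvd_of_pow_eq_one (by rw [pow_two, h2] : c ^ 2 = 1)) (Subgroup.orderOf_dvd_natCard _ hc))
  exact Nat.prime_two.coprime_iff_not_dvd.2 (Signalizer.not_dvd_card_core γ)

theorem Frame.eq_one_of_core' {γ e : G} (he : e ∈ Φ.E) (hc : e ∈ O[γ]) : e = 1 :=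
  eq_one_of_core hc (by rw [← pow_two, Φ.ea.2 e he])

/-- A fixed point in a coset of the core, for a 2-element. -/
theorem exists_lift {γ t c : G} (ht : t * t = 1) (htC : t ∈ C[γ]) (h : t * c * t⁻¹ * c⁻¹ ∈ O[γ]) :
    ∃ d ∈ O[γ], Commute (d * c) t := by
  haveI : Fact (Nat.Prime 2) := ⟨Nat.prime_two⟩
  have hA : IsPGroup 2 (zpowers t) := Signalizer.isPGroup_zpowers_of_pow_eq_one (by rw [pow_two, ht])
  obtain ⟨d, hd, hdc⟩ := Signalizer.exists_fixed_in_coset hA (N := O[γ])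
    (zpowers_le.2 (Signalizer.centralizer_le_normalizer_core γ htC)) (Signalizer.not_dvd_card_core γ) c
    (fun a ha => by
      obtain ⟨k, rfl⟩ := mem_zpowers_iff.1 ha
      rcases Int.even_or_odd k with ⟨j, rfl⟩ | ⟨j, rfl⟩
      · rw [← two_mul, zpow_mul, zpow_two, ht, one_zpow]
        simpa using one_mem (O[γ])
      · rwa [zpow_add, zpow_mul, zpow_two, ht, one_zpow, one_mul, zpow_one])
  exact ⟨d, hd, (mem_centralizer_iff.1 hdc t (mem_zpowers t)).symm⟩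

/-- `E` is a Sylow 2-subgroup of `C(γ)`. -/
theorem Frame.exists_conj {γ : G} (hγ : γ ∈ Φ.E) (hγV : γ ∉ Φ.V) {T : Subgroup G} (hT : IsPGroup 2 T)
    (hTC : T ≤ C[γ]) : ∃ g ∈ C[γ], ∀ t ∈ T, g * t * g⁻¹ ∈ Φ.E := by
  haveI : Fact (Nat.Prime 2) := ⟨Nat.prime_two⟩
  have hEC : Φ.E ≤ C[γ] := fun e he => Φ.mem_C he hγ
  obtain ⟨P, hP⟩ := ((Signalizer.isPGroup_of_elemAb Φ.ea).comap_subtype :
    IsPGroup 2 (Φ.E.subgroupOf C[γ])).exists_le_sylow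
  have hPE : (P : Subgroup ↥C[γ]).map C[γ].subtype = Φ.E := Φ.maxi γ hγ hγV _ (P.isPGroup'.map _)
    (fun e he => ⟨⟨e, hEC he⟩, hP he, rfl⟩) (map_subtype_le _)
  obtain ⟨Q, hQ⟩ := (hT.comap_subtype : IsPGroup 2 (T.subgroupOf C[γ])).exists_le_sylow
  obtain ⟨⟨g, hg⟩, hgQ⟩ := MulAction.exists_smul_eq ↥C[γ] Q P
  refine ⟨g, hg, fun t ht => hPE ▸ ?_⟩
  refine ⟨⟨g, hg⟩ * ⟨t, hTC ht⟩ * ⟨g, hg⟩⁻¹, ?_, rfl⟩
  rw [← hgQ]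
  exact ⟨⟨t, hTC ht⟩, hQ ht, rfl⟩

/-- `e` lies in `E` and is central in `C(γ)` modulo the core. -/
def Frame.InB (γ e : G) : Prop := e ∈ Φ.E ∧ ∀ c ∈ C[γ], c * e * c⁻¹ * e⁻¹ ∈ O[γ]

/-- The data on `C(γ)` modulo its core. -/
structure Frame.LData (γ : G) (L : Subgroup G) : Prop where
  core : O[γ] ≤ L
  le : L ≤ C[γ]
  normal : ∀ c ∈ C[γ], ∀ l ∈ L, c * l * c⁻¹ ∈ L
  V_le : Φ.V ≤ L
  inf : ∀ e ∈ Φ.E, e ∈ L → e ∈ Φ.V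
  cyclic : ∀ v ∈ Φ.V, v ≠ 1 → ∀ r : ℕ, r.Prime → r ≠ 2 →
    (∃ y ∈ L, Commute y v ∧ y ∉ O[γ] ∧ y ^ r ∈ O[γ]) →
    ∀ R : Subgroup G, IsPGroup r R → R ≤ L → ∃ g ∈ R, ∀ a ∈ R, ∃ k : ℤ, a * (g ^ k)⁻¹ ∈ O[γ]
  cent : ∀ y ∈ L, Odd (orderOf y) → (∀ v ∈ Φ.V, y * v * y⁻¹ * v⁻¹ ∈ O[γ]) → y ∈ O[γ]
  final : (∀ v ∈ Φ.V, v ≠ 1 → ∀ y ∈ L, Odd (orderOf y) → Commute y v → y ∈ O[γ]) →
    ∀ v ∈ Φ.V, v ≠ 1 → ∀ y : G, Odd (orderOf y) → Commute y v → Commute y γ → y ∈ O[γ]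

theorem Frame.exists_quot {γ τ : G} (hγ : γ ∈ Φ.E) (hγV : γ ∉ Φ.V) (hτ : τ ∈ normalizer (Φ.E : Set G))
    (hodd : Odd (orderOf τ)) (hfix : τ * γ * τ⁻¹ = γ) (hfpf : ∀ v ∈ Φ.V, τ * v * τ⁻¹ = v → v = 1) :
    (∀ e ∈ Φ.E, τ * e * τ⁻¹ = e → Φ.InB γ e) ∧ ∃ L, Φ.LData γ L := by
  haveI : Fact (Nat.Prime 2) := ⟨Nat.prime_two⟩
  set O : Subgroup ↥C[γ] := Cfsg.pPrimeCore 2 ↥C[γ] with hO
  haveI : O.Normal := Cores.pPrimeCore_normal 2 _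
  have hEC : Φ.E ≤ C[γ] := fun e he => Φ.mem_C he hγ
  have hτC : τ ∈ C[γ] := mem_centralizer_singleton_iff.2 (mul_inv_eq_iff_eq_mul.1 hfix)
  set π := QuotientGroup.mk' O with hπ
  have hπs : Function.Surjective π := QuotientGroup.mk'_surjective O
  have hker : ∀ c (hc : c ∈ C[γ]), π ⟨c, hc⟩ = 1 ↔ c ∈ O[γ] := fun c hc =>
    (QuotientGroup.eq_one_iff _).trans (mem_core_iff hc).symm
  obtain ⟨P, hP⟩ : ∃ P : Sylow 2 ↥C[γ], (P : Subgroup ↥C[γ]) = Φ.E.subgroupOf C[γ] := by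
    obtain ⟨P, hP⟩ := ((Signalizer.isPGroup_of_elemAb Φ.ea).comap_subtype :
      IsPGroup 2 (Φ.E.subgroupOf C[γ])).exists_le_sylow
    refine ⟨P, le_antisymm (fun p hp => ?_) hP⟩
    have h := Φ.maxi γ hγ hγV _ (P.isPGroup'.map C[γ].subtype)
      (fun e he => ⟨⟨e, hEC he⟩, hP he, rfl⟩) (map_subtype_le _)
    exact h ▸ mem_map_of_mem C[γ].subtype hp
  set Pq : Sylow 2 (↥C[γ] ⧸ O) := P.mapSurjective (f := π) hπs with hPq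
  have hmemP : ∀ {q}, q ∈ (Pq : Subgroup _) ↔ ∃ e, ∃ he : e ∈ Φ.E, π ⟨e, hEC he⟩ = q := by
    intro q
    show q ∈ (P : Subgroup ↥C[γ]).map π ↔ _
    rw [hP]
    exact ⟨fun ⟨a, ha, e⟩ => ⟨a, ha, e⟩, fun ⟨e, he, h⟩ => ⟨⟨e, hEC he⟩, he, h⟩⟩
  set Vq : Subgroup (↥C[γ] ⧸ O) := (Φ.V.subgroupOf C[γ]).map π with hVq
  have hmemV : ∀ {q}, q ∈ Vq ↔ ∃ v, ∃ hv : v ∈ Φ.V, π ⟨v, hEC (Φ.le hv)⟩ = q := by
    intro q
    exact ⟨fun ⟨a, ha, e⟩ => ⟨a, ha, e⟩, fun ⟨e, he, h⟩ => ⟨⟨e, hEC (Φ.le he)⟩, he, h⟩⟩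
  have hinj : ∀ a b (ha : a ∈ Φ.E) (hb : b ∈ Φ.E), π ⟨a, hEC ha⟩ = π ⟨b, hEC hb⟩ → a = b := by
    intro a b ha hb h
    have h1 : π ⟨a * b⁻¹, hEC (mul_mem ha (inv_mem hb))⟩ = 1 := by
      rw [show (⟨a * b⁻¹, hEC (mul_mem ha (inv_mem hb))⟩ : ↥C[γ]) = ⟨a, hEC ha⟩ * ⟨b, hEC hb⟩⁻¹ from rfl,
        map_mul, map_inv, h, mul_inv_cancel]
    exact mul_inv_eq_one.1 (Φ.eq_one_of_core' (mul_mem ha (inv_mem hb)) ((hker _ _).1 h1))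
  have hVinE : Vq ≤ (Pq : Subgroup _) := fun q hq => by
    obtain ⟨v, hv, rfl⟩ := hmemV.1 hq
    exact hmemP.2 ⟨v, Φ.le hv, rfl⟩
  have hnormE : ∀ {n : ↥C[γ]}, π n ∈ normalizer ((Pq : Subgroup (↥C[γ] ⧸ O)) : Set (↥C[γ] ⧸ O)) →
      ∃ m : ↥C[γ], π m = π n ∧ (m : G) ∈ normalizer (Φ.E : Set G) := by
    intro n hn
    -- Frattini: `n` moves `P` inside `O P`
    have hPn : (MulAut.conj n • (P : Subgroup ↥C[γ])) ≤ O ⊔ (P : Subgroup ↥C[γ]) := by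
      rintro _ ⟨p, hp, rfl⟩
      have h1 : π (n * p * n⁻¹) ∈ (P : Subgroup ↥C[γ]).map π := by
        rw [map_mul, map_mul, map_inv]
        exact (mem_normalizer_iff.1 hn _).1 (mem_map_of_mem π hp)
      obtain ⟨p', hp', he⟩ := h1
      have h2 : n * p * n⁻¹ * p'⁻¹ ∈ O := (QuotientGroup.eq_one_iff _).1 (by
        rw [← QuotientGroup.mk'_apply, map_mul, map_inv, ← he, mul_inv_cancel])
      have := mul_mem (mem_sup_left (T := (P : Subgroup ↥C[γ])) h2) (mem_sup_right (S := O) hp')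
      rwa [inv_mul_cancel_right] at this
    set K := O ⊔ (P : Subgroup ↥C[γ])
    let P1 : Sylow 2 K := P.subtype le_sup_right
    let P2 : Sylow 2 K := (n • P).subtype hPn
    obtain ⟨k, hk⟩ := MulAction.exists_smul_eq K P2 P1
    have hkE : ∀ p ∈ (P : Subgroup ↥C[γ]), (k : ↥C[γ]) * n * p * ((k : ↥C[γ]) * n)⁻¹ ∈ (P : Subgroup ↥C[γ]) := by
      intro p hp
      have hq : n * p * n⁻¹ ∈ K := hPn ⟨p, hp, rfl⟩
      have : k * ⟨n * p * n⁻¹, hq⟩ * k⁻¹ ∈ (P1 : Subgroup K) := by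
        rw [← hk]
        exact ⟨⟨n * p * n⁻¹, hq⟩, ⟨p, hp, rfl⟩, rfl⟩
      have h2 : ((k * ⟨n * p * n⁻¹, hq⟩ * k⁻¹ : K) : ↥C[γ]) ∈ (P : Subgroup ↥C[γ]) := this
      simpa [mul_assoc] using h2
    have hkK : (k : ↥C[γ]) ∈ O ⊔ (P : Subgroup ↥C[γ]) := k.2
    rw [← SetLike.mem_coe, coe_mul_of_right_le_normalizer_left O (P : Subgroup ↥C[γ])
      (by rw [normalizer_eq_top O]; exact le_top)] at hkK
    obtain ⟨o, ho, p₀, hp₀, hkop⟩ := hkK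
    have hkop' : o * p₀ = (k : ↥C[γ]) := hkop
    refine ⟨p₀⁻¹ * k * n, ?_, ?_⟩
    · rw [← hkop', map_mul, map_mul, map_mul, map_inv, show π o = 1 from (QuotientGroup.eq_one_iff o).2 ho,
        one_mul, inv_mul_cancel, one_mul]
    · refine Signalizer.mem_normalizer_of_conj_mem fun e he => ?_
      have h1 := hkE ⟨e, hEC he⟩ (hP ▸ he)
      have h2 : p₀⁻¹ * ((k : ↥C[γ]) * n * ⟨e, hEC he⟩ * ((k : ↥C[γ]) * n)⁻¹) * p₀ ∈ (P : Subgroup ↥C[γ]) :=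
        mul_mem (mul_mem (inv_mem hp₀) h1) hp₀
      rw [hP, mem_subgroupOf] at h2
      convert h2 using 1
      simp only [Subgroup.coe_mul, Subgroup.coe_inv]
      group
  have hcore : Cfsg.oddCore (↥C[γ] ⧸ O) = ⊥ := Cores.pPrimeCore_quotient_self 2
  have hfixq : ∀ e (he : e ∈ Φ.E), τ * e * τ⁻¹ = e →
      π ⟨τ, hτC⟩ * π ⟨e, hEC he⟩ * (π ⟨τ, hτC⟩)⁻¹ = π ⟨e, hEC he⟩ := fun e he h => by
    rw [← map_mul, ← map_inv, ← map_mul]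
    exact congrArg π (Subtype.ext h)
  have hcard : Nat.card (Pq : Subgroup (↥C[γ] ⧸ O)) = 16 := by
    rw [← Φ.card]
    refine (Nat.card_congr (Equiv.ofBijective (fun e : Φ.E => (⟨π ⟨e, hEC e.2⟩, hmemP.2 ⟨e, e.2, rfl⟩⟩ :
      (Pq : Subgroup (↥C[γ] ⧸ O)))) ⟨fun a b h => Subtype.ext (hinj _ _ a.2 b.2 (congrArg Subtype.val h)),
        fun q => ?_⟩)).symm
    obtain ⟨e, he, h⟩ := hmemP.1 q.2
    exact ⟨⟨e, he⟩, Subtype.ext h⟩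
  have hK : KHyp Pq Vq (π ⟨γ, hEC hγ⟩) (π ⟨τ, hτC⟩) := by
    refine ⟨hcore, ⟨⟨⟨fun a b => Subtype.ext ?_⟩⟩, fun q hq => ?_⟩, hcard, hVinE, ?_, ?_, hmemP.2 ⟨γ, hγ, rfl⟩,
      ?_, fun g hg => ?_, ?_, hodd.of_dvd_nat ?_, fun q hq h => ?_⟩
    · obtain ⟨e, he, h1⟩ := hmemP.1 a.2
      obtain ⟨f, hf, h2⟩ := hmemP.1 b.2
      show (a : ↥C[γ] ⧸ O) * b = b * a
      rw [← h1, ← h2, ← map_mul, ← map_mul]
      exact congrArg π (Subtype.ext (Φ.comm he hf))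
    · obtain ⟨e, he, rfl⟩ := hmemP.1 hq
      rw [← map_pow]
      exact (congrArg π (Subtype.ext (Φ.ea.2 e he) : (⟨e, hEC he⟩ : ↥C[γ]) ^ 2 = 1)).trans (map_one π)
    · rw [← Φ.cardV]
      refine (Nat.card_congr (Equiv.ofBijective (fun v : Φ.V => (⟨π ⟨v, hEC (Φ.le v.2)⟩,
        hmemV.2 ⟨v, v.2, rfl⟩⟩ : Vq)) ⟨fun a b h => Subtype.ext (hinj _ _ (Φ.le a.2) (Φ.le b.2)
          (congrArg Subtype.val h)), fun q => ?_⟩)).symm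
      obtain ⟨e, he, h⟩ := hmemV.1 q.2
      exact ⟨⟨e, he⟩, Subtype.ext h⟩
    · refine mem_center_iff.2 fun q => ?_
      obtain ⟨⟨c, hc⟩, rfl⟩ := hπs q
      rw [← map_mul, ← map_mul]
      exact congrArg π (Subtype.ext (mem_centralizer_singleton_iff.1 hc))
    · intro hq
      obtain ⟨v, hv, h⟩ := hmemV.1 hq
      exact hγV ((hinj v γ (Φ.le hv) hγ h) ▸ hv)
    · obtain ⟨n, rfl⟩ := hπs g
      obtain ⟨m, hm, hmE⟩ := hnormE hg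
      rw [← hm]
      refine Signalizer.mem_normalizer_of_conj_mem fun q hq => ?_
      obtain ⟨v, hv, rfl⟩ := hmemV.1 hq
      rw [← map_inv, ← map_mul, ← map_mul]
      exact hmemV.2 ⟨_, (mem_normalizer_iff.1 (Φ.norm _ hmE) v).1 hv, rfl⟩
    · refine Signalizer.mem_normalizer_of_conj_mem fun q hq => ?_
      obtain ⟨e, he, rfl⟩ := hmemP.1 hq
      rw [← map_inv, ← map_mul, ← map_mul]
      exact hmemP.2 ⟨_, (mem_normalizer_iff.1 hτ e).1 he, rfl⟩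
    · exact (orderOf_map_dvd π _).trans (by rw [Subgroup.orderOf_mk])
    · obtain ⟨v, hv, rfl⟩ := hmemV.1 hq
      rw [← map_mul, ← map_inv, ← map_mul] at h
      have h' := hinj _ _ ((mem_normalizer_iff.1 hτ v).1 (Φ.le hv)) (Φ.le hv) h
      exact (congrArg π (Subtype.ext (hfpf v hv h') : (⟨v, hEC (Φ.le hv)⟩ : ↥C[γ]) = 1)).trans (map_one π)
  obtain ⟨Lq, hL⟩ := hK.exists_data
  refine ⟨fun e he hτe => ⟨he, fun c hc => ?_⟩, (Lq.comap π).map C[γ].subtype, ?_⟩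
  · have hcen := mem_center_iff.1 (hL.central _ (hmemP.2 ⟨e, he, rfl⟩) (hfixq e he hτe)) (π ⟨c, hc⟩)
    refine (hker _ (mul_mem (mul_mem (mul_mem hc (hEC he)) (inv_mem hc)) (inv_mem (hEC he)))).1 ?_
    show π (⟨c, hc⟩ * ⟨e, hEC he⟩ * ⟨c, hc⟩⁻¹ * ⟨e, hEC he⟩⁻¹) = 1
    rw [map_mul, map_mul, map_mul, hcen, map_inv, map_inv, mul_inv_cancel_right, mul_inv_cancel]
  have hmemL : ∀ {c : G}, c ∈ (Lq.comap π).map C[γ].subtype ↔ ∃ hc : c ∈ C[γ], π ⟨c, hc⟩ ∈ Lq := by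
    intro c
    exact ⟨fun ⟨d, hd, e⟩ => e ▸ ⟨d.2, hd⟩, fun ⟨hc, h⟩ => ⟨⟨c, hc⟩, h, rfl⟩⟩
  have hcomm : ∀ {a b : G} (ha : a ∈ C[γ]) (hb : b ∈ C[γ]), a * b * a⁻¹ * b⁻¹ ∈ O[γ] →
      Commute (π ⟨a, ha⟩) (π ⟨b, hb⟩) := by
    intro a b ha hb h
    have h1 := (hker _ (mul_mem (mul_mem (mul_mem ha hb) (inv_mem ha)) (inv_mem hb))).2 h
    change π (⟨a, ha⟩ * ⟨b, hb⟩ * ⟨a, ha⟩⁻¹ * ⟨b, hb⟩⁻¹) = 1 at h1
    rw [map_mul, map_mul, map_mul, map_inv, map_inv, mul_inv_eq_one, mul_inv_eq_iff_eq_mul] at h1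
    exact h1
  refine ⟨fun c hc => ?_, map_subtype_le _, fun c hc l hl => ?_, fun v hv => ?_, fun e he hel => ?_, ?_, ?_, ?_⟩
  · have hcC := Signalizer.core_le_centralizer γ hc
    exact hmemL.2 ⟨hcC, by rw [(hker c hcC).2 hc]; exact one_mem _⟩
  · obtain ⟨hl', hlq⟩ := hmemL.1 hl
    refine hmemL.2 ⟨mul_mem (mul_mem hc hl') (inv_mem hc), ?_⟩
    show π (⟨c, hc⟩ * ⟨l, hl'⟩ * ⟨c, hc⟩⁻¹) ∈ Lq
    rw [map_mul, map_mul, map_inv]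
    exact hL.normal.conj_mem _ hlq _
  · exact hmemL.2 ⟨hEC (Φ.le hv), hL.le (hmemV.2 ⟨v, hv, rfl⟩)⟩
  · obtain ⟨hc, hq⟩ := hmemL.1 hel
    obtain ⟨v, hv, h⟩ := hmemV.1 (hL.inf _ (hmemP.2 ⟨e, he, rfl⟩) hq)
    exact (hinj v e (Φ.le hv) he h) ▸ hv
  · intro v hv hv1 r hr hr2 ⟨y, hy, hyv, hy1, hyr⟩ R hR hRL
    haveI : Fact r.Prime := ⟨hr⟩
    obtain ⟨hyC, hyq⟩ := hmemL.1 hy
    set R' : Subgroup (↥C[γ] ⧸ O) := (R.subgroupOf C[γ]).map π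
    have hR'L : R' ≤ Lq := by
      rintro _ ⟨a, ha, rfl⟩
      exact (hmemL.1 (hRL ha)).2
    haveI := hL.cyclic (π ⟨v, hEC (Φ.le hv)⟩) (hmemV.2 ⟨v, hv, rfl⟩)
      (fun e => hv1 (Φ.eq_one_of_core' (Φ.le hv) ((hker _ _).1 e))) r hr hr2
      ⟨π ⟨y, hyC⟩, hyq, orderOf_eq_prime (by
        rw [← map_pow]; exact (hker _ (pow_mem hyC r)).2 hyr) (fun e => hy1 ((hker _ _).1 e)),
        (show Commute (⟨y, hyC⟩ : ↥C[γ]) ⟨v, hEC (Φ.le hv)⟩ from Subtype.ext hyv.eq).map π⟩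
      R' ((hR.comap_subtype).map _) hR'L
    obtain ⟨⟨g', hg'⟩, hgen⟩ := IsCyclic.exists_generator (α := R')
    obtain ⟨⟨g, hgC⟩, hgR, rfl⟩ := hg'
    refine ⟨g, hgR, fun a ha => ?_⟩
    have haC := map_subtype_le _ (hRL ha)
    obtain ⟨k, hk⟩ := mem_zpowers_iff.1 (hgen ⟨π ⟨a, haC⟩, ⟨a, haC⟩, ha, rfl⟩)
    refine ⟨k, (hker _ (mul_mem haC (inv_mem (zpow_mem hgC k)))).1 ?_⟩
    show π (⟨a, haC⟩ * (⟨g, hgC⟩ ^ k)⁻¹) = 1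
    rw [map_mul, map_inv, map_zpow]
    have hk' : π ⟨g, hgC⟩ ^ k = π ⟨a, haC⟩ := by simpa using congrArg Subtype.val hk
    rw [hk', mul_inv_cancel]
  · intro y hy hyo hyv
    obtain ⟨hyC, hyq⟩ := hmemL.1 hy
    refine (hker y hyC).1 (hL.cent _ hyq (hyo.of_dvd_nat ((orderOf_map_dvd π _).trans
      (by rw [Subgroup.orderOf_mk]))) fun q hq => ?_)
    obtain ⟨v, hv, rfl⟩ := hmemV.1 hq
    exact hcomm hyC (hEC (Φ.le hv)) (hyv v hv)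
  · intro hall v hv hv1 y hyo hyv hyγ
    have hyC : y ∈ C[γ] := mem_centralizer_singleton_iff.2 hyγ.eq
    refine (hker y hyC).1 (hL.final ?_ (π ⟨v, hEC (Φ.le hv)⟩) (hmemV.2 ⟨v, hv, rfl⟩)
      (fun e => hv1 (Φ.eq_one_of_core' (Φ.le hv) ((hker _ _).1 e))) _
      (hyo.of_dvd_nat ((orderOf_map_dvd π _).trans (by rw [Subgroup.orderOf_mk])))
      ((show Commute (⟨y, hyC⟩ : ↥C[γ]) ⟨v, hEC (Φ.le hv)⟩ from Subtype.ext hyv.eq).map π))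
    intro q hq hq1 z hz hzo hzq
    obtain ⟨w, hw, rfl⟩ := hmemV.1 hq
    have hw1 : w ≠ 1 := fun e => hq1 ((hker _ _).2 (e ▸ one_mem _))
    obtain ⟨⟨c, hc⟩, rfl⟩ := hπs z
    have hwC := hEC (Φ.le hw)
    have hcw : w * c * w⁻¹ * c⁻¹ ∈ O[γ] := by
      refine (hker _ (mul_mem (mul_mem (mul_mem hwC hc) (inv_mem hwC)) (inv_mem hc))).1 ?_
      show π (⟨w, hwC⟩ * ⟨c, hc⟩ * ⟨w, hwC⟩⁻¹ * ⟨c, hc⟩⁻¹) = 1
      rw [map_mul, map_mul, map_mul, map_inv, map_inv, ← hzq.eq, mul_inv_cancel_right, mul_inv_cancel]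
    obtain ⟨d, hd, hdc⟩ := exists_lift (by rw [← pow_two, Φ.ea.2 w (Φ.le hw)]) hwC hcw
    have hdcC : d * c ∈ C[γ] := mul_mem (Signalizer.core_le_centralizer γ hd) hc
    have hπdc : π ⟨d * c, hdcC⟩ = π ⟨c, hc⟩ := by
      rw [show (⟨d * c, hdcC⟩ : ↥C[γ]) = ⟨d, Signalizer.core_le_centralizer γ hd⟩ * ⟨c, hc⟩ from rfl,
        map_mul, (hker _ _).2 hd, one_mul]
    obtain ⟨a, b, hab, haz, hbz, ⟨k, hk⟩, hb⟩ := Transfer.exists_pPart_mul (p := 2) (d * c)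
    have hbC : b ∈ C[γ] := (zpowers_le.2 hdcC) hbz
    have hdcL : d * c ∈ (Lq.comap π).map C[γ].subtype := hmemL.2 ⟨hdcC, hπdc ▸ hz⟩
    have hb1 : b ∈ O[γ] := hall w hw hw1 b ((zpowers_le.2 hdcL) hbz) (Nat.coprime_two_right.1 hb) (by
      obtain ⟨i, rfl⟩ := mem_zpowers_iff.1 hbz
      exact hdc.zpow_left i)
    have haC : a ∈ C[γ] := (zpowers_le.2 hdcC) haz
    have hzb : π ⟨c, hc⟩ = π ⟨a, haC⟩ := by
      rw [← hπdc, show (⟨d * c, hdcC⟩ : ↥C[γ]) = ⟨a, haC⟩ * ⟨b, hbC⟩ from Subtype.ext hab,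
        map_mul, (hker _ _).2 hb1, mul_one]
    have h2 : orderOf (π ⟨c, hc⟩) ∣ 2 ^ k := by
      rw [hzb, ← hk]
      exact (orderOf_map_dvd π _).trans (by rw [Subgroup.orderOf_mk])
    exact orderOf_eq_one_iff.1 (Nat.eq_one_of_dvd_coprimes
      ((Nat.coprime_two_right.2 hzo).pow_right k) dvd_rfl h2)

/-! ### The elements central modulo the core -/

theorem Frame.inB_self {γ : G} (hγ : γ ∈ Φ.E) : Φ.InB γ γ :=
  ⟨hγ, fun c hc => by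
    rw [mem_centralizer_singleton_iff.1 hc, mul_inv_cancel_right, mul_inv_cancel]; exact one_mem _⟩

omit [Finite G] in
theorem Frame.inB_one (γ : G) : Φ.InB γ 1 := ⟨one_mem _, fun c _ => by simp⟩

theorem Frame.inB_mul {γ a b : G} (ha : Φ.InB γ a) (hb : Φ.InB γ b) (hγ : γ ∈ Φ.E) : Φ.InB γ (a * b) :=
  ⟨mul_mem ha.1 hb.1, fun c hc => by
    have h1 := ha.2 c hc
    have h2 := conj_core_mem (Φ.mem_C ha.1 hγ) (hb.2 c hc)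
    have := mul_mem h1 h2
    rwa [show c * a * c⁻¹ * a⁻¹ * (a * (c * b * c⁻¹ * b⁻¹) * a⁻¹) = c * (a * b) * c⁻¹ * (a * b)⁻¹ by group] at this⟩

/-- The elements of `InB γ` are the fixed points of a three-cycle. -/
theorem Frame.inB_iff {γ τ : G} (hγ : γ ∈ Φ.E) (hγV : γ ∉ Φ.V) (hτ : τ ∈ normalizer (Φ.E : Set G))
    (hodd : Odd (orderOf τ)) (hfix : τ * γ * τ⁻¹ = γ) (hfpf : ∀ v ∈ Φ.V, τ * v * τ⁻¹ = v → v = 1) {e : G} :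
    Φ.InB γ e ↔ e ∈ Φ.E ∧ τ * e * τ⁻¹ = e := by
  refine ⟨fun h => ⟨h.1, ?_⟩, fun h => (Φ.exists_quot hγ hγV hτ hodd hfix hfpf).1 e h.1 h.2⟩
  exact mul_inv_eq_one.1 (Φ.eq_one_of_core' (mul_mem ((mem_normalizer_iff.1 hτ e).1 h.1) (inv_mem h.1))
    (h.2 τ (mem_centralizer_singleton_iff.2 (mul_inv_eq_iff_eq_mul.1 hfix))))

theorem Frame.exists_ldata {γ : G} (hγ : γ ∈ Φ.E) (hγV : γ ∉ Φ.V) : ∃ L, Φ.LData γ L := by
  obtain ⟨τ, hτ, hodd, hfix, hfpf⟩ := Φ.three γ hγ hγV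
  exact (Φ.exists_quot hγ hγV hτ hodd hfix hfpf).2

theorem Frame.eq_one_of_inB {γ v : G} (hγ : γ ∈ Φ.E) (hγV : γ ∉ Φ.V) (h : Φ.InB γ v) (hv : v ∈ Φ.V) :
    v = 1 := by
  obtain ⟨τ, hτ, hodd, hfix, hfpf⟩ := Φ.three γ hγ hγV
  exact hfpf v hv ((Φ.inB_iff hγ hγV hτ hodd hfix hfpf).1 h).2

theorem Frame.exists_proj {γ e : G} (hγ : γ ∈ Φ.E) (hγV : γ ∉ Φ.V) (he : e ∈ Φ.E) :
    ∃ v ∈ Φ.V, Φ.InB γ (e * v) := by
  obtain ⟨τ, hτ, hodd, hfix, hfpf⟩ := Φ.three γ hγ hγV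
  obtain ⟨v, hv, h⟩ := J2Core.exists_proj Φ.ea Φ.card Φ.le Φ.cardV hodd hτ (Φ.norm τ hτ) hγ hγV hfix hfpf he
  exact ⟨v, hv, (Φ.inB_iff hγ hγV hτ hodd hfix hfpf).2 ⟨mul_mem he (Φ.le hv), h⟩⟩

/-- The cliques partition. -/
theorem Frame.inB_trans {γ β e : G} (hγ : γ ∈ Φ.E) (hγV : γ ∉ Φ.V) (hβ : Φ.InB γ β) (hβ1 : β ≠ 1) :
    β ∉ Φ.V ∧ (Φ.InB β e ↔ Φ.InB γ e) := by
  obtain ⟨τ, hτ, hodd, hfix, hfpf⟩ := Φ.three γ hγ hγV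
  have hV : β ∉ Φ.V := fun h => hβ1 (Φ.eq_one_of_inB hγ hγV hβ h)
  have hb := (Φ.inB_iff hγ hγV hτ hodd hfix hfpf).1 hβ
  exact ⟨hV, (Φ.inB_iff hβ.1 hV hτ hodd hb.2 hfpf).trans (Φ.inB_iff hγ hγV hτ hodd hfix hfpf).symm⟩

end Cfsg.Agent.J2Core
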