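import Cfsg.Agent.Lib.J2Core.Closure

/-!
# Inverted elements in the lines

* `Frame.mem_core_of_odd` : odd elements of `C(v) ⊓ C(γ)` lie in `O(C(v))`
* `Frame.two_le`          : 2-subgroups of `L` are conjugate into `V`
* `Frame.exists_inverted` : from an `r`-element of `L ⊓ C(v)` one inverted modulo the core
* `Frame.transport`       : such elements move along `N(E)`
-/

set_option autoImplicit false
set_option linter.style.haveILetI false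
set_option linter.unusedSectionVars false

namespace Cfsg.Agent.J2Core

open Subgroup

universe u

variable {G : Type u} [Group G] [Finite G] (Φ : Frame G)

local notation "C[" γ "]" => centralizer ({γ} : Set G)
local notation "O[" γ "]" => Cfsg.centralizerPPrimeCore 2 γ

omit [Finite G] in
theorem Frame.ne_one {γ : G} (hγV : γ ∉ Φ.V) : γ ≠ 1 := fun e => hγV (e ▸ one_mem _)

omit [Finite G] in
theorem Frame.inv_eq {e : G} (he : e ∈ Φ.E) : e⁻¹ = e :=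
  inv_eq_of_mul_eq_one_right (by rw [← pow_two, Φ.ea.2 e he])

omit [Finite G] in
theorem Frame.orderOf_eq {e : G} (he : e ∈ Φ.E) (he1 : e ≠ 1) : orderOf e = 2 :=
  haveI : Fact (Nat.Prime 2) := ⟨Nat.prime_two⟩
  orderOf_eq_prime (Φ.ea.2 e he) he1

theorem Frame.mem_core_of_odd {v γ y : G} (hv : v ∈ Φ.V) (hv1 : v ≠ 1) (hγ : γ ∈ Φ.E) (hγV : γ ∉ Φ.V)
    (hyv : Commute y v) (hyγ : Commute y γ) (hy : Odd (orderOf y)) : y ∈ O[v] := by
  obtain ⟨d, hd, e, he, hde⟩ := Φ.meet v hv hv1 γ hγ hγV y hyv hyγ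
  have heC : e ∈ C[v] := Φ.mem_C he (Φ.le hv)
  have hp : ∀ n : ℕ, (d * e) ^ n * (e ^ n)⁻¹ ∈ O[v] := by
    intro n
    induction n with
    | zero => simp
    | succ n ih =>
      have := mul_mem ih (conj_core_mem (pow_mem heC n) hd)
      rwa [show (d * e) ^ n * (e ^ n)⁻¹ * (e ^ n * d * (e ^ n)⁻¹) =
        (d * e) ^ (n + 1) * (e ^ (n + 1))⁻¹ by rw [pow_succ, pow_succ e n]; group] at this
  have h1 := hp (orderOf y)
  rw [← hde, pow_orderOf_eq_one, one_mul, inv_mem_iff] at h1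
  obtain ⟨k, hk⟩ := hy
  rw [hk, pow_succ, pow_mul, Φ.ea.2 e he, one_pow, one_mul] at h1
  rw [hde, Φ.eq_one_of_core' he h1, mul_one]
  exact hd

theorem Frame.two_le {γ : G} (hγ : γ ∈ Φ.E) (hγV : γ ∉ Φ.V) {L : Subgroup G} (hL : Φ.LData γ L)
    {T : Subgroup G} (hT : IsPGroup 2 T) (hTL : T ≤ L) : ∃ g ∈ C[γ], ∀ t ∈ T, g * t * g⁻¹ ∈ Φ.V := by
  obtain ⟨g, hg, hgT⟩ := Φ.exists_conj hγ hγV hT (hTL.trans hL.le)
  exact ⟨g, hg, fun t ht => hL.inf _ (hgT t ht) (hL.normal g hg t (hTL ht))⟩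

/-- Commuting modulo the core with two points of `V` is commuting with all of it. -/
theorem Frame.cent_of_two {γ y v v' : G} (hγ : γ ∈ Φ.E) (hγV : γ ∉ Φ.V) {L : Subgroup G} (hL : Φ.LData γ L)
    (hy : y ∈ L) (hodd : Odd (orderOf y)) (hv : v ∈ Φ.V) (hv1 : v ≠ 1) (hv' : v' ∈ Φ.V) (hv'1 : v' ≠ 1)
    (hne : v ≠ v') (h1 : y * v * y⁻¹ * v⁻¹ ∈ O[γ]) (h2 : y * v' * y⁻¹ * v'⁻¹ ∈ O[γ]) : y ∈ O[γ] :=
  hL.cent y hy hodd fun w hw =>
    (Φ.fx_of_two hγ hγV (hL.le hy) hv hv1 hv' hv'1 hne h1 h2).2 w (Φ.le hw)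

/-- An `r`-element of `L ⊓ C(v)` outside the core gives one inverted by the other points of `V`. -/
theorem Frame.exists_inverted {γ v v' y : G} {r : ℕ} (hr : r.Prime) (hr2 : r ≠ 2) (hγ : γ ∈ Φ.E)
    (hγV : γ ∉ Φ.V) {L : Subgroup G} (hL : Φ.LData γ L) (hv : v ∈ Φ.V) (hv1 : v ≠ 1) (hv' : v' ∈ Φ.V)
    (hv'1 : v' ≠ 1) (hne : v ≠ v') {n : ℕ} (hy : y ∈ L) (hyv : Commute y v) (hyn : orderOf y = r ^ n)
    (hyO : y ∉ O[γ]) :
    ∃ c : G, ∃ m : ℕ, Commute c γ ∧ Commute c v ∧ orderOf c = r ^ m ∧ c ∉ O[γ] ∧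
      v' * c * v'⁻¹ * c ∈ O[γ] := by
  haveI : Fact (Nat.Prime 2) := ⟨Nat.prime_two⟩
  haveI : Fact r.Prime := ⟨hr⟩
  set K : Subgroup G := L ⊓ O[v]
  have hyC := hL.le hy
  have hyK : y ∈ K := ⟨hy, Φ.mem_core_of_odd hv hv1 hγ hγV hyv
    (mem_centralizer_singleton_iff.1 hyC) (hyn ▸ (hr.odd_of_ne_two hr2).pow)⟩
  have hv'K : zpowers v' ≤ normalizer (K : Set G) :=
    Signalizer.le_normalizer_inf (zpowers_le.2 (le_normalizer (hL.V_le hv')))
      (zpowers_le.2 (Signalizer.centralizer_le_normalizer_core v (Φ.mem_C (Φ.le hv') (Φ.le hv))))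
  obtain ⟨S, hS, hv'S⟩ := Signalizer.exists_invariant_sylow (p := 2) (q := r)
    (Signalizer.isPGroup_zpowers_of_pow_eq_one (Φ.ea.2 v' (Φ.le hv'))) K
    (Signalizer.not_dvd_card_of_le inf_le_right (Signalizer.not_dvd_card_core v)) hv'K
  -- it is not contained in the core
  obtain ⟨c, hcS, hcO⟩ : ∃ c ∈ S, c ∉ O[γ] := by
    obtain ⟨s, hs⟩ := hS.exists_sylow
    obtain ⟨Q, hQ⟩ := ((IsPGroup.of_card (n := n) (by rw [Nat.card_zpowers, hyn]) :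
      IsPGroup r (zpowers y)).comap_subtype (K := K)).exists_le_sylow
    obtain ⟨k, hk⟩ := MulAction.exists_smul_eq K Q s
    have h1 : k * ⟨y, hyK⟩ * k⁻¹ ∈ (s : Subgroup K) := by
      rw [← hk]; exact ⟨⟨y, hyK⟩, hQ (mem_zpowers y), rfl⟩
    refine ⟨(k : G) * y * (k : G)⁻¹, hs ▸ ⟨_, h1, rfl⟩, fun h => hyO ?_⟩
    have := conj_core_mem (inv_mem (hL.le k.2.1)) h
    rwa [show (k : G)⁻¹ * ((k : G) * y * (k : G)⁻¹) * (k : G)⁻¹⁻¹ = y by group] at this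
  obtain ⟨m, hm⟩ : ∃ m, orderOf c = r ^ m := by
    obtain ⟨k, hk⟩ := hS.2.1 ⟨c, hcS⟩
    obtain ⟨j, -, hj⟩ := (Nat.dvd_prime_pow hr).1 (orderOf_dvd_of_pow_eq_one hk)
    exact ⟨j, by rwa [Subgroup.orderOf_mk] at hj⟩
  have hcK := hS.1 hcS
  have hcv : Commute c v := mem_centralizer_singleton_iff.1 (Signalizer.core_le_centralizer v hcK.2)
  refine ⟨c, m, mem_centralizer_singleton_iff.1 (hL.le hcK.1), hcv, hm, hcO, ?_⟩
  -- modulo the core `S` is cyclic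
  obtain ⟨g, hgS, hg⟩ := hL.cyclic v hv hv1 r hr hr2 (by
    haveI : (Cfsg.pPrimeCore 2 ↥C[γ]).Normal := Cores.pPrimeCore_normal 2 _
    classical
    have hex : ∃ i, y ^ (r ^ i) ∈ O[γ] := ⟨n, by rw [← hyn, pow_orderOf_eq_one]; exact one_mem _⟩
    obtain ⟨i, hi⟩ : ∃ i, Nat.find hex = i + 1 := Nat.exists_eq_succ_of_ne_zero fun e => hyO (by
      have := Nat.find_spec hex
      rwa [e, pow_zero, pow_one] at this)
    refine ⟨y ^ (r ^ i), pow_mem hy _, hyv.pow_left _, Nat.find_min hex (by omega), ?_⟩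
    rw [← pow_mul, ← pow_succ, ← hi]
    exact Nat.find_spec hex) S hS.2.1 (hS.1.trans inf_le_left)
  set d := v' * c * v'⁻¹ * c with hd
  have hdS : d ∈ S := mul_mem (Signalizer.conj_mem hv'S (mem_zpowers v') hcS) hcS
  refine Φ.cent_of_two hγ hγV hL (hS.1 hdS).1 ?_ hv hv1 hv' hv'1 hne ?_ ?_
  · obtain ⟨k, hk⟩ := hS.2.1 ⟨d, hdS⟩
    have h := congrArg Subtype.val hk
    exact ((hr.odd_of_ne_two hr2).pow).of_dvd_nat (orderOf_dvd_of_pow_eq_one h)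
  · refine comm_of_commute ?_
    have h1 : Commute (v' * c * v'⁻¹) v := by
      have h2 := Φ.comm (Φ.le hv') (Φ.le hv)
      exact ((show Commute v' v from h2).mul_left hcv).mul_left (show Commute v' v from h2).inv_left
    exact h1.mul_left hcv
  · -- the group is commutative modulo the core
    have hcomm : ∀ a ∈ S, ∀ b ∈ S, a * b * a⁻¹ * b⁻¹ ∈ O[γ] := by
      intro a ha b hb
      have hgC := hL.le (hS.1 hgS).1
      obtain ⟨i, hi⟩ := hg a ha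
      obtain ⟨j, hj⟩ := hg b hb
      set p := a * (g ^ i)⁻¹ with hp
      set q := b * (g ^ j)⁻¹ with hq
      have := mul_mem (mul_mem hi (conj_core_mem (zpow_mem hgC i) hj))
        (mul_mem (conj_core_mem (zpow_mem hgC j) (inv_mem hi)) (inv_mem hj))
      rwa [show p * (g ^ i * q * (g ^ i)⁻¹) * (g ^ j * p⁻¹ * (g ^ j)⁻¹ * q⁻¹) = a * b * a⁻¹ * b⁻¹ by
        have e1 : a = p * g ^ i := by rw [hp, inv_mul_cancel_right]
        have e2 : b = q * g ^ j := by rw [hq, inv_mul_cancel_right]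
        rw [e1, e2]; group] at this
    have := hcomm c hcS _ (Signalizer.conj_mem hv'S (mem_zpowers v') hcS)
    have h2 : v' * c * v'⁻¹ * c * v' * (v' * c * v'⁻¹ * c)⁻¹ * v'⁻¹ =
        (c * (v' * c * v'⁻¹) * c⁻¹ * (v' * c * v'⁻¹)⁻¹)⁻¹ := by
      have e := Φ.inv_eq (Φ.le hv')
      have hvv : v' * v' = 1 := by rw [← pow_two, Φ.ea.2 v' (Φ.le hv')]
      have hvz : ∀ z, v' * (v' * z) = z := fun z => by rw [← mul_assoc, hvv, one_mul]
      simp only [mul_inv_rev, inv_inv, e, mul_assoc, hvv, hvz, mul_one]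
    rw [hd, h2]
    exact inv_mem this

/-- Moving an inverted element. -/
theorem Frame.transport {γ v v' c g : G} {r m : ℕ} (hg : g ∈ normalizer (Φ.E : Set G))
    (h : Commute c γ ∧ Commute c v ∧ orderOf c = r ^ m ∧ c ∉ O[γ] ∧ v' * c * v'⁻¹ * c ∈ O[γ]) :
    Commute (g * c * g⁻¹) (g * γ * g⁻¹) ∧ Commute (g * c * g⁻¹) (g * v * g⁻¹) ∧
      orderOf (g * c * g⁻¹) = r ^ m ∧ g * c * g⁻¹ ∉ O[g * γ * g⁻¹] ∧
      (g * v' * g⁻¹) * (g * c * g⁻¹) * (g * v' * g⁻¹)⁻¹ * (g * c * g⁻¹) ∈ O[g * γ * g⁻¹] := by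
  obtain ⟨h1, h2, h3, h4, h5⟩ := h
  refine ⟨h1.map (MulAut.conj g), h2.map (MulAut.conj g), ?_, fun hc => h4 ?_, ?_⟩
  · rw [← h3]
    exact MulEquiv.orderOf_eq (MulAut.conj g) c
  · have := core_conj (g := g⁻¹) hc
    rwa [show g⁻¹ * (g * γ * g⁻¹) * g⁻¹⁻¹ = γ by group,
      show g⁻¹ * (g * c * g⁻¹) * g⁻¹⁻¹ = c by group] at this
  · have := core_conj (g := g) h5
    rwa [show g * (v' * c * v'⁻¹ * c) * g⁻¹ =
      g * v' * g⁻¹ * (g * c * g⁻¹) * (g * v' * g⁻¹)⁻¹ * (g * c * g⁻¹) by group] at this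

end Cfsg.Agent.J2Core
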