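import Cfsg.Agent.Lib.J2Core.Invert

/-!
# An `r`-element centralising a four-group in a coset of the core

* `Frame.exists_adjust` : lift to the centraliser of a 2-group, keeping the order an `r`-power
* `Frame.comm_of_gen`   : a subgroup cyclic modulo the core is commutative modulo it
* `exists_exact`        : an element inverted exactly, from one inverted modulo the core
* `Frame.mem_L_of_inverted` : inverted by a point of `V` puts an odd element into `L`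
-/

set_option autoImplicit false
set_option linter.style.haveILetI false
set_option linter.unusedSectionVars false

namespace Cfsg.Agent.J2Core

open Subgroup

universe u

variable {G : Type u} [Group G] [Finite G] (Φ : Frame G)

local notation "C[" γ "]" => centralizer ({γ} : Set G)
local notation "O[" γ "]" => Cfsg.centralizerPPrimeCore 2 γ

theorem exists_adjust {γ c : G} {A : Subgroup G} (hA : IsPGroup 2 A) (hAC : A ≤ C[γ]) (hcC : c ∈ C[γ])
    {r n : ℕ} (hr : r.Prime) (hcn : orderOf c = r ^ n) (h : ∀ a ∈ A, a * c * a⁻¹ * c⁻¹ ∈ O[γ]) :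
    ∃ u : G, ∃ m : ℕ, orderOf u = r ^ m ∧ u * c⁻¹ ∈ O[γ] ∧ u ∈ C[γ] ∧ ∀ a ∈ A, Commute u a := by
  haveI : Fact (Nat.Prime 2) := ⟨Nat.prime_two⟩
  haveI : Fact r.Prime := ⟨hr⟩
  obtain ⟨d, hd, hdc⟩ := Signalizer.exists_fixed_in_coset hA (N := O[γ])
    (hAC.trans (Signalizer.centralizer_le_normalizer_core γ)) (Signalizer.not_dvd_card_core γ) c h
  have hdcC : d * c ∈ C[γ] := mul_mem (Signalizer.core_le_centralizer γ hd) hcC
  -- powers stay in the coset
  have hp : ∀ t : ℕ, (d * c) ^ t * (c ^ t)⁻¹ ∈ O[γ] := by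
    intro t
    induction t with
    | zero => simp
    | succ t ih =>
      have := mul_mem ih (conj_core_mem (pow_mem hcC t) hd)
      rwa [show (d * c) ^ t * (c ^ t)⁻¹ * (c ^ t * d * (c ^ t)⁻¹) =
        (d * c) ^ (t + 1) * (c ^ (t + 1))⁻¹ by rw [pow_succ, pow_succ c t]; group] at this
  obtain ⟨p, b, hpb, hpz, hbz, ⟨m, hm⟩, hb⟩ := Transfer.exists_pPart_mul (p := r) (d * c)
  have hbO : b ∈ O[γ] := by
    obtain ⟨i, hi⟩ := mem_zpowers_iff.1 hbz
    have h1 : b ^ (r ^ n) ∈ O[γ] := by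
      rw [← hi, ← zpow_natCast, ← zpow_mul, mul_comm, zpow_mul, zpow_natCast]
      refine zpow_mem ?_ _
      have := hp (r ^ n)
      rwa [← hcn, pow_orderOf_eq_one, inv_one, mul_one, hcn] at this
    obtain ⟨k, hk⟩ := exists_pow_eq_self_of_coprime (x := b) (n := r ^ n) (Nat.Coprime.pow_left n hb.symm)
    rw [← hk]
    exact pow_mem h1 k
  refine ⟨p, m, hm, ?_, (zpowers_le.2 hdcC) hpz, fun a ha => ?_⟩
  · have hpC : p ∈ C[γ] := (zpowers_le.2 hdcC) hpz
    have h1 := mul_mem (conj_core_mem hpC (inv_mem hbO)) hd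
    rwa [show p * b⁻¹ * p⁻¹ * d = p * c⁻¹ by
      rw [show d = p * b * c⁻¹ by rw [← hpb, mul_inv_cancel_right]]; group] at h1
  · obtain ⟨i, rfl⟩ := mem_zpowers_iff.1 hpz
    exact (show Commute (d * c) a from (mem_centralizer_iff.1 hdc a ha).symm).zpow_left i

omit [Finite G] in
theorem comm_of_gen {γ g a b : G} {i j : ℤ} [Finite G] (hg : g ∈ C[γ]) (hi : a * (g ^ i)⁻¹ ∈ O[γ])
    (hj : b * (g ^ j)⁻¹ ∈ O[γ]) : a * b * a⁻¹ * b⁻¹ ∈ O[γ] := by
  set p := a * (g ^ i)⁻¹ with hp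
  set q := b * (g ^ j)⁻¹ with hq
  have := mul_mem (mul_mem hi (conj_core_mem (zpow_mem hg i) hj))
    (mul_mem (conj_core_mem (zpow_mem hg j) (inv_mem hi)) (inv_mem hj))
  rwa [show p * (g ^ i * q * (g ^ i)⁻¹) * (g ^ j * p⁻¹ * (g ^ j)⁻¹ * q⁻¹) = a * b * a⁻¹ * b⁻¹ by
    have e1 : a = p * g ^ i := by rw [hp, inv_mul_cancel_right]
    have e2 : b = q * g ^ j := by rw [hq, inv_mul_cancel_right]
    rw [e1, e2]; group] at this

theorem Frame.mem_L_of_inverted {γ c v : G} (hγ : γ ∈ Φ.E) {L : Subgroup G}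
    (hL : Φ.LData γ L) (hv : v ∈ Φ.V) (hc : c ∈ C[γ]) (hodd : Odd (orderOf c))
    (hinv : v * c * v⁻¹ * c ∈ O[γ]) : c ∈ L := by
  have h1 : c * v * c⁻¹ * v⁻¹ ∈ L := mul_mem (hL.normal c hc v (hL.V_le hv)) (inv_mem (hL.V_le hv))
  -- `[c,v] ≡ c ^ 2`
  have h4 := mul_mem h1 (hL.core (show v * c * v⁻¹ * c ∈ O[γ] from hinv))
  rw [show c * v * c⁻¹ * v⁻¹ * (v * c * v⁻¹ * c) = c * c by group] at h4
  obtain ⟨k, hk⟩ := hodd
  have := pow_mem h4 (k + 1)
  rwa [← pow_two, ← pow_mul, show 2 * (k + 1) = orderOf c + 1 by omega, pow_succ, pow_orderOf_eq_one,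
    one_mul] at this

/-- From an element inverted modulo the core one inverted exactly. -/
theorem exists_exact {γ u v : G} (hvC : v ∈ C[γ]) (hv : v * v = 1) (huC : u ∈ C[γ]) (huO : u ∉ O[γ])
    {r n : ℕ} (hr : r.Prime) (hr2 : r ≠ 2) (hun : orderOf u = r ^ n) (h : v * u * v⁻¹ * u ∈ O[γ]) :
    ∃ s : G, ∃ m : ℕ, orderOf s = r ^ m ∧ s ∈ C[γ] ∧ s ∉ O[γ] ∧ v * s * v⁻¹ = s⁻¹ ∧
      ∀ a, Commute u a → Commute v a → Commute s a := by
  haveI : Fact r.Prime := ⟨hr⟩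
  have hvi : v⁻¹ = v := inv_eq_of_mul_eq_one_right hv
  set s0 := u * v * u⁻¹ * v with hs0
  have hs0C : s0 ∈ C[γ] := mul_mem (mul_mem (mul_mem huC hvC) (inv_mem huC)) hvC
  have hs0i : v * s0 * v⁻¹ = s0⁻¹ := by
    simp only [hs0, hvi, mul_inv_rev, inv_inv, mul_assoc, hv, mul_one]
  -- `s0 ≡ u ^ 2`
  set d := s0 * (u * u)⁻¹ with hd'
  have hd : d ∈ O[γ] := by
    have h1 := inv_mem (conj_core_mem hvC h)
    have h2 := conj_core_mem huC h1
    rwa [show u * (v * (v * u * v⁻¹ * u) * v⁻¹)⁻¹ * u⁻¹ = d by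
      simp only [hd', hs0, hvi, mul_inv_rev, inv_inv, mul_assoc]
      rw [← mul_assoc v v, hv, one_mul]] at h2
  have hsd : s0 = d * (u * u) := by rw [hd', inv_mul_cancel_right]
  have hp : ∀ t : ℕ, s0 ^ t * ((u * u) ^ t)⁻¹ ∈ O[γ] := by
    intro t
    induction t with
    | zero => simp
    | succ t ih =>
      have := mul_mem ih (conj_core_mem (pow_mem (mul_mem huC huC) t) hd)
      rwa [show s0 ^ t * ((u * u) ^ t)⁻¹ * ((u * u) ^ t * d * ((u * u) ^ t)⁻¹) =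
        s0 ^ (t + 1) * ((u * u) ^ (t + 1))⁻¹ by rw [pow_succ s0, pow_succ (u * u), hd']; group] at this
  have h1 : s0 ^ (r ^ n) ∈ O[γ] := by
    have := hp (r ^ n)
    rwa [show (u * u) ^ (r ^ n) = 1 by
      rw [← pow_two, ← pow_mul, mul_comm, pow_mul, ← hun, pow_orderOf_eq_one, one_pow], inv_one, mul_one] at this
  obtain ⟨p, b, hpb, hpz, hbz, ⟨m, hm⟩, hb⟩ := Transfer.exists_pPart_mul (p := r) s0
  have hbO : b ∈ O[γ] := by
    obtain ⟨i, hi⟩ := mem_zpowers_iff.1 hbz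
    have h2 : b ^ (r ^ n) ∈ O[γ] := by
      rw [← hi, ← zpow_natCast, ← zpow_mul, mul_comm, zpow_mul, zpow_natCast]
      exact zpow_mem h1 _
    obtain ⟨k, hk⟩ := exists_pow_eq_self_of_coprime (x := b) (n := r ^ n) (Nat.Coprime.pow_left n hb.symm)
    rw [← hk]
    exact pow_mem h2 k
  refine ⟨p, m, hm, (zpowers_le.2 hs0C) hpz, fun hpO => huO ?_, ?_, fun a hua hva => ?_⟩
  · have h2 : u * u ∈ O[γ] := by
      have := mul_mem (inv_mem hd) (mul_mem hpO hbO)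
      rwa [← hpb, hsd, inv_mul_cancel_left] at this
    obtain ⟨k, hk⟩ := (hr.odd_of_ne_two hr2).pow (n := n)
    have h3 := pow_mem h2 (k + 1)
    rwa [← pow_two, ← pow_mul, show 2 * (k + 1) = orderOf u + 1 by omega, pow_succ, pow_orderOf_eq_one,
      one_mul] at h3
  · obtain ⟨i, rfl⟩ := mem_zpowers_iff.1 hpz
    rw [← conj_zpow, hs0i, inv_zpow]
  · obtain ⟨i, rfl⟩ := mem_zpowers_iff.1 hpz
    exact (((hua.mul_left hva).mul_left hua.inv_left).mul_left hva).zpow_left i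

end Cfsg.Agent.J2Core
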