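import Cfsg.Agent.Lib.J2Core.Lines
import Cfsg.Agent.Lib.J2Core.Lift

/-!
# `O(C(x)) ≤ Y`

* `Frame.Closed.step`    : a factor with commutators in `Y` lies in `Y`
* `Frame.Closed.core_le` : `O(C(x)) ≤ Y`, by the derived series
-/

set_option autoImplicit false
set_option linter.style.haveILetI false
set_option linter.unusedSectionVars false
set_option maxHeartbeats 1000000

namespace Cfsg.Agent.J2Core

open Subgroup

universe u

variable {G : Type u} [Group G] [Finite G] {Φ : Frame G}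

local notation "C[" γ "]" => centralizer ({γ} : Set G)
local notation "O[" γ "]" => Cfsg.centralizerPPrimeCore 2 γ

/-- Restriction of automorphisms to the elements of exponent dividing `r`. -/
noncomputable def restrictPow (Q : Type*) [CommGroup Q] (r : ℕ) :
    MulAut Q →* MulAut ↥((powMonoidHom r : Q →* Q).ker) :=
  MonoidHom.mk' (fun α =>
    { toFun := fun q => ⟨α q, by
        show α q ^ r = 1
        rw [← map_pow, show (q : Q) ^ r = 1 from q.2, map_one]⟩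
      invFun := fun q => ⟨α.symm q, by
        show α.symm q ^ r = 1
        rw [← map_pow, show (q : Q) ^ r = 1 from q.2, map_one]⟩
      left_inv := fun q => Subtype.ext (α.symm_apply_apply (q : Q))
      right_inv := fun q => Subtype.ext (α.apply_symm_apply (q : Q))
      map_mul' := fun a b => Subtype.ext (map_mul α (a : Q) b) })
    fun _ _ => MulEquiv.ext fun _ => Subtype.ext rfl

theorem Frame.exists_three {x : G} (hx : x ∈ Φ.E) (hxV : x ∉ Φ.V) {v0 : G} (hv0 : v0 ∈ Φ.V)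
    (hv01 : v0 ≠ 1) : ∃ τ v1 v2 : G, τ ∈ normalizer (Φ.E : Set G) ∧ τ * x * τ⁻¹ = x ∧
      v1 ∈ Φ.V ∧ v2 ∈ Φ.V ∧ v1 ≠ 1 ∧ v2 ≠ 1 ∧ v0 ≠ v1 ∧ v1 ≠ v2 ∧ v0 ≠ v2 ∧ v0 * v1 = v2 ∧
      τ * v0 * τ⁻¹ = v1 ∧ τ * v1 * τ⁻¹ = v2 ∧ τ * v2 * τ⁻¹ = v0 ∧
      ∀ w ∈ Φ.V, w = 1 ∨ w = v0 ∨ w = v1 ∨ w = v2 := by
  obtain ⟨τ, hτ, hodd, hfix, hfpf⟩ := Φ.three x hx hxV
  have hτV := Φ.norm τ hτ
  have hv1 : τ * v0 * τ⁻¹ ∈ Φ.V := (mem_normalizer_iff.1 hτV v0).1 hv0
  set v1 := τ * v0 * τ⁻¹ with hv1d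
  have h01 : v0 ≠ v1 := fun e => hv01 (hfpf v0 hv0 e.symm)
  have hv11 : v1 ≠ 1 := fun e => hv01 (conj_eq_one_iff.1 e)
  have hv2 : v0 * v1 ∈ Φ.V := mul_mem hv0 hv1
  have hv21 : v0 * v1 ≠ 1 := fun e => h01 (by
    rw [← inv_eq_of_mul_eq_one_right e, Φ.inv_eq (Φ.le hv0)])
  have h12 : v1 ≠ v0 * v1 := fun e => hv01 (right_eq_mul.1 e)
  have h02 : v0 ≠ v0 * v1 := fun e => hv11 (left_eq_mul.1 e)
  have hall : ∀ w ∈ Φ.V, w = 1 ∨ w = v0 ∨ w = v1 ∨ w = v0 * v1 := by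
    intro w hw
    classical
    by_contra hcon
    push Not at hcon
    have h5 : Nat.card ({1, v0, v1, v0 * v1, w} : Finset G) ≤ Nat.card Φ.V :=
      Nat.card_le_card_of_injective (fun x => ⟨x.1, by
        have hx := x.2
        simp only [Finset.mem_insert, Finset.mem_singleton] at hx
        rcases hx with e | e | e | e | e <;> rw [e] <;>
          first | exact one_mem _ | assumption⟩) fun x y e => Subtype.ext (congrArg (fun z : Φ.V => (z : G)) e)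
    rw [Nat.card_eq_fintype_card, Fintype.card_coe] at h5
    simp only [Finset.card_insert_of_notMem, Finset.mem_insert, Finset.mem_singleton, hv01.symm, hv11.symm,
      hv21.symm, h01, h12, h02, hcon.1.symm, hcon.2.1.symm, hcon.2.2.1.symm, hcon.2.2.2.symm,
      not_false_eq_true, or_self, Finset.card_singleton, Φ.cardV] at h5
    omega
  have h3 : τ * v1 * τ⁻¹ = v0 * v1 := by
    rcases hall _ ((mem_normalizer_iff.1 hτV v1).1 hv1) with e | e | e | e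
    · exact absurd (conj_eq_one_iff.1 e) hv11
    · exfalso
      -- the square fixes `v0`
      have hτ2 : Odd (orderOf (τ * τ)) := hodd.of_dvd_nat (by
        rw [← pow_two]; exact orderOf_pow_dvd 2)
      have h := cent_of_fix Φ.cV Φ.cardV hτ2 (mul_mem hτV hτV) hv0 hv01 (by
        rw [show τ * τ * v0 * (τ * τ)⁻¹ = τ * v1 * τ⁻¹ by rw [hv1d]; group, e]) hv1
      obtain ⟨k, hk⟩ := hodd
      have hp : ∀ i : ℕ, (τ * τ) ^ i * v0 * ((τ * τ) ^ i)⁻¹ = v0 := by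
        intro i
        induction i with
        | zero => simp
        | succ i ih =>
          calc (τ * τ) ^ (i + 1) * v0 * ((τ * τ) ^ (i + 1))⁻¹ =
              τ * (τ * ((τ * τ) ^ i * v0 * ((τ * τ) ^ i)⁻¹) * τ⁻¹) * τ⁻¹ := by
                rw [pow_succ']; simp only [mul_inv_rev, mul_assoc]
            _ = v0 := by rw [ih, ← hv1d, e]
      apply h01
      have e1 : τ = ((τ * τ) ^ k)⁻¹ := eq_inv_of_mul_eq_one_left (by
        rw [← pow_two, ← pow_mul, ← pow_succ', ← hk, pow_orderOf_eq_one])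
      rw [hv1d]
      conv_rhs => rw [e1, inv_inv, ← hp k]
      group
    · exact absurd (hfpf v1 hv1 e) hv11
    · exact e
  refine ⟨τ, v1, v0 * v1, hτ, hfix, hv1, hv2, hv11, hv21, h01, h12, h02, rfl, rfl, h3, ?_, hall⟩
  rw [show τ * (v0 * v1) * τ⁻¹ = τ * v0 * τ⁻¹ * (τ * v1 * τ⁻¹) by group, ← hv1d, h3,
    ← mul_assoc, Φ.comm (Φ.le hv1) (Φ.le hv0), mul_assoc, ← pow_two, Φ.ea.2 v1 (Φ.le hv1), mul_one]

theorem Frame.Closed.step {x : G} {hx : x ∈ Φ.E} {Y : Subgroup G} (hC : Φ.Closed hx Y) (hxV : x ∉ Φ.V)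
    {N : Subgroup G} (hNle : N ≤ O[x]) (hNn : C[x] ≤ normalizer (N : Set G))
    (hNc : ∀ a ∈ N, ∀ b ∈ N, a * b * a⁻¹ * b⁻¹ ∈ Y) : N ≤ Y := by
  classical
  haveI : Fact (Nat.Prime 2) := ⟨Nat.prime_two⟩
  haveI hKn : (Y.subgroupOf N).Normal := ⟨fun n hn g => by
    rw [mem_subgroupOf] at hn ⊢
    have := mul_mem (hNc g g.2 n n.2) hn
    rwa [inv_mul_cancel_right] at this⟩
  set H : Subgroup G := C[x] ⊓ normalizer (Y : Set G) with hH
  have hN : H ≤ normalizer (N : Set G) := inf_le_left.trans hNn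
  have hY : H ≤ normalizer (Y : Set G) := inf_le_right
  have hEH : Φ.E ≤ H := le_inf (fun e he => Φ.mem_C he hx) hC.E_le
  set Q := ↥N ⧸ Y.subgroupOf N
  have hab : ∀ a b : Q, a * b = b * a := by
    intro a b
    obtain ⟨a, rfl⟩ := QuotientGroup.mk_surjective a
    obtain ⟨b, rfl⟩ := QuotientGroup.mk_surjective b
    rw [← QuotientGroup.mk_mul, ← QuotientGroup.mk_mul, eq_comm]
    refine QuotientGroup.eq.2 ?_
    rw [mem_subgroupOf]
    show ((b : G) * a)⁻¹ * ((a : G) * b) ∈ Y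
    have := hNc _ (inv_mem a.2) _ (inv_mem b.2)
    rwa [show (a : G)⁻¹ * (b : G)⁻¹ * (a : G)⁻¹⁻¹ * (b : G)⁻¹⁻¹ = ((b : G) * a)⁻¹ * ((a : G) * b) by group] at this
  letI : CommGroup Q := { (inferInstance : Group Q) with mul_comm := hab }
  by_contra hNY
  obtain ⟨n0, hn0N, hn0Y⟩ := SetLike.not_le_iff_exists.1 hNY
  have hodd : ¬ 2 ∣ Nat.card N := Signalizer.not_dvd_card_of_le hNle (Signalizer.not_dvd_card_core x)
  set A := actHom N Y H hN hY with hA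
  have hQ0 : (QuotientGroup.mk ⟨n0, hn0N⟩ : Q) ≠ 1 := fun e => hn0Y ((QuotientGroup.eq_one_iff (N := Y.subgroupOf N) _).1 e)
  set f : Φ.E → MulAut Q := fun e => A ⟨e, hEH e.2⟩
  have hfsq : ∀ (e : G) (he : e ∈ Φ.E) q, A ⟨e, hEH he⟩ (A ⟨e, hEH he⟩ q) = q := fun e he q => by
    rw [← MulAut.mul_apply, ← map_mul, show (⟨e, hEH he⟩ * ⟨e, hEH he⟩ : H) = 1 from Subtype.ext (by
      show e * e = 1
      rw [← pow_two, Φ.ea.2 e he]), map_one, MulAut.one_apply]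
  have hfmul : ∀ (a b : G) (ha : a ∈ Φ.E) (hb : b ∈ Φ.E) q,
      A ⟨a, hEH ha⟩ (A ⟨b, hEH hb⟩ q) = A ⟨a * b, hEH (mul_mem ha hb)⟩ q := fun a b ha hb q => by
    rw [← MulAut.mul_apply, ← map_mul]; rfl
  have hoddQ : ∀ q : Q, q * q = 1 → q = 1 := by
    intro q hq
    obtain ⟨n, rfl⟩ := QuotientGroup.mk_surjective q
    refine orderOf_eq_one_iff.1 (Nat.eq_one_of_dvd_coprimes (Nat.prime_two.coprime_iff_not_dvd.2 hodd)
      (orderOf_dvd_of_pow_eq_one (by rw [pow_two]; exact hq))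
      ((orderOf_map_dvd (QuotientGroup.mk' _) n).trans (orderOf_dvd_natCard n)))
  -- no point is fixed by `V`
  have hfpfQ : ∀ a b (ha : a ∈ Φ.V) (hb : b ∈ Φ.V), a ≠ 1 → b ≠ 1 → a ≠ b → ∀ q,
      A ⟨a, hEH (Φ.le ha)⟩ q = q → A ⟨b, hEH (Φ.le hb)⟩ q = q → q = 1 := by
    intro a b ha hb ha1 hb1 hne q hqa hqb
    have hVfix : ∀ v (hv : v ∈ Φ.V), A ⟨v, (Φ.le.trans hEH) hv⟩ q = q := by
      let T : Subgroup G :=
        { carrier := {v | ∃ hv : v ∈ Φ.V, A ⟨v, (Φ.le.trans hEH) hv⟩ q = q}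
          one_mem' := ⟨one_mem _, by rw [show (⟨1, _⟩ : H) = 1 from rfl, map_one, MulAut.one_apply]⟩
          mul_mem' := fun {s t} ⟨hs, h1⟩ ⟨ht, h2⟩ => ⟨mul_mem hs ht, by
            rw [← hfmul s t (Φ.le hs) (Φ.le ht) q, h2, h1]⟩
          inv_mem' := fun {s} ⟨hs, h1⟩ => ⟨inv_mem hs, by simp only [Φ.inv_eq (Φ.le hs), h1]⟩ }
      have hle : T ≤ Φ.V := fun v ⟨hv, _⟩ => hv
      have h3 : Nat.card ↥({1, a, b} : Set G) ≤ Nat.card T :=
        Nat.card_le_card_of_injective (fun z => ⟨z.1, by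
          rcases z.2 with e | e | e <;> rw [e]
          exacts [one_mem _, ⟨ha, hqa⟩, ⟨hb, hqb⟩]⟩)
          fun z w e => Subtype.ext (congrArg (fun t : T => (t : G)) e)
      rw [Nat.card_coe_set_eq, Set.ncard_eq_three.2 ⟨1, a, b, ha1.symm, hb1.symm, hne, rfl⟩] at h3
      have hd := card_dvd_of_le hle
      rw [Φ.cardV] at hd
      have := Nat.le_of_dvd (by norm_num) hd
      have h4 : 4 ≤ Nat.card T := by
        rcases (show Nat.card T = 3 ∨ 4 ≤ Nat.card T by omega) with e | e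
        · rw [e] at hd; norm_num at hd
        · exact e
      have heq := eq_of_le_of_card_ge hle (Φ.cardV ▸ h4)
      intro v hv
      obtain ⟨_, h⟩ := (heq.symm ▸ hv : v ∈ T)
      exact h
    obtain ⟨n, rfl, hnc⟩ := exists_fixed_rep hN hY hodd (Signalizer.isPGroup_of_elemAb Φ.cV)
      (Φ.le.trans hEH) q hVfix
    exact (QuotientGroup.eq_one_iff _).2 (hC.fix_le hxV (hNle n.2) hnc)
  -- a prime and a point of `V`
  obtain ⟨v0, hv0, hv01, q0, hq0, hq01⟩ : ∃ v0, ∃ hv0 : v0 ∈ Φ.V, v0 ≠ 1 ∧ ∃ q0 : Q,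
      A ⟨v0, hEH (Φ.le hv0)⟩ q0 = q0 ∧ q0 ≠ 1 := by
    obtain ⟨⟨a, ha⟩, ha'⟩ := ne_bot_iff_exists_ne_one.1 (show Φ.V ≠ ⊥ by
      intro e; have := Φ.cardV; rw [e, card_bot] at this; omega)
    have ha1 : a ≠ 1 := fun e => ha' (Subtype.ext e)
    obtain ⟨τ, b, c, -, -, hb, hc, hb1, hc1, hab', -, -, habc, -⟩ := Φ.exists_three hx hxV ha ha1
    by_contra hcon
    push Not at hcon
    apply hQ0
    have key : ∀ v (hv : v ∈ Φ.V), v ≠ 1 → ∀ q : Q, A ⟨v, hEH (Φ.le hv)⟩ q = q⁻¹ := fun v hv hv1 q =>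
      eq_inv_of_mul_eq_one_left (hcon v hv hv1 _ (by rw [map_mul, hfsq v (Φ.le hv) q, hab]))
    refine hoddQ _ ?_
    set q : Q := QuotientGroup.mk ⟨n0, hn0N⟩
    have h1 := hfmul a b (Φ.le ha) (Φ.le hb) q
    rw [key b hb hb1, map_inv, key a ha ha1, inv_inv,
      key (a * b) (mul_mem ha hb) (habc ▸ hc1)] at h1
    exact mul_eq_one_iff_eq_inv.2 h1
  obtain ⟨r, hr, hrd⟩ := Nat.exists_prime_and_dvd (n := orderOf q0) (fun e => hq01 (orderOf_eq_one_iff.1 e))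
  haveI : Fact r.Prime := ⟨hr⟩
  have hr2 : r ≠ 2 := by
    rintro rfl
    obtain ⟨n, rfl⟩ := QuotientGroup.mk_surjective q0
    exact hodd (hrd.trans ((orderOf_map_dvd (QuotientGroup.mk' _) n).trans (orderOf_dvd_natCard n)))
  set q1 : Q := q0 ^ (orderOf q0 / r) with hq1d
  have hq1r : q1 ^ r = 1 := by
    rw [hq1d, ← pow_mul, Nat.div_mul_cancel hrd, pow_orderOf_eq_one]
  have hq11 : q1 ≠ 1 := by
    intro e
    have h1 := Nat.le_of_dvd (Nat.div_pos (Nat.le_of_dvd (orderOf_pos q0) hrd) hr.pos)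
      (orderOf_dvd_of_pow_eq_one e)
    have h2 := Nat.div_lt_self (orderOf_pos q0) hr.one_lt
    omega
  have hq1f : A ⟨v0, hEH (Φ.le hv0)⟩ q1 = q1 := by rw [hq1d, map_pow, hq0]
  obtain ⟨τ, v1, v2, hτN, hτx, hv1, hv2, hv11, hv21, h01, h12, h02, h012, ht0, ht1, ht2, hall⟩ :=
    Φ.exists_three hx hxV hv0 hv01
  have hτC : τ ∈ C[x] := mem_centralizer_singleton_iff.2 (mul_inv_eq_iff_eq_mul.1 hτx)
  have hτH : τ ∈ H := ⟨hτC, hC.norm τ hτN hτx⟩
  -- a clique mate of `x`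
  obtain ⟨x', hB, hx'1, hx'x⟩ : ∃ x', Φ.InB x x' ∧ x' ≠ 1 ∧ x' ≠ x := by
    have hx1 := Φ.ne_one hxV
    obtain ⟨e, he, heV⟩ : ∃ e ∈ Φ.E, e ∉ Φ.V ⊔ zpowers x := by
      by_contra h
      push Not at h
      have := Subgroup.card_le_of_le (show Φ.E ≤ Φ.V ⊔ zpowers x from h)
      rw [Φ.card, Signalizer.card_sup_zpowers Φ.ea Φ.le hx hxV, Φ.cardV] at this
      omega
    obtain ⟨v, hv, hb⟩ := Φ.exists_proj hx hxV he
    refine ⟨e * v, hb, fun h => heV ?_, fun h => heV ?_⟩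
    · rw [show e = v⁻¹ from eq_inv_of_mul_eq_one_left h]; exact mem_sup_left (inv_mem hv)
    · rw [show e = x * v⁻¹ by rw [← h, mul_inv_cancel_right]]
      exact mul_mem (mem_sup_right (mem_zpowers x)) (mem_sup_left (inv_mem hv))
  -- the three lines
  set M := ↥((powMonoidHom r : Q →* Q).ker)
  set F : H →* MulAut M := (restrictPow Q r).comp A with hF
  have hFap : ∀ (h : H) (m : M), ((F h m : M) : Q) = A h m := fun h m => rfl
  set vv : Fin 3 → G := ![v0, v1, v2] with hvv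
  have hvvV : ∀ i, vv i ∈ Φ.V := fun i => by fin_cases i <;> assumption
  have hvv1 : ∀ i, vv i ≠ 1 := fun i => by fin_cases i <;> assumption
  have hvinj : ∀ i j, vv i = vv j → i = j := fun i j h => by
    fin_cases i <;> fin_cases j <;> first
      | rfl
      | exact absurd h h01
      | exact absurd h h02
      | exact absurd h h12
      | exact absurd h.symm h01
      | exact absurd h.symm h02
      | exact absurd h.symm h12
  have hcyc : ∀ i, τ * vv i * τ⁻¹ = vv (i + 1) := fun i => by fin_cases i <;> assumption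
  set W : Fin 3 → MulAut M := fun i => F ⟨vv i, hEH (Φ.le (hvvV i))⟩ with hW
  set T : MulAut M := F ⟨τ, hτH⟩ with hT
  have hTW : ∀ i m, T (W i m) = W (i + 1) (T m) := fun i m => by
    simp only [hW, hT, ← MulAut.mul_apply, ← map_mul]
    congr 2
    exact Subtype.ext (mul_inv_eq_iff_eq_mul.1 (hcyc i))
  have hTri : Tri r W T := by
    refine ⟨hr, hr.odd_of_ne_two hr2, fun m => Subtype.ext m.2, fun i m => Subtype.ext ?_,
      fun i j m => Subtype.ext ?_, fun m => Subtype.ext ?_, fun m h0 h1 => Subtype.ext ?_, fun i => ?_, hTW⟩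
    · exact hfsq _ (Φ.le (hvvV i)) _
    · show A _ (A _ (m : Q)) = A _ (A _ (m : Q))
      rw [hfmul, hfmul]
      congr 2
      exact Subtype.ext (Φ.comm (Φ.le (hvvV i)) (Φ.le (hvvV j)))
      all_goals exact Φ.le (hvvV _)
    · show A _ (A _ (m : Q)) = A _ (m : Q)
      rw [hfmul]
      congr 2
      exact Subtype.ext h012
      all_goals exact Φ.le (hvvV _)
    · exact hfpfQ v0 v1 hv0 hv1 hv01 hv11 h01 _ (congrArg Subtype.val h0) (congrArg Subtype.val h1)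
    · obtain ⟨-, g, hg⟩ := Φ.exists_gen hC hxV hNle hN hY hab hEH hB hx'1 hx'x (hvvV i) (hvv1 i) hr hr2
      have hTne : ∀ {m : M}, m ≠ 1 → T m ≠ 1 := fun {m} hm e => hm (T.injective (e.trans (map_one T).symm))
      have hW0 : W 0 (⟨q1, hq1r⟩ : M) = ⟨q1, hq1r⟩ := Subtype.ext hq1f
      have hm1 : (⟨q1, hq1r⟩ : M) ≠ 1 := fun e => hq11 (congrArg Subtype.val e)
      obtain ⟨m0, hm0, hm0f⟩ : ∃ m : M, m ≠ 1 ∧ W i m = m := by
        fin_cases i
        · exact ⟨_, hm1, hW0⟩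
        · exact ⟨_, hTne hm1, by rw [show (⟨1, _⟩ : Fin 3) = 0 + 1 from rfl, ← hTW, hW0]⟩
        · exact ⟨_, hTne (hTne hm1), by
            rw [show (⟨2, _⟩ : Fin 3) = 0 + 1 + 1 from rfl, ← hTW, ← hTW, hW0]⟩
      -- the line lies in a cyclic group
      set Fx : Subgroup M :=
        { carrier := {m | W i m = m}
          one_mem' := map_one (W i)
          mul_mem' := fun {a b} ha hb => by
            simp only [Set.mem_setOf_eq] at *
            rw [map_mul, ha, hb]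
          inv_mem' := fun {a} ha => by
            simp only [Set.mem_setOf_eq] at *
            rw [map_inv, ha] }
      set ι : M →* Q := ((powMonoidHom r : Q →* Q).ker).subtype
      have hle : Fx.map ι ≤ zpowers g := by
        rintro _ ⟨m, hm, rfl⟩
        obtain ⟨k, hk⟩ := (hg (m : Q) (congrArg Subtype.val (hm : W i m = m)) m.2).1
        exact ⟨k, hk.symm⟩
      haveI : IsCyclic (Fx.map ι) := isCyclic_of_injective (Subgroup.inclusion hle) (Subgroup.inclusion_injective _)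
      haveI : IsCyclic Fx := isCyclic_of_surjective (Fx.equivMapOfInjective ι Subtype.val_injective).symm
        (MulEquiv.surjective _)
      obtain ⟨⟨d, hd⟩, hgen⟩ := IsCyclic.exists_generator (α := Fx)
      refine ⟨d, fun e => hm0 ?_, hd, fun m hm => ?_⟩
      · obtain ⟨k, hk⟩ := mem_zpowers_iff.1 (hgen ⟨m0, hm0f⟩)
        have h := congrArg Subtype.val hk
        simp only [SubgroupClass.coe_zpow, e, one_zpow] at h
        exact h.symm
      · obtain ⟨k, hk⟩ := (Submonoid.mem_powers_iff _ _).1 ((mem_powers_iff_mem_zpowers).2 (hgen ⟨m, hm⟩))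
        have h := congrArg Subtype.val hk
        exact ⟨k, by simpa using h.symm⟩
  -- an `r`-element inverted by `V`
  obtain ⟨-, g, hg⟩ := Φ.exists_gen hC hxV hNle hN hY hab hEH hB hx'1 hx'x hv0 hv01 hr hr2
  obtain ⟨c, n, hcx, hcv, hcn, hcO, hcL⟩ := (hg q1 hq1f hq1r).2 hq11
  have hδV := Φ.mul_mem_V hxV hv0
  have hδE := mul_mem hx (Φ.le hv0)
  obtain ⟨Lδ, hLδ⟩ := Φ.exists_ldata hδE hδV
  obtain ⟨c', m, hc'⟩ := Φ.exists_inverted hr hr2 hδE hδV hLδ hv0 hv01 hv1 hv11 h01 (hcL Lδ hLδ) hcv hcn hcO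
  obtain ⟨g', hg', hg'x⟩ := Φ.trans _ hδE hδV x hx hxV
  have h1 := Φ.transport hg' hc'
  rw [hg'x] at h1
  set w := g' * v0 * g'⁻¹
  set w' := g' * v1 * g'⁻¹
  have hwV : w ∈ Φ.V := (mem_normalizer_iff.1 (Φ.norm g' hg') v0).1 hv0
  have hw'V : w' ∈ Φ.V := (mem_normalizer_iff.1 (Φ.norm g' hg') v1).1 hv1
  have hw1 : w ≠ 1 := fun e => hv01 (conj_eq_one_iff.1 e)
  have hw'1 : w' ≠ 1 := fun e => hv11 (conj_eq_one_iff.1 e)
  have hww' : w ≠ w' := fun e => h01 (mul_left_cancel (mul_right_cancel e))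
  -- move `w` to `v0`
  obtain ⟨g2, hg2, hg2x, hg2w⟩ : ∃ g2 ∈ normalizer (Φ.E : Set G), g2 * x * g2⁻¹ = x ∧ g2 * w * g2⁻¹ = v0 := by
    have hτ2x : τ * τ * x * (τ * τ)⁻¹ = x := by
      rw [show τ * τ * x * (τ * τ)⁻¹ = τ * (τ * x * τ⁻¹) * τ⁻¹ by group, hτx, hτx]
    rcases hall w hwV with e | e | e | e
    · exact absurd e hw1
    · exact ⟨1, one_mem _, by simp, by simp [e]⟩
    · exact ⟨τ * τ, mul_mem hτN hτN, hτ2x, by
        rw [e, show τ * τ * v1 * (τ * τ)⁻¹ = τ * (τ * v1 * τ⁻¹) * τ⁻¹ by group, ht1, ht2]⟩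
    · exact ⟨τ, hτN, hτx, by rw [e, ht2]⟩
  have h2 := Φ.transport hg2 h1
  rw [hg2x, hg2w] at h2
  obtain ⟨hc2x, hc2v, hc2n, hc2O, hc2i⟩ := h2
  set c2 := g2 * (g' * c' * g'⁻¹) * g2⁻¹
  set z := g2 * w' * g2⁻¹
  have hzV : z ∈ Φ.V := (mem_normalizer_iff.1 (Φ.norm g2 hg2) w').1 hw'V
  have hz1 : z ≠ 1 := fun e => hw'1 (conj_eq_one_iff.1 e)
  have hz0 : z ≠ v0 := fun e => hww' (mul_left_cancel (mul_right_cancel (hg2w.trans e.symm)))
  have hc2C : c2 ∈ C[x] := mem_centralizer_singleton_iff.2 hc2x.eq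
  have hv0C : v0 ∈ C[x] := Φ.mem_C (Φ.le hv0) hx
  -- it is inverted by `v1`
  have hinv1 : v1 * c2 * v1⁻¹ * c2 ∈ O[x] := by
    rcases hall z hzV with e | e | e | e
    · exact absurd e hz1
    · exact absurd e hz0
    · exact e ▸ hc2i
    · have := conj_core_mem hv0C hc2i
      rw [e, ← h012] at this
      rwa [show v0 * (v0 * v1 * c2 * (v0 * v1)⁻¹ * c2) * v0⁻¹ =
          v0 * v0 * (v1 * c2 * v1⁻¹) * (v0⁻¹ * c2 * v0⁻¹) by group, ← pow_two, Φ.ea.2 v0 (Φ.le hv0), one_mul,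
        show v0⁻¹ * c2 * v0⁻¹ = c2 by
          rw [Φ.inv_eq (Φ.le hv0), ← hc2v.eq, mul_assoc, ← pow_two, Φ.ea.2 v0 (Φ.le hv0), mul_one]] at this
  obtain ⟨L, hL⟩ := Φ.exists_ldata hx hxV
  have hroddp : ∀ k : ℕ, Odd (r ^ k) := fun k => (hr.odd_of_ne_two hr2).pow
  -- adjust to centralise `x'` as well
  have hx'C : x' ∈ C[x] := Φ.mem_C hB.1 hx
  set A2 : Subgroup G := zpowers x' ⊔ zpowers v0
  have hA2E : A2 ≤ Φ.E := sup_le (zpowers_le.2 hB.1) (zpowers_le.2 (Φ.le hv0))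
  obtain ⟨u, j, hun, huc, huC, huA⟩ := exists_adjust (γ := x)
    (Signalizer.isPGroup_of_elemAb (Signalizer.elemAb_of_le Φ.ea hA2E))
    (fun e he => Φ.mem_C (hA2E he) hx) hc2C hr hc2n (fun a ha => by
      let T2 : Subgroup G :=
        { carrier := {e | e ∈ Φ.E ∧ c2 * e * c2⁻¹ * e⁻¹ ∈ O[x]}
          one_mem' := ⟨one_mem _, by simp⟩
          mul_mem' := fun {a b} ha hb => ⟨mul_mem ha.1 hb.1, Φ.comm_mul hx ha.1 ha.2 hb.2⟩
          inv_mem' := fun {a} ha => by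
            show a⁻¹ ∈ {e | e ∈ Φ.E ∧ c2 * e * c2⁻¹ * e⁻¹ ∈ O[x]}
            rw [Φ.inv_eq ha.1]; exact ha }
      have := inv_mem ((sup_le (zpowers_le.2 (show x' ∈ T2 from ⟨hB.1, hB.2 c2 hc2C⟩))
        (zpowers_le.2 (show v0 ∈ T2 from ⟨Φ.le hv0, comm_of_commute hc2v⟩)) : A2 ≤ T2) ha).2
      rwa [show (c2 * a * c2⁻¹ * a⁻¹)⁻¹ = a * c2 * a⁻¹ * c2⁻¹ by group] at this)
  have hux' : Commute u x' := huA x' (mem_sup_left (mem_zpowers x'))
  have huv : Commute u v0 := huA v0 (mem_sup_right (mem_zpowers v0))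
  have huO : u ∉ O[x] := fun h => hc2O (by
    have := mul_mem (inv_mem huc) h
    rwa [show (u * c2⁻¹)⁻¹ * u = c2 by group] at this)
  have hv1C : v1 ∈ C[x] := Φ.mem_C (Φ.le hv1) hx
  have hui : v1 * u * v1⁻¹ * u ∈ O[x] := by
    have h3 := mul_mem (mul_mem (conj_core_mem hv1C huc)
      (conj_core_mem (mul_mem (mul_mem hv1C hc2C) (inv_mem hv1C)) huc)) hinv1
    rwa [show v1 * (u * c2⁻¹) * v1⁻¹ * (v1 * c2 * v1⁻¹ * (u * c2⁻¹) * (v1 * c2 * v1⁻¹)⁻¹) *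
      (v1 * c2 * v1⁻¹ * c2) = v1 * u * v1⁻¹ * u by group] at h3
  obtain ⟨u, j, hun, huC, huO, huinv, huc'⟩ :=
    exists_exact hv1C (by rw [← pow_two, Φ.ea.2 v1 (Φ.le hv1)]) huC huO hr hr2 hun hui
  have hux' : Commute u x' := huc' x' hux' (Φ.comm (Φ.le hv1) hB.1)
  have huv : Commute u v0 := huc' v0 huv (Φ.comm (Φ.le hv1) (Φ.le hv0))
  have hui : v1 * u * v1⁻¹ * u ∈ O[x] := by rw [huinv, inv_mul_cancel]; exact one_mem _
  have huH : u ∈ H := ⟨huC, hC.mate x' v0 u hB hx'1 hx'x hv0 hv01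
    (mem_centralizer_singleton_iff.1 huC) hux' huv⟩
  have huL : u ∈ L := Φ.mem_L_of_inverted hx hL hv1 huC (hun ▸ hroddp j) hui
  set u' := τ * u * τ⁻¹
  have hu'H : u' ∈ H := mul_mem (mul_mem hτH huH) (inv_mem hτH)
  have hu'L : u' ∈ L := hL.normal τ hτC u huL
  set U := F ⟨u, huH⟩ with hU
  have hU0 : ∀ m, U (W 0 m) = W 0 (U m) := fun m => by
    simp only [hU, hW, ← MulAut.mul_apply, ← map_mul]
    congr 2
    exact Subtype.ext huv.eq
  have hLone : ∃ y ∈ L, Commute y v0 ∧ y ∉ O[x] ∧ y ^ r ∈ O[x] := by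
    have hi : ∃ i, u ^ (r ^ i) ∈ O[x] := ⟨j, by rw [← hun, pow_orderOf_eq_one]; exact one_mem _⟩
    obtain ⟨i, hi'⟩ : ∃ i, Nat.find hi = i + 1 := Nat.exists_eq_succ_of_ne_zero fun e => huO (by
      have := Nat.find_spec hi
      rwa [e, pow_zero, pow_one] at this)
    exact ⟨u ^ (r ^ i), pow_mem huL _, huv.pow_left _, Nat.find_min hi (by omega), by
      rw [← pow_mul, ← pow_succ, ← hi']; exact Nat.find_spec hi⟩
  have hVH : Φ.V ≤ H := Φ.le.trans hEH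
  by_cases hU1 : U = 1
  · -- `u` in the kernel
    set W1 : Subgroup G := (F.ker.map H.subtype) ⊓ L with hW1
    have hW1mem : ∀ {g : G}, g ∈ W1 ↔ ∃ hg : g ∈ H, F ⟨g, hg⟩ = 1 ∧ g ∈ L := by
      intro g
      exact ⟨fun ⟨⟨h, hh, e⟩, hgL⟩ => e ▸ ⟨h.2, hh, e.symm ▸ hgL⟩, fun ⟨hg, h, hgL⟩ => ⟨⟨⟨g, hg⟩, h, rfl⟩, hgL⟩⟩
    have hW1n : ∀ a ∈ H, a ∈ normalizer (W1 : Set G) := fun a ha =>
      Signalizer.mem_normalizer_of_conj_mem fun g hg => by
        obtain ⟨hgH, hgF, hgL⟩ := hW1mem.1 hg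
        refine hW1mem.2 ⟨mul_mem (mul_mem ha hgH) (inv_mem ha), ?_, hL.normal a ha.1 g hgL⟩
        rw [show (⟨a * g * a⁻¹, mul_mem (mul_mem ha hgH) (inv_mem ha)⟩ : H) = ⟨a, ha⟩ * ⟨g, hgH⟩ * ⟨a, ha⟩⁻¹
          from rfl, map_mul, map_mul, map_inv, hgF, mul_one, mul_inv_cancel]
    have hW1odd : ¬ 2 ∣ Nat.card W1 := by
      intro h2
      obtain ⟨⟨t, ht⟩, htord⟩ := exists_prime_orderOf_dvd_card' 2 h2
      rw [Subgroup.orderOf_mk] at htord
      obtain ⟨htH, htF, htL⟩ := hW1mem.1 ht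
      -- `V` is a Sylow 2-subgroup of `H ⊓ L`
      set HL : Subgroup G := H ⊓ L
      obtain ⟨P, hP⟩ := ((Signalizer.isPGroup_of_elemAb Φ.cV).comap_subtype :
        IsPGroup 2 (Φ.V.subgroupOf HL)).exists_le_sylow
      have hPV : (P : Subgroup HL).map HL.subtype = Φ.V := by
        refine (eq_of_le_of_card_ge (H := Φ.V) (K := (P : Subgroup HL).map HL.subtype)
          (fun v hv => ⟨⟨v, ⟨hVH hv, hL.V_le hv⟩⟩, hP hv, rfl⟩) ?_).symm
        obtain ⟨a, -, ha⟩ := Φ.two_le hx hxV hL (P.isPGroup'.map HL.subtype) (by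
          rintro _ ⟨p, -, rfl⟩; exact p.2.2)
        exact Nat.card_le_card_of_injective (fun p => (⟨a * p * a⁻¹, ha p p.2⟩ : Φ.V)) fun p q e =>
          Subtype.ext (mul_left_cancel (mul_right_cancel (congrArg Subtype.val e)))
      obtain ⟨Q2, hQ2⟩ := (IsPGroup.of_card (G := zpowers (⟨t, ⟨htH, htL⟩⟩ : HL)) (n := 1) (p := 2)
        (by rw [Nat.card_zpowers, ← Subgroup.orderOf_coe, pow_one]; exact htord)).exists_le_sylow
      obtain ⟨k, hk⟩ := MulAction.exists_smul_eq HL Q2 P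
      have hvV : (k : G) * t * (k : G)⁻¹ ∈ Φ.V := hPV ▸ ⟨k * ⟨t, ⟨htH, htL⟩⟩ * k⁻¹,
        hk ▸ ⟨_, hQ2 (mem_zpowers _), rfl⟩, rfl⟩
      have hkill := hW1mem.1 ((mem_normalizer_iff.1 (hW1n _ k.2.1) t).1 ht)
      obtain ⟨hvH, hvF, -⟩ := hkill
      have hv1' : (k : G) * t * (k : G)⁻¹ ≠ 1 := fun e => by
        rw [conj_eq_one_iff.1 e, orderOf_one] at htord; omega
      obtain ⟨i, hi⟩ : ∃ i, (k : G) * t * (k : G)⁻¹ = vv i := by
        rcases hall _ hvV with e | e | e | e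
        exacts [absurd e hv1', ⟨0, e⟩, ⟨1, e⟩, ⟨2, e⟩]
      obtain ⟨j, hj⟩ : ∃ j : Fin 3, j ≠ i := ⟨i + 1, (by decide : ∀ i : Fin 3, i + 1 ≠ i) i⟩
      obtain ⟨d, hd1, hdj, -⟩ := hTri.line j
      refine hd1 (hTri.eq_one_of_two hj hdj ?_)
      have hWi : W i = 1 := (congrArg F (Subtype.ext hi.symm : (⟨vv i, hEH (Φ.le (hvvV i))⟩ : H) = ⟨_, hvH⟩)).trans hvF
      rw [hWi, MulAut.one_apply]
    -- `V`-invariant subgroups over `⟨u⟩` and `⟨u'⟩`
    have hVW : Φ.V ≤ normalizer (W1 : Set G) := fun v hv => hW1n v (hVH hv)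
    have huW : u ∈ W1 := hW1mem.2 ⟨huH, hU1, huL⟩
    have hu'W : u' ∈ W1 := by
      refine hW1mem.2 ⟨hu'H, ?_, hu'L⟩
      rw [show (⟨u', hu'H⟩ : H) = ⟨τ, hτH⟩ * ⟨u, huH⟩ * ⟨τ, hτH⟩⁻¹ from rfl, map_mul, map_mul, map_inv,
        ← hU, hU1, mul_one, mul_inv_cancel]
    have hfind : ∀ y, y ∈ W1 → (∃ k, orderOf y = r ^ k) → (∀ v ∈ Φ.V, ∃ i : ℤ, v * y * v⁻¹ * (y ^ i)⁻¹ ∈ O[x]) →
        ∃ S : Subgroup G, IsPGroup r S ∧ S ≤ W1 ∧ Φ.V ≤ normalizer (S : Set G) ∧ Signalizer.IsSylowIn r W1 S ∧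
          ∃ a ∈ S, a * y⁻¹ ∈ O[x] := by
      intro y hy ⟨k, hk⟩ hyV
      have hyC : y ∈ C[x] := hL.le hy.2
      set Ky : Subgroup G := zpowers y ⊔ (O[x] ⊓ W1)
      have hnorm : zpowers y ≤ normalizer ((O[x] ⊓ W1 : Subgroup G) : Set G) := Signalizer.le_normalizer_inf
        (zpowers_le.2 (Signalizer.centralizer_le_normalizer_core x hyC)) (zpowers_le.2 (le_normalizer hy))
      have hKW : Ky ≤ W1 := sup_le (zpowers_le.2 hy) inf_le_right
      have hVO : Φ.V ≤ normalizer ((O[x] ⊓ W1 : Subgroup G) : Set G) := Signalizer.le_normalizer_inf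
        (fun v hv => Signalizer.centralizer_le_normalizer_core x (Φ.mem_C (Φ.le hv) hx)) hVW
      have hVK : Φ.V ≤ normalizer (Ky : Set G) := fun v hv => Signalizer.mem_normalizer_of_conj_mem fun g hg => by
        have hle : Ky ≤ Ky.comap (MulAut.conj v).toMonoidHom := by
          refine sup_le (zpowers_le.2 ?_) fun o ho => mem_sup_right ((mem_normalizer_iff.1 (hVO hv) o).1 ho)
          obtain ⟨i, hi⟩ := hyV v hv
          have hW : v * y * v⁻¹ * (y ^ i)⁻¹ ∈ W1 :=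
            mul_mem ((mem_normalizer_iff.1 (hVW hv) y).1 hy) (inv_mem (zpow_mem hy i))
          have h1 : v * y * v⁻¹ * (y ^ i)⁻¹ ∈ O[x] ⊓ W1 := ⟨hi, hW⟩
          have h2 : v * y * v⁻¹ ∈ Ky := by
            have := mul_mem (mem_sup_right (S := zpowers y) h1) (mem_sup_left (T := O[x] ⊓ W1) (zpow_mem (mem_zpowers y) i))
            rwa [inv_mul_cancel_right] at this
          exact h2
        exact hle hg
      obtain ⟨R0, hR0, hVR0⟩ := Signalizer.exists_invariant_sylow (p := 2) (q := r)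
        (Signalizer.isPGroup_of_elemAb Φ.cV) Ky (Signalizer.not_dvd_card_of_le hKW hW1odd) hVK
      obtain ⟨S, hS, hVS, hR0S⟩ := Signalizer.exists_invariant_sylow_ge (p := 2) (q := r)
        (Signalizer.isPGroup_of_elemAb Φ.cV) hW1odd hVW (hR0.1.trans hKW) hR0.2.1 hVR0
      refine ⟨S, hS.2.1, hS.1, hVS, hS, ?_⟩
      -- a conjugate of `y` within `⟨y⟩ (O ⊓ W1)` lies in `R0`
      obtain ⟨s, hs⟩ := hR0.exists_sylow
      have hyK : y ∈ Ky := mem_sup_left (mem_zpowers y)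
      obtain ⟨Q2, hQ2⟩ := ((IsPGroup.of_card (n := k) (by rw [Nat.card_zpowers, hk]) :
        IsPGroup r (zpowers y)).comap_subtype (K := Ky)).exists_le_sylow
      obtain ⟨⟨g, hgK⟩, hgs⟩ := MulAction.exists_smul_eq Ky Q2 s
      have h1 : g * y * g⁻¹ ∈ R0 := hs ▸ ⟨⟨g, hgK⟩ * ⟨y, hyK⟩ * ⟨g, hgK⟩⁻¹,
        hgs ▸ ⟨⟨y, hyK⟩, hQ2 (mem_zpowers y), rfl⟩, rfl⟩
      refine ⟨_, hR0S h1, ?_⟩
      rw [← SetLike.mem_coe, coe_mul_of_left_le_normalizer_right _ _ hnorm] at hgK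
      obtain ⟨p, hp, o, ho, hpo⟩ := hgK
      obtain ⟨i, rfl⟩ := mem_zpowers_iff.1 hp
      have hg' : y ^ i * o = g := hpo
      subst hg'
      have h3 := conj_core_mem (zpow_mem hyC i) (mul_mem ho.1 (conj_core_mem hyC (inv_mem ho.1)))
      rwa [show y ^ i * (o * (y * o⁻¹ * y⁻¹)) * (y ^ i)⁻¹ = y ^ i * o * y * (y ^ i * o)⁻¹ * y⁻¹ by group] at h3
    have huV : ∀ v ∈ Φ.V, ∃ i : ℤ, v * u * v⁻¹ * (u ^ i)⁻¹ ∈ O[x] := by
      have a0 : v0 * u * v0⁻¹ * (u ^ (1 : ℤ))⁻¹ ∈ O[x] := by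
        rw [zpow_one, ← huv.eq, mul_inv_cancel_right, mul_inv_cancel]; exact one_mem _
      intro v hv
      rcases hall v hv with e | e | e | e
      · exact ⟨1, by rw [e]; simp⟩
      · exact ⟨1, e ▸ a0⟩
      · exact ⟨-1, by rw [e, zpow_neg, zpow_one, inv_inv]; exact hui⟩
      · refine ⟨-1, ?_⟩
        rw [e, zpow_neg, zpow_one, inv_inv, ← h012]
        have := conj_core_mem hv0C hui
        rwa [show v0 * (v1 * u * v1⁻¹ * u) * v0⁻¹ = v0 * v1 * u * (v0 * v1)⁻¹ * (v0 * u * v0⁻¹) by group,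
          ← huv.eq, mul_inv_cancel_right] at this
    have hu'V : ∀ v ∈ Φ.V, ∃ i : ℤ, v * u' * v⁻¹ * (u' ^ i)⁻¹ ∈ O[x] := by
      intro v hv
      obtain ⟨i, hi⟩ := huV (τ⁻¹ * v * τ) (by
        simpa using (mem_normalizer_iff.1 (inv_mem (Φ.norm τ hτN)) v).1 hv)
      refine ⟨i, ?_⟩
      have := conj_core_mem hτC hi
      rwa [show τ * (τ⁻¹ * v * τ * u * (τ⁻¹ * v * τ)⁻¹ * (u ^ i)⁻¹) * τ⁻¹ =
        v * (τ * u * τ⁻¹) * v⁻¹ * ((τ * u * τ⁻¹) ^ i)⁻¹ by rw [conj_zpow]; group] at this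
    obtain ⟨S1, hS1r, hS1W, hVS1, hS1, a, ha, hau⟩ := hfind u huW ⟨j, hun⟩ huV
    obtain ⟨S2, hS2r, hS2W, hVS2, hS2, b, hb, hbu⟩ := hfind u' hu'W
      ⟨j, by rw [← hun]; exact MulEquiv.orderOf_eq (MulAut.conj τ) u⟩ hu'V
    obtain ⟨k, hkW, hkV, hk⟩ := Signalizer.exists_conj_invariant_sylow (p := 2) (q := r)
      (Signalizer.isPGroup_of_elemAb Φ.cV) hW1odd hVW hS1 hS2 hVS1 hVS2
    have hkO : k ∈ O[x] := hL.cent k hkW.2 ((Nat.odd_iff.2 (Nat.two_dvd_ne_zero.1 hW1odd)).of_dvd_nat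
      (Subgroup.orderOf_dvd_natCard _ hkW)) fun v hv =>
        comm_of_commute (mem_centralizer_iff.1 hkV v hv).symm
    set a2 := k * a * k⁻¹
    have ha2 : a2 ∈ S2 := hk ▸ mem_map_of_mem _ ha
    have haC : a ∈ C[x] := hL.le (hS1W ha).2
    have ha2u : a2 * u⁻¹ ∈ O[x] := by
      have := mul_mem (mul_mem hkO (conj_core_mem haC (inv_mem hkO))) hau
      rwa [show k * (a * k⁻¹ * a⁻¹) * (a * u⁻¹) = k * a * k⁻¹ * u⁻¹ by group] at this
    obtain ⟨d, hd, hdgen⟩ := hL.cyclic v0 hv0 hv01 r hr hr2 hLone S2 hS2r (fun s hs => (hS2W hs).2)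
    have hdC : d ∈ C[x] := hL.le (hS2W hd).2
    obtain ⟨i1, hi1⟩ := hdgen a2 ha2
    obtain ⟨i2, hi2⟩ := hdgen b hb
    obtain ⟨i3, hi3⟩ := hdgen _ ((mem_normalizer_iff.1 (hVS2 hv0) d).1 hd)
    -- work in the quotient
    haveI : (Cfsg.pPrimeCore 2 ↥C[x]).Normal := Cores.pPrimeCore_normal 2 _
    set π := QuotientGroup.mk' (Cfsg.pPrimeCore 2 ↥C[x])
    have hπ : ∀ p q (hp : p ∈ C[x]) (hq : q ∈ C[x]), p * q⁻¹ ∈ O[x] → π ⟨p, hp⟩ = π ⟨q, hq⟩ := by
      intro p q hp hq h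
      rw [← mul_inv_eq_one, ← map_inv, ← map_mul]
      exact (QuotientGroup.eq_one_iff _).2 ((mem_core_iff (mul_mem hp (inv_mem hq))).1 h)
    have hu'C : u' ∈ C[x] := hu'H.1
    set D := π ⟨d, hdC⟩
    set Z := π ⟨v0, hv0C⟩
    have e1 : π ⟨u, huC⟩ = D ^ i1 := by
      rw [← map_zpow, ← hπ a2 u (hL.le (hS2W ha2).2) huC ha2u]
      exact hπ _ _ _ (zpow_mem hdC i1) hi1
    have e2 : π ⟨u', hu'C⟩ = D ^ i2 := by
      rw [← map_zpow, ← hπ b u' (hL.le (hS2W hb).2) hu'C hbu]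
      exact hπ _ _ _ (zpow_mem hdC i2) hi2
    have e3 : Z * D * Z⁻¹ = D ^ i3 := by
      rw [← map_zpow, ← map_inv, ← map_mul, ← map_mul]
      exact hπ _ _ (mul_mem (mul_mem hv0C hdC) (inv_mem hv0C)) (zpow_mem hdC i3) hi3
    have hfixu : Z * π ⟨u, huC⟩ * Z⁻¹ = π ⟨u, huC⟩ := by
      rw [← map_inv, ← map_mul, ← map_mul]
      exact congrArg π (Subtype.ext (by
        show v0 * u * v0⁻¹ = u
        rw [← huv.eq, mul_inv_cancel_right]))
    have hu'inv : v0 * u' * v0⁻¹ * u' ∈ O[x] := by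
      -- `v0 = τ v2 τ⁻¹` and `v2` inverts `u`
      have hu2 : v2 * u * v2⁻¹ * u ∈ O[x] := by
        rw [← h012]
        have := conj_core_mem hv0C hui
        rwa [show v0 * (v1 * u * v1⁻¹ * u) * v0⁻¹ = v0 * v1 * u * (v0 * v1)⁻¹ * (v0 * u * v0⁻¹) by group,
          ← huv.eq, mul_inv_cancel_right] at this
      have := conj_core_mem hτC hu2
      rwa [show τ * (v2 * u * v2⁻¹ * u) * τ⁻¹ =
        τ * v2 * τ⁻¹ * (τ * u * τ⁻¹) * (τ * v2 * τ⁻¹)⁻¹ * (τ * u * τ⁻¹) by group, ht2] at this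
    have hinvu' : Z * π ⟨u', hu'C⟩ * Z⁻¹ = (π ⟨u', hu'C⟩)⁻¹ := by
      rw [← map_inv, ← map_inv, ← map_mul, ← map_mul]
      exact hπ _ _ (mul_mem (mul_mem hv0C hu'C) (inv_mem hv0C)) (inv_mem hu'C) (by rw [inv_inv]; exact hu'inv)
    rw [e1, ← conj_zpow, e3, ← zpow_mul] at hfixu
    rw [e2, ← conj_zpow, e3, ← zpow_mul, ← zpow_neg] at hinvu'
    obtain ⟨k0, hk0⟩ : ∃ k0, orderOf D = r ^ k0 := by
      obtain ⟨t, ht⟩ := hS2r ⟨d, hd⟩
      obtain ⟨i, -, hi⟩ := (Nat.dvd_prime_pow hr).1 (((orderOf_map_dvd π _).trans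
        (dvd_of_eq (Subgroup.orderOf_mk d hdC))).trans (orderOf_dvd_of_pow_eq_one (congrArg Subtype.val ht)))
      exact ⟨i, hi⟩
    have hdiv : ∀ z : ℤ, D ^ z = 1 → (r : ℤ) ^ k0 ∣ z := fun z hz => by
      have h := orderOf_dvd_iff_zpow_eq_one.2 hz
      rwa [hk0, Nat.cast_pow] at h
    have hne1 : ∀ {p : G} (hp : p ∈ C[x]), p ∉ O[x] → π ⟨p, hp⟩ ≠ 1 := fun hp h e =>
      h ((mem_core_iff hp).2 ((QuotientGroup.eq_one_iff _).1 e))
    have hu'O : u' ∉ O[x] := fun h => huO (by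
      have := conj_core_mem (inv_mem hτC) h
      rwa [show τ⁻¹ * (τ * u * τ⁻¹) * τ⁻¹⁻¹ = u by group] at this)
    have hnot : ∀ i : ℤ, D ^ i ≠ 1 → ¬ (r : ℤ) ^ k0 ∣ i := fun i hi ⟨c, hc⟩ => hi (by
      rw [hc, zpow_mul, show D ^ ((r : ℤ) ^ k0) = 1 by
        rw [← Nat.cast_pow, zpow_natCast, ← hk0, pow_orderOf_eq_one], one_zpow])
    have hn1 := hnot i1 (e1 ▸ hne1 huC huO)
    have hn2 := hnot i2 (e2 ▸ hne1 hu'C hu'O)
    have d1 : (r : ℤ) ^ k0 ∣ (i3 - 1) * i1 := by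
      refine hdiv _ ?_
      rw [sub_mul, one_mul, zpow_sub, hfixu, mul_inv_cancel]
    have d2 : (r : ℤ) ^ k0 ∣ (i3 + 1) * i2 := by
      refine hdiv _ ?_
      rw [add_mul, one_mul, zpow_add, hinvu', zpow_neg, inv_mul_cancel]
    have hp : Prime (r : ℤ) := Nat.prime_iff_prime_int.1 hr
    have hr1 : (r : ℤ) ∣ i3 - 1 := by
      by_contra h
      exact hn1 ((IsCoprime.pow_left (hp.coprime_iff_not_dvd.2 h)).dvd_of_dvd_mul_left d1)
    have hr3 : (r : ℤ) ∣ i3 + 1 := by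
      by_contra h
      exact hn2 ((IsCoprime.pow_left (hp.coprime_iff_not_dvd.2 h)).dvd_of_dvd_mul_left d2)
    have h2 := dvd_sub hr3 hr1
    rw [show i3 + 1 - (i3 - 1) = (2 : ℕ) by norm_num] at h2
    exact hr2 ((Nat.prime_dvd_prime_iff_eq hr Nat.prime_two).1 (Int.natCast_dvd_natCast.1 h2))
  · -- `u` acts as a shift
    have hU2 : ∀ m, U (W 1 (U m)) = W 1 m := by
      intro m
      simp only [hU, hW, ← MulAut.mul_apply, ← map_mul]
      congr 2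
      refine Subtype.ext ?_
      show u * (v1 * u) = v1
      rw [show v1 * u = u⁻¹ * v1 by rw [← huinv]; group, mul_inv_cancel_left]
    have hUr : U ^ (r ^ j) = 1 := by
      rw [hU, ← map_pow, show (⟨u, huH⟩ : H) ^ (r ^ j) = 1 from Subtype.ext (by
        show u ^ (r ^ j) = 1
        rw [← hun, pow_orderOf_eq_one]), map_one]
    set U' := F ⟨u', hu'H⟩ with hU'
    have hUT : U' = T * U * T⁻¹ := by rw [hT, hU, ← map_inv, ← map_mul, ← map_mul]; rfl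
    haveI : Finite M := Subtype.finite
    haveI : Finite (MulAut M) := Finite.of_injective (fun a : MulAut M => (a : M → M)) DFunLike.coe_injective
    obtain ⟨P', hP', hUP, hU'P, p, q, hCs⟩ : ∃ P' : Subgroup (MulAut M), IsPGroup r P' ∧ U ∈ P' ∧ U' ∈ P' ∧
        ∃ p q, IsShift W p q (U * U' * U⁻¹ * U'⁻¹) ∨ IsShift W p q (U' * U * U'⁻¹ * U⁻¹) := by
      rcases hTri.exists_shift hUr hU1 hU0 hU2 with hs | hs
      · have hs' : IsShift W 0 2 U' := hUT ▸ hTri.shift_conj hs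
        obtain ⟨P', h1, h2, h3⟩ := hTri.isPGroup_pair (show (0 : Fin 3) ≠ 1 by decide) hs' hs
        exact ⟨P', h1, h3, h2, 0, 1, Or.inl (hTri.shift_comm (by decide) hs' hs)⟩
      · have hs' : IsShift W 2 0 U' := hUT ▸ hTri.shift_conj hs
        obtain ⟨P', h1, h2, h3⟩ := hTri.isPGroup_pair (show (1 : Fin 3) ≠ 0 by decide) hs hs'
        exact ⟨P', h1, h2, h3, 1, 0, Or.inr (hTri.shift_comm (by decide) hs hs')⟩
    -- preimages in one `r`-subgroup of `L`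
    set W' : Subgroup H := closure {⟨u, huH⟩, ⟨u', hu'H⟩}
    have hW'L : W' ≤ L.subgroupOf H := (closure_le _).2 (Set.pair_subset huL hu'L)
    have hW'F : W' ≤ P'.comap F := (closure_le _).2 (Set.pair_subset hUP hU'P)
    set ψ : W' →* MulAut M := F.comp W'.subtype
    obtain ⟨R⟩ : Nonempty (Sylow r W') := inferInstance
    have hRtop : ((R.mapSurjective ψ.rangeRestrict_surjective : Sylow r ψ.range) : Subgroup ψ.range) = ⊤ := by
      have hle : ψ.range ≤ P' := by rintro _ ⟨z, rfl⟩; exact hW'F z.2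
      exact ((R.mapSurjective ψ.rangeRestrict_surjective).is_maximal'
        ((hP'.to_le hle).of_equiv Subgroup.topEquiv.symm) le_top).symm
    have hpre : ∀ z : W', ∃ a ∈ (R : Subgroup W'), ψ a = ψ z := fun z => by
      have h : ψ.rangeRestrict z ∈ ((R.mapSurjective ψ.rangeRestrict_surjective : Sylow r ψ.range) :
        Subgroup ψ.range) := by rw [hRtop]; exact mem_top _
      rw [Sylow.coe_mapSurjective] at h
      obtain ⟨a, ha, e⟩ := h
      exact ⟨a, ha, congrArg Subtype.val e⟩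
    set ιW : W' →* G := H.subtype.comp W'.subtype
    obtain ⟨d, hd, hdgen⟩ := hL.cyclic v0 hv0 hv01 r hr hr2 hLone ((R : Subgroup W').map ιW)
      (R.isPGroup'.map _) (by rintro _ ⟨z, -, rfl⟩; exact hW'L z.2)
    have hdC : d ∈ C[x] := by
      obtain ⟨z, -, rfl⟩ := hd
      exact (z : H).2.1
    -- the commutator comes from the core
    set K := (O[x].subgroupOf H).map F with hK
    have hcommK : ∀ y z : W', ψ y * ψ z * (ψ y)⁻¹ * (ψ z)⁻¹ ∈ K := by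
      intro y z
      obtain ⟨a, ha, hay⟩ := hpre y
      obtain ⟨b, hb, hbz⟩ := hpre z
      obtain ⟨i1, hi1⟩ := hdgen (ιW a) (mem_map_of_mem _ ha)
      obtain ⟨i2, hi2⟩ := hdgen (ιW b) (mem_map_of_mem _ hb)
      rw [← hay, ← hbz, ← map_inv, ← map_inv, ← map_mul, ← map_mul, ← map_mul]
      exact mem_map_of_mem F (show ((a * b * a⁻¹ * b⁻¹ : W') : H) ∈ O[x].subgroupOf H from comm_of_gen hdC hi1 hi2)
    have hKodd : Odd (Nat.card K) := by
      refine (Nat.odd_iff.2 (Nat.two_dvd_ne_zero.1 (Signalizer.not_dvd_card_core (p := 2) x))).of_dvd_nat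
        ((card_map_dvd _ F).trans ?_)
      exact Subgroup.card_comap_dvd_of_injective (O[x]) H.subtype H.subtype_injective
    have hKT : ∀ X ∈ K, T * X * T⁻¹ ∈ K := by
      rintro _ ⟨z, hz, rfl⟩
      rw [hT, ← map_inv, ← map_mul, ← map_mul]
      exact mem_map_of_mem F (show ((⟨τ, hτH⟩ * z * ⟨τ, hτH⟩⁻¹ : H) : G) ∈ O[x] from conj_core_mem hτC hz)
    have huW : (⟨u, huH⟩ : H) ∈ W' := subset_closure (Or.inl rfl)
    have hu'W : (⟨u', hu'H⟩ : H) ∈ W' := subset_closure (Or.inr rfl)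
    rcases hCs with hCs | hCs
    · exact hTri.false_of_odd hKodd hKT (hcommK ⟨_, huW⟩ ⟨_, hu'W⟩) hCs
    · exact hTri.false_of_odd hKodd hKT (hcommK ⟨_, hu'W⟩ ⟨_, huW⟩) hCs

theorem Frame.Closed.core_le {x : G} {hx : x ∈ Φ.E} {Y : Subgroup G} (hC : Φ.Closed hx Y) (hxV : x ∉ Φ.V) :
    O[x] ≤ Y := by
  have hsolv : Group.IsSolvable ↥(O[x]) := OddOrderTheorem.solvable
    (Nat.odd_iff.2 (Nat.two_dvd_ne_zero.1 (Signalizer.not_dvd_card_core x)))
  obtain ⟨n, hn⟩ := (Group.isSolvable_def _).1 hsolv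
  have hnorm : ∀ i, C[x] ≤ normalizer (((derivedSeries ↥(O[x]) i).map (O[x]).subtype : Subgroup G) : Set G) :=
    fun i g hg => Signalizer.mem_normalizer_of_conj_mem fun d hd => by
      obtain ⟨d, hd', rfl⟩ := hd
      have hgN := Signalizer.centralizer_le_normalizer_core (p := 2) x hg
      have hch : (derivedSeries ↥(O[x]) i).map ((O[x]).normalizerMonoidHom ⟨g, hgN⟩).toMonoidHom =
          derivedSeries ↥(O[x]) i :=
        (inferInstance : (derivedSeries ↥(O[x]) i).Characteristic) |> fun h =>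
          characteristic_iff_map_eq.1 h _
      exact ⟨_, hch ▸ mem_map_of_mem _ hd', rfl⟩
  have key : ∀ k, (derivedSeries ↥(O[x]) (n - k)).map (O[x]).subtype ≤ Y := by
    intro k
    induction k with
    | zero => rw [Nat.sub_zero, hn, Subgroup.map_bot]; exact bot_le
    | succ k ih =>
      rcases Nat.lt_or_ge k n with hk | hk
      · refine hC.step hxV (map_subtype_le _) (hnorm _) ?_
        rintro _ ⟨a, ha, rfl⟩ _ ⟨b, hb, rfl⟩
        refine ih ⟨a * b * a⁻¹ * b⁻¹, ?_, rfl⟩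
        rw [show n - k = n - (k + 1) + 1 by omega, derivedSeries_succ]
        exact commutator_mem_commutator ha hb
      · rwa [show n - (k + 1) = n - k by omega]
  have := key n
  rwa [Nat.sub_self, derivedSeries_zero, ← MonoidHom.range_eq_map, Subgroup.range_subtype] at this

end Cfsg.Agent.J2Core
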