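import Cfsg.Agent.Lib.J2Core.KleinPSL
import Cfsg.Agent.Lib.AbelianSylowTwo.Simple
import Cfsg.Agent.Lib.Transfer.Focal
import Cfsg.Agent.Lib.Cores.CoreFree

/-!
# Core-free groups with elementary Sylow 2-subgroup of order 16, a central involution and one 3-cycle on `V`

* `KHyp`  : the hypotheses
* `KData` : a normal subgroup `L` through `V` with the facts used
* `KHyp.exists_data`
-/

set_option autoImplicit false
set_option linter.style.haveILetI false

namespace Cfsg.Agent.J2Core

open Subgroup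
open scoped commutatorElement

universe u

variable {X : Type u} [Group X] [Finite X]

/-- The hypotheses. -/
structure KHyp (P : Sylow 2 X) (V : Subgroup X) (x τ : X) : Prop where
  core : Cfsg.oddCore X = ⊥
  ea : Cfsg.IsElementaryAbelian 2 (P : Subgroup X)
  card : Nat.card (P : Subgroup X) = 16
  le : V ≤ (P : Subgroup X)
  cardV : Nat.card V = 4
  cx : x ∈ center X
  xP : x ∈ (P : Subgroup X)
  xV : x ∉ V
  norm : ∀ g ∈ normalizer ((P : Subgroup X) : Set X), g ∈ normalizer (V : Set X)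
  τn : τ ∈ normalizer ((P : Subgroup X) : Set X)
  τodd : Odd (orderOf τ)
  fpf : ∀ v ∈ V, τ * v * τ⁻¹ = v → v = 1

/-- What is used. -/
structure KData (P : Sylow 2 X) (V : Subgroup X) (τ : X) (L : Subgroup X) : Prop where
  normal : L.Normal
  le : V ≤ L
  inf : ∀ e ∈ (P : Subgroup X), e ∈ L → e ∈ V
  central : ∀ e ∈ (P : Subgroup X), τ * e * τ⁻¹ = e → e ∈ center X
  cyclic : ∀ v ∈ V, v ≠ 1 → ∀ r : ℕ, r.Prime → r ≠ 2 → (∃ y ∈ L, orderOf y = r ∧ Commute y v) →
    ∀ R : Subgroup X, IsPGroup r R → R ≤ L → IsCyclic R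
  cent : ∀ y ∈ L, Odd (orderOf y) → (∀ v ∈ V, Commute y v) → y = 1
  final : (∀ v ∈ V, v ≠ 1 → ∀ y ∈ L, Odd (orderOf y) → Commute y v → y = 1) →
    ∀ v ∈ V, v ≠ 1 → ∀ y : X, Odd (orderOf y) → Commute y v → y = 1

theorem KHyp.exists_data {P : Sylow 2 X} {V : Subgroup X} {x τ : X} (h : KHyp P V x τ) :
    ∃ L, KData P V τ L := by
  haveI : Fact (Nat.Prime 2) := ⟨Nat.prime_two⟩
  haveI : IsMulCommutative (P : Subgroup X) := h.ea.1
  have hVea : Cfsg.IsElementaryAbelian 2 V := Signalizer.elemAb_of_le h.ea h.le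
  have hxfix : ∀ g : X, g * x * g⁻¹ = x := fun g => by
    rw [mem_center_iff.1 h.cx g, mul_inv_cancel_right]
  have hτV := h.norm τ h.τn
  have hcommP : ∀ a ∈ (P : Subgroup X), ∀ b ∈ (P : Subgroup X), a * b = b * a := fun a ha b hb =>
    Signalizer.commute_of_isMulCommutative h.ea.1 ha hb
  -- the transfer kernel
  set K : Subgroup X := commutator X ⊔ V with hKdef
  have hcK : commutator X ≤ K := le_sup_left
  haveI hKn : K.Normal := ⟨fun n hn g => by
    have : g * n * g⁻¹ * n⁻¹ ∈ K := hcK (commutator_mem_commutator (mem_top g) (mem_top n))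
    simpa using mul_mem this hn⟩
  have hKP : ∀ e ∈ (P : Subgroup X), e ∈ K → e ∈ V := by
    intro e he heK
    rw [hKdef, ← SetLike.mem_coe, coe_mul_of_right_le_normalizer_left _ _
      (by rw [normalizer_eq_top (commutator X)]; exact le_top)] at heK
    obtain ⟨c, hc, v, hv, rfl⟩ := heK
    have hcP : c ∈ commutator X ⊓ (P : Subgroup X) :=
      ⟨hc, show c ∈ (P : Subgroup X) by simpa [mul_assoc] using (P : Subgroup X).mul_mem he (inv_mem (h.le hv))⟩
    rw [Transfer.commutator_inf_eq_commutator_normalizer P] at hcP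
    refine mul_mem ((commutator_le (H₁ := (P : Subgroup X)) (H₂ := normalizer ((P : Subgroup X) : Set X))
      (H₃ := V)).2 (fun a ha n hn => ?_) hcP) hv
    obtain ⟨y, hy, hyc, hya⟩ := Transfer.exists_coprime_conj_eq P hn
    have hyn : y ∈ normalizer ((P : Subgroup X) : Set X) := (zpowers_le.2 hn) hy
    have hd := conj_mem_add h.ea h.card h.le h.cardV (Nat.coprime_two_right.1 hyc) hyn
      (h.norm y hyn) h.xP h.xV (hxfix y) (inv_mem ha)
    rw [inv_inv, hya _ (inv_mem ha)] at hd
    rw [commutatorElement_def, show a * n * a⁻¹ * n⁻¹ = a * (n * a⁻¹ * n⁻¹) by group,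
      hcommP a ha _ ((mem_normalizer_iff.1 hn _).1 (inv_mem ha))]
    exact hd
  -- the preimage of the odd part
  set q := QuotientGroup.mk' K with hq
  set X0 : Subgroup X := (Cfsg.pPrimeCore 2 (X ⧸ K)).comap q with hX0
  haveI hX0n : X0.Normal := (Cores.pPrimeCore_normal 2 (X ⧸ K)).comap q
  have hcX0 : commutator X ≤ X0 := hcK.trans fun k hk => by
    rw [hX0, mem_comap, show q k = 1 from (QuotientGroup.eq_one_iff k).2 hk]
    exact one_mem _
  have hoddX0 : ∀ g : X, Odd (orderOf g) → g ∈ X0 := by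
    intro g hg
    rw [hX0, mem_comap]
    refine Cores.le_pPrimeCore (N := zpowers (q g)) ⟨fun n hn b => ?_⟩ ?_ (mem_zpowers _)
    · obtain ⟨n, rfl⟩ := QuotientGroup.mk'_surjective K n
      obtain ⟨b, rfl⟩ := QuotientGroup.mk'_surjective K b
      have h1 : q (b * n * b⁻¹ * n⁻¹) = 1 :=
        (QuotientGroup.eq_one_iff _).2 (hcK (commutator_mem_commutator (mem_top b) (mem_top n)))
      rw [map_mul, mul_eq_one_iff_eq_inv, map_inv, inv_inv, map_mul, map_mul, map_inv] at h1
      rw [h1]; exact hn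
    · rw [Nat.card_zpowers]
      exact Nat.coprime_two_right.2 (hg.of_dvd_nat (orderOf_map_dvd q g))
  have hX0P : ∀ e ∈ (P : Subgroup X), e ∈ X0 → e ∈ V := by
    intro e he heX
    refine hKP e he ((QuotientGroup.eq_one_iff e).1 ?_)
    have h1 : orderOf (q e) ∣ 2 := (orderOf_map_dvd q e).trans (orderOf_dvd_of_pow_eq_one (h.ea.2 e he))
    have h2 : orderOf (q e) ∣ Nat.card (Cfsg.pPrimeCore 2 (X ⧸ K)) :=
      Subgroup.orderOf_dvd_natCard _ (mem_comap.1 (hX0 ▸ heX))
    exact orderOf_eq_one_iff.1 (Nat.eq_one_of_dvd_coprimes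
      (Cores.coprime_card_pPrimeCore 2).symm h1 h2)
  have hVX0 : V ≤ X0 := fun v hv => by
    rw [hX0, mem_comap, show q v = 1 from (QuotientGroup.eq_one_iff v).2
      (hKdef ▸ mem_sup_right hv : v ∈ K)]
    exact one_mem _
  have htwo : ∀ (T : Subgroup X), IsPGroup 2 T → ∃ g : X, ∀ t ∈ T, g * t * g⁻¹ ∈ (P : Subgroup X) := by
    intro T hT
    obtain ⟨Q, hQ⟩ := hT.exists_le_sylow
    obtain ⟨g, hg⟩ := MulAction.exists_smul_eq X Q P
    exact ⟨g, fun t ht => by rw [← hg]; exact ⟨t, hQ ht, rfl⟩⟩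
  -- `X = X0 P`
  have hgen : ∀ g : X, ∃ a ∈ X0, ∃ e ∈ (P : Subgroup X), g = a * e := by
    intro g
    obtain ⟨a, b, hab, -, -, ⟨k, hk⟩, hb⟩ := Transfer.exists_pPart_mul (p := 2) g
    obtain ⟨w, hw⟩ := htwo (zpowers a) (IsPGroup.of_card (n := k) (by rw [Nat.card_zpowers, hk]))
    have hw' := hw a (mem_zpowers a)
    set e := w * a * w⁻¹
    have h1 : a * e⁻¹ ∈ X0 := hcX0 (by
      rw [show a * e⁻¹ = ⁅a, w⁆ by
        rw [commutatorElement_def, show e = w * a * w⁻¹ from rfl]; group]
      exact commutator_mem_commutator (mem_top a) (mem_top w))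
    refine ⟨a * e⁻¹ * (e * b * e⁻¹), mul_mem h1 (hX0n.conj_mem b (hoddX0 b (Nat.coprime_two_right.1 hb)) e),
      e, hw', ?_⟩
    rw [hab]; group
  have hcentral : ∀ e ∈ (P : Subgroup X), (∀ a ∈ X0, Commute e a) → e ∈ center X := by
    intro e he hea
    refine mem_center_iff.2 fun g => ?_
    obtain ⟨a, ha, f, hf, rfl⟩ := hgen g
    rw [mul_assoc, hcommP f hf e he, ← mul_assoc, ← (hea a ha).eq, mul_assoc]
  have hO0 : Cfsg.oddCore X0 = ⊥ := (map_eq_bot_iff_of_injective _ X0.subtype_injective).1 (by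
    rw [show Cfsg.oddCore X0 = Cfsg.pPrimeCore 2 X0 from rfl, Cores.pPrimeCore_map_subtype,
      show Cfsg.pPrimeCore 2 X = ⊥ from h.core, bot_inf_eq])
  have hX0two : ∀ T : Subgroup X, IsPGroup 2 T → T ≤ X0 → Nat.card T ≤ 4 := by
    intro T hT hTX
    obtain ⟨g, hg⟩ := htwo T hT
    rw [← h.cardV]
    exact Nat.card_le_card_of_injective
      (fun t => (⟨g * t * g⁻¹, hX0P _ (hg t t.2) (hX0n.conj_mem _ (hTX t.2) g)⟩ : V))
      (fun a b e => Subtype.ext (mul_left_cancel (mul_right_cancel (congrArg Subtype.val e))))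
  obtain ⟨S0, hS0⟩ : ∃ S0 : Sylow 2 X0, (S0 : Subgroup X0) = V.subgroupOf X0 := by
    have hV2 : IsPGroup 2 (V.subgroupOf X0) := (Signalizer.isPGroup_of_elemAb hVea).comap_subtype
    obtain ⟨Q, hQ⟩ := hV2.exists_le_sylow
    refine ⟨Q, (eq_of_le_of_card_ge hQ ?_).symm⟩
    rw [Cores.card_subgroupOf hVX0, h.cardV, Nat.card_congr
      ((Q : Subgroup X0).equivMapOfInjective _ X0.subtype_injective).toEquiv]
    exact hX0two _ (Q.isPGroup'.map _) (map_subtype_le _)
  have hK4 : IsKleinFour (S0 : Subgroup X0) := by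
    rw [hS0]
    have e := subgroupOfEquivOfLe hVX0
    refine ⟨by rw [Nat.card_congr e.toEquiv, h.cardV], ?_⟩
    rw [Monoid.exponent_eq_of_mulEquiv e]
    refine ((Nat.dvd_prime Nat.prime_two).1 (Monoid.exponent_dvd_of_forall_pow_eq_one
      fun a : V => Subtype.ext (hVea.2 a a.2))).resolve_left fun h1 => ?_
    haveI := Monoid.exp_eq_one_iff.1 h1
    have := h.cardV
    rw [Nat.card_unique] at this
    omega
  by_cases hA : Cfsg.pCore 2 X0 = ⊥
  · -- simple case
    obtain ⟨M, hMn, hMs, hMna, hSM, hCM⟩ := AbelianSylowTwo.exists_simple_normal hO0 hA S0 hK4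
    haveI := hMs
    set L : Subgroup X := M.map X0.subtype with hL
    have hLX0 : L ≤ X0 := map_subtype_le _
    have hVL : V ≤ L := fun v hv => ⟨⟨v, hVX0 hv⟩, hSM (by rw [hS0]; exact hv), rfl⟩
    have hLn : L.Normal := by
      refine ⟨fun n hn g => ?_⟩
      obtain ⟨m, hm, rfl⟩ := hn
      let φ : X0 ≃* X0 := MulAut.conjNormal g
      -- the conjugate of `M` is normal and meets `M` in the whole of it
      haveI hM' : (M.map φ.toMonoidHom).Normal := hMn.map _ φ.surjective
      have hne : M.map φ.toMonoidHom ⊓ M ≠ ⊥ := by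
        intro e
        have hc : M ≤ centralizer (M.map φ.toMonoidHom : Set X0) :=
          le_centralizer_iff.1 (Cores.le_centralizer_of_inf_eq_bot _ _ e)
        have h2' : 2 ∣ Nat.card ↥(M.map φ.toMonoidHom) := by
          rw [← Nat.card_congr (M.equivMapOfInjective φ.toMonoidHom φ.injective).toEquiv]
          exact ((by norm_num : (2 : ℕ) ∣ 4).trans (hK4.card_four ▸ card_dvd_of_le hSM))
        obtain ⟨⟨t, ht⟩, ht2⟩ := exists_prime_orderOf_dvd_card' 2 h2'
        rw [Subgroup.orderOf_mk] at ht2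
        have ht1 : t ≠ 1 := fun e1 => by rw [e1, orderOf_one] at ht2; omega
        have : t ∈ centralizer (M : Set X0) := mem_centralizer_iff.2 fun a ha =>
          (mem_centralizer_iff.1 (hc ha) t ht).symm
        rw [hCM, mem_bot] at this
        exact ht1 this
      have hle : M ≤ M.map φ.toMonoidHom := by
        rcases (inferInstance : ((M.map φ.toMonoidHom).subgroupOf M).Normal).eq_bot_or_eq_top with e | e
        · exact absurd (by
            rw [← subgroupOf_map_subtype (M.map φ.toMonoidHom) M, e, Subgroup.map_bot]) hne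
        · exact subgroupOf_eq_top.1 e
      have heq := eq_of_le_of_card_ge hle (Nat.card_congr (M.equivMapOfInjective φ.toMonoidHom φ.injective).toEquiv).ge
      exact ⟨φ m, heq.symm ▸ mem_map_of_mem _ hm, rfl⟩
    let eL : M ≃* L := M.equivMapOfInjective _ X0.subtype_injective
    haveI : Nontrivial L := eL.symm.toEquiv.nontrivial
    haveI : IsSimpleGroup L := IsSimpleGroup.isSimpleGroup_of_surjective eL.toMonoidHom eL.surjective
    have hLna : ¬ IsMulCommutative L := fun hc =>
      hMna ⟨⟨fun a b => eL.injective (by rw [map_mul, map_mul]; exact hc.is_comm.comm (eL a) (eL b))⟩⟩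
    obtain ⟨SL, hSL⟩ : ∃ SL : Sylow 2 L, (SL : Subgroup L) = V.subgroupOf L := by
      obtain ⟨Q, hQ⟩ := ((Signalizer.isPGroup_of_elemAb hVea).comap_subtype : IsPGroup 2 (V.subgroupOf L)).exists_le_sylow
      refine ⟨Q, (eq_of_le_of_card_ge hQ ?_).symm⟩
      show _ ≤ Nat.card ↥(V.subgroupOf L)
      rw [Cores.card_subgroupOf hVL, h.cardV, Nat.card_congr
        ((Q : Subgroup L).equivMapOfInjective _ L.subtype_injective).toEquiv]
      exact hX0two _ (Q.isPGroup'.map _) ((map_subtype_le _).trans hLX0)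
    have hSL4 : IsKleinFour (SL : Subgroup L) := by
      rw [hSL]
      have e := (subgroupOfEquivOfLe hVX0).trans (subgroupOfEquivOfLe hVL).symm
      have h4 := hK4.card_four
      have h2 := hK4.exponent_two
      rw [hS0] at h4 h2
      exact ⟨by rw [← Nat.card_congr e.toEquiv, h4], by rw [← Monoid.exponent_eq_of_mulEquiv e, h2]⟩
    have hF := facts_of_klein hLna SL hSL4
    have hmemS : ∀ v (hv : v ∈ V), (⟨v, hVL hv⟩ : L) ∈ (SL : Subgroup L) := fun v hv => by
      rw [hSL]; exact hv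
    have hcentL : ∀ y ∈ L, Odd (orderOf y) → (∀ v ∈ V, Commute y v) → y = 1 := fun y hy hyo hyv =>
      congrArg Subtype.val (hF.cent ⟨y, hy⟩ (by rwa [Subgroup.orderOf_mk]) fun v hv => by
        rw [hSL] at hv
        exact Subtype.ext (hyv v hv).eq)
    refine ⟨L, hLn, hVL, fun e he heL => hX0P e he (hLX0 heL), fun e he hτe => ?_, ?_, hcentL, ?_⟩
    · let α : MulAut L := MulAut.conjNormal e
      have hα : α * α = 1 := by
        rw [← map_mul, ← pow_two, h.ea.2 e he, map_one]
      obtain ⟨⟨y, hy⟩, hy'⟩ := hF.inner α hα fun v hv => by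
        rw [hSL] at hv
        exact Subtype.ext (by
          show e * (v : X) * e⁻¹ = v
          rw [hcommP e he (v : X) (h.le hv), mul_inv_cancel_right])
      have hconj : ∀ a ∈ L, e * a * e⁻¹ = y * a * y⁻¹ := fun a ha =>
        congrArg Subtype.val (MulEquiv.congr_fun hy' ⟨a, ha⟩)
      have hyV : ∀ v ∈ V, Commute y v := fun v hv => by
        have := hconj v (hVL hv)
        rw [hcommP e he _ (h.le hv), mul_inv_cancel_right] at this
        exact mul_inv_eq_iff_eq_mul.1 this.symm
      -- `y` lies in `V`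
      have hyV' : y ∈ V := by
        obtain ⟨a, b, hab, haz, hbz, ⟨k, hk⟩, hb⟩ := Transfer.exists_pPart_mul (p := 2) y
        have hb1 : b = 1 := hcentL b ((zpowers_le.2 hy) hbz) (Nat.coprime_two_right.1 hb) fun v hv => by
          obtain ⟨i, rfl⟩ := mem_zpowers_iff.1 hbz
          exact (hyV v hv).zpow_left i
        rw [hb1, mul_one] at hab
        subst hab
        have hT : IsPGroup 2 ↥(V ⊔ zpowers y) :=
          (Signalizer.isPGroup_of_elemAb hVea).to_sup_of_normal_left'
            (IsPGroup.of_card (n := k) (by rw [Nat.card_zpowers, hk])) (zpowers_le.2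
              (Signalizer.mem_normalizer_of_conj_mem fun v hv => by
                rw [(hyV v hv).eq, mul_inv_cancel_right]; exact hv))
        have hle := hX0two _ hT (sup_le hVX0 (zpowers_le.2 (hLX0 hy)))
        have := eq_of_le_of_card_ge (le_sup_left (b := zpowers y)) (by rw [h.cardV]; exact hle)
        exact this.symm ▸ mem_sup_right (mem_zpowers y)
      have hy1 : y = 1 := by
        refine h.fpf y hyV' ?_
        have hτy : τ * y * τ⁻¹ ∈ L := hLn.conj_mem _ hy τ
        have hc : (⟨y, hy⟩ : L)⁻¹ * ⟨_, hτy⟩ ∈ center L := mem_center_iff.2 fun ⟨a, ha⟩ => Subtype.ext (by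
          have ha' : τ⁻¹ * a * τ ∈ L := by simpa using hLn.conj_mem _ ha τ⁻¹
          have h1 := hconj _ ha'
          have he2 : e * τ⁻¹ = τ⁻¹ * e := by
            rw [eq_inv_mul_iff_mul_eq, ← mul_assoc]; exact hτe
          have h2 : τ * (e * (τ⁻¹ * a * τ) * e⁻¹) * τ⁻¹ = e * a * e⁻¹ := by
            have he3 : τ * e⁻¹ * τ⁻¹ = e⁻¹ := by rw [← conj_inv, hτe]
            calc τ * (e * (τ⁻¹ * a * τ) * e⁻¹) * τ⁻¹ = (τ * e * τ⁻¹) * a * (τ * e⁻¹ * τ⁻¹) := by group
              _ = _ := by rw [hτe, he3]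
          rw [h1, hconj a ha] at h2
          show a * (y⁻¹ * (τ * y * τ⁻¹)) = y⁻¹ * (τ * y * τ⁻¹) * a
          calc a * (y⁻¹ * (τ * y * τ⁻¹)) = y⁻¹ * (y * a * y⁻¹) * (τ * y * τ⁻¹) := by group
            _ = y⁻¹ * (τ * (y * (τ⁻¹ * a * τ) * y⁻¹) * τ⁻¹) * (τ * y * τ⁻¹) := by rw [h2]
            _ = _ := by group)
        rw [center_eq_bot hLna, mem_bot] at hc
        exact (eq_of_inv_mul_eq_one (congrArg Subtype.val hc)).symm
      subst hy1
      refine hcentral e he fun a ha => ?_
      have hfix : ∀ m ∈ L, e * m = m * e := fun m hm => by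
        have := hconj m hm
        simp only [one_mul, inv_one, mul_one] at this
        exact mul_inv_eq_iff_eq_mul.1 this
      have hmem : e * a * e⁻¹ * a⁻¹ ∈ X0 := mul_mem (hX0n.conj_mem a ha e) (inv_mem ha)
      have : (⟨_, hmem⟩ : X0) ∈ centralizer (M : Set X0) := mem_centralizer_iff.2 fun m hm => Subtype.ext (by
        have hmL : (m : X) ∈ L := mem_map_of_mem _ hm
        have hm' : a⁻¹ * (m : X) * a ∈ L := by simpa using hLn.conj_mem _ hmL a⁻¹
        have h1 : e * (a⁻¹ * (m : X) * a) * e⁻¹ = a⁻¹ * (m : X) * a := by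
          rw [hfix _ hm', mul_inv_cancel_right]
        have h2 : e⁻¹ * (m : X) * e = m := by rw [mul_assoc, ← hfix _ hmL, inv_mul_cancel_left]
        show (m : X) * (e * a * e⁻¹ * a⁻¹) = e * a * e⁻¹ * a⁻¹ * m
        calc (m : X) * (e * a * e⁻¹ * a⁻¹) = e * a * (a⁻¹ * (e⁻¹ * (m : X) * e) * a) * e⁻¹ * a⁻¹ := by group
          _ = e * a * e⁻¹ * (e * (a⁻¹ * (m : X) * a) * e⁻¹) * a⁻¹ := by rw [h2]; group
          _ = _ := by rw [h1]; group)
      rw [hCM, mem_bot] at this
      exact mul_inv_eq_one.1 (congrArg Subtype.val this) |> mul_inv_eq_iff_eq_mul.1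
    · intro v hv hv1 r hr hr2 ⟨y, hy, hyr, hyv⟩ R hR hRL
      haveI := hF.cyclic _ (hmemS v hv) (fun e => hv1 (congrArg Subtype.val e)) r hr hr2
        ⟨⟨y, hy⟩, by rwa [Subgroup.orderOf_mk], Subtype.ext hyv.eq⟩ (R.subgroupOf L) hR.comap_subtype
      exact isCyclic_of_surjective (subgroupOfEquivOfLe hRL) (MulEquiv.surjective _)
    · intro hall v hv hv1 y hy hyv
      have hyX0 := hoddX0 y hy
      have hcv : ∀ a ∈ V, y * a * y⁻¹ = a := by
        have hyN : y ∈ normalizer (V : Set X) := by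
          -- the centraliser of `v` in `L` has `V` as its only Sylow subgroup
          refine Signalizer.mem_normalizer_of_conj_mem fun a ha => ?_
          have h1 : y * a * y⁻¹ ∈ L := hLn.conj_mem _ (hVL ha) y
          have h2 : Commute (y * a * y⁻¹) v := by
            have := (show Commute a v from hcommP _ (h.le ha) _ (h.le hv)).map (MulAut.conj y).toMonoidHom
            simp only [MulEquiv.coe_toMonoidHom, MulAut.conj_apply] at this
            rwa [hyv.eq, mul_inv_cancel_right] at this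
          have h2g : IsPGroup 2 ↥(L ⊓ centralizer ({v} : Set X)) := by
            refine IsPGroup.iff_orderOf.2 fun g => ?_
            obtain ⟨c, d, hcd, -, -, ⟨k, hk⟩, hd⟩ := Transfer.exists_pPart_mul (p := 2) g
            refine ⟨k, ?_⟩
            have hd1 : (d : X) = 1 := hall v hv hv1 _ d.2.1 (by
              rw [Subgroup.orderOf_coe]; exact Nat.coprime_two_right.1 hd)
              (mem_centralizer_singleton_iff.1 d.2.2)
            rw [hcd, show d = 1 from Subtype.ext hd1, mul_one, hk]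
          have hle : V ≤ L ⊓ centralizer ({v} : Set X) := le_inf hVL fun b hb =>
            mem_centralizer_singleton_iff.2 (hcommP _ (h.le hb) _ (h.le hv))
          rw [eq_of_le_of_card_ge hle (by rw [h.cardV]; exact hX0two _ h2g (inf_le_left.trans hLX0))]
          exact ⟨h1, mem_centralizer_singleton_iff.2 h2.eq⟩
        exact fun a ha => cent_of_fix hVea h.cardV hy hyN hv hv1 (by rw [hyv.eq, mul_inv_cancel_right]) ha
      have hfix := hF.small (fun w hw hw1 z hz hzw => by
          rw [hSL] at hw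
          exact Subtype.ext (hall _ hw (fun e => hw1 (Subtype.ext e)) z z.2
            (by rwa [Subgroup.orderOf_coe]) (congrArg Subtype.val hzw.eq)))
        (MulAut.conjNormal y) (hy.of_dvd_nat (orderOf_map_dvd (MulAut.conjNormal (H := L)) y)) fun w hw => by
          rw [hSL] at hw
          exact Subtype.ext (by rw [MulAut.conjNormal_apply]; exact hcv w hw)
      have : (⟨y, hyX0⟩ : X0) ∈ centralizer (M : Set X0) := mem_centralizer_iff.2 fun m hm => Subtype.ext (by
        have := congrArg Subtype.val (MulEquiv.congr_fun hfix ⟨(m : X), mem_map_of_mem _ hm⟩)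
        rw [MulAut.conjNormal_apply, MulAut.one_apply] at this
        exact (mul_inv_eq_iff_eq_mul.1 this).symm)
      rw [hCM, mem_bot] at this
      exact congrArg Subtype.val this
  · -- `V` is normal
    set Pc := (Cfsg.pCore 2 X0).map X0.subtype with hPc
    have hPcV : Pc ≤ V := by
      rintro _ ⟨a, ha, rfl⟩
      have := Cores.pCore_le_sylow S0 ha
      rw [hS0] at this
      exact this
    have hPcn : Pc.Normal := by
      haveI : (Cfsg.pCore 2 X0).Characteristic := Cores.pCore_characteristic 2 X0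
      exact Cores.map_subtype_normal_of_characteristic X0 _
    have hPc1 : Pc ≠ ⊥ := fun e => hA ((map_eq_bot_iff_of_injective _ X0.subtype_injective).1 e)
    have hVeq : Pc = V := by
      refine eq_of_le_of_card_ge hPcV ?_
      obtain ⟨⟨a, ha⟩, ha'⟩ := ne_bot_iff_exists_ne_one.1 hPc1
      have ha1 : a ≠ 1 := fun e => ha' (Subtype.ext e)
      have hb : τ * a * τ⁻¹ ∈ Pc := hPcn.conj_mem a ha τ
      have hne : τ * a * τ⁻¹ ≠ a := fun e => ha1 (h.fpf a (hPcV ha) e)
      have hb1 : τ * a * τ⁻¹ ≠ 1 := fun e => ha1 (conj_eq_one_iff.1 e)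
      have h3 : Nat.card ↥({1, a, τ * a * τ⁻¹} : Set X) ≤ Nat.card Pc :=
        Nat.card_le_card_of_injective (fun z => ⟨z.1, by
          rcases z.2 with e | e | e <;> rw [e]
          exacts [one_mem _, ha, hb]⟩) fun z w e => Subtype.ext (congrArg (fun t : Pc => (t : X)) e)
      rw [Nat.card_coe_set_eq, Set.ncard_eq_three.2 ⟨1, a, _, ha1.symm, hb1.symm, hne.symm, rfl⟩] at h3
      have hd := card_dvd_of_le hPcV
      rw [h.cardV] at hd ⊢
      have h4 := Nat.le_of_dvd (by norm_num) hd
      rcases (show Nat.card Pc = 3 ∨ 4 ≤ Nat.card Pc by omega) with e | e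
      · rw [e] at hd; norm_num at hd
      · exact e
    haveI hVn : V.Normal := hVeq ▸ hPcn
    have hNV : ∀ g : X, g ∈ normalizer (V : Set X) := fun g => by
      rw [normalizer_eq_top V]; exact mem_top g
    -- `C(V) ∩ X0` is `V`
    set C : Subgroup X0 := centralizer (V.subgroupOf X0 : Set X0) with hC
    haveI : C.Normal := by
      haveI : (V.subgroupOf X0).Normal := inferInstance
      exact normal_centralizer
    have hVC : (S0 : Subgroup X0) ≤ C := by
      rw [hS0]
      intro a ha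
      refine mem_centralizer_iff.2 fun b hb => Subtype.ext (hcommP _ (h.le hb) _ (h.le ha))
    let SC : Sylow 2 C := S0.subtype hVC
    have hSCc : normalizer ((SC : Subgroup C) : Set C) ≤ centralizer ((SC : Subgroup C) : Set C) :=
      fun g _ => mem_centralizer_iff.2 fun a ha => Subtype.ext (by
        have ha' : (a : X0) ∈ (S0 : Subgroup X0) := ha
        rw [hS0] at ha'
        exact mem_centralizer_iff.1 g.2 _ ha')
    set N := (MonoidHom.transferSylow SC hSCc).ker
    have hN : N = ⊥ := by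
      have h1 : N ≤ Cfsg.pPrimeCore 2 C := Cores.le_pPrimeCore inferInstance
        ((Nat.prime_two.coprime_iff_not_dvd.2 (MonoidHom.not_dvd_card_ker_transferSylow SC hSCc)).symm)
      have h2 : (Cfsg.pPrimeCore 2 C).map C.subtype = ⊥ := by
        rw [Cores.pPrimeCore_map_subtype, show Cfsg.pPrimeCore 2 X0 = ⊥ from hO0, bot_inf_eq]
      exact le_bot_iff.1 (((map_eq_bot_iff_of_injective _ C.subtype_injective).1 h2) ▸ h1)
    have hCV : ∀ g ∈ X0, (∀ v ∈ V, Commute g v) → g ∈ V := by
      intro g hg hgv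
      have hgC : (⟨g, hg⟩ : X0) ∈ C := mem_centralizer_iff.2 fun b hb => Subtype.ext (hgv b hb).eq.symm
      have hcompl := MonoidHom.ker_transferSylow_isComplement' SC hSCc
      rw [show (MonoidHom.transferSylow SC hSCc).ker = ⊥ from hN, isComplement'_bot_left] at hcompl
      have : (⟨⟨g, hg⟩, hgC⟩ : C) ∈ (SC : Subgroup C) := by rw [hcompl]; exact mem_top _
      have h' : (⟨g, hg⟩ : X0) ∈ (S0 : Subgroup X0) := this
      rw [hS0] at h'
      exact h'
    have hoddc : ∀ v ∈ V, v ≠ 1 → ∀ y : X, Odd (orderOf y) → Commute y v → y = 1 := by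
      intro v hv hv1 y hy hyv
      have hyV := hCV y (hoddX0 y hy) fun a ha => mul_inv_eq_iff_eq_mul.1
        (cent_of_fix hVea h.cardV hy (hNV y) hv hv1 (by rw [hyv.eq, mul_inv_cancel_right]) ha)
      refine orderOf_eq_one_iff.1 (Nat.eq_one_of_dvd_coprimes (Nat.coprime_two_right.2 hy) dvd_rfl
        (orderOf_dvd_of_pow_eq_one (hVea.2 y hyV)))
    refine ⟨X0, hX0n, hVX0, hX0P, fun e he hτe => hcentral e he fun a ha => ?_,
      fun v hv hv1 r hr hr2 ⟨y, _, hyr, hyv⟩ => ?_, fun y _ hy hyv => ?_, fun _ => hoddc⟩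
    · -- `X0 = V⟨τ⟩`
      have key : ∀ v ∈ V, v ≠ 1 → ∀ w ∈ V, w ≠ 1 → w = v ∨ w = τ * v * τ⁻¹ ∨ w = τ * (τ * v * τ⁻¹) * τ⁻¹ := by
        intro v hv hv1 w hw hw1
        have h1 : τ * v * τ⁻¹ ∈ V := (mem_normalizer_iff.1 hτV v).1 hv
        have h2 : τ * (τ * v * τ⁻¹) * τ⁻¹ ∈ V := (mem_normalizer_iff.1 hτV _).1 h1
        have n01 : τ * v * τ⁻¹ ≠ v := fun e => hv1 (h.fpf v hv e)
        have n12 : τ * (τ * v * τ⁻¹) * τ⁻¹ ≠ τ * v * τ⁻¹ := fun e =>
          n01 (mul_left_cancel (mul_right_cancel e))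
        have n02 : τ * (τ * v * τ⁻¹) * τ⁻¹ ≠ v := by
          intro e
          have hp : ∀ i : ℕ, τ ^ (2 * i) * v * (τ ^ (2 * i))⁻¹ = v := by
            intro i
            induction i with
            | zero => simp
            | succ i ih =>
              calc τ ^ (2 * (i + 1)) * v * (τ ^ (2 * (i + 1)))⁻¹ =
                  τ * (τ * (τ ^ (2 * i) * v * (τ ^ (2 * i))⁻¹) * τ⁻¹) * τ⁻¹ := by
                    rw [show 2 * (i + 1) = 2 * i + 1 + 1 by ring, pow_succ', pow_succ']; group
                _ = v := by rw [ih, e]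
          obtain ⟨k, hk⟩ := h.τodd
          have e1 : τ = (τ ^ (2 * k))⁻¹ := eq_inv_of_mul_eq_one_left (by
            rw [← pow_succ', ← hk, pow_orderOf_eq_one])
          apply n01
          conv_lhs => rw [e1, inv_inv, ← hp k]
          group
        by_contra hcon
        push Not at hcon
        classical
        have m1 : τ * v * τ⁻¹ ≠ 1 := fun e => hv1 (conj_eq_one_iff.1 e)
        have m2 : τ * (τ * v * τ⁻¹) * τ⁻¹ ≠ 1 := fun e => m1 (conj_eq_one_iff.1 e)
        have h5 : Nat.card ({1, v, τ * v * τ⁻¹, τ * (τ * v * τ⁻¹) * τ⁻¹, w} : Finset X) ≤ Nat.card V :=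
          Nat.card_le_card_of_injective (fun x => ⟨x.1, by
            have hx := x.2
            simp only [Finset.mem_insert, Finset.mem_singleton] at hx
            rcases hx with e | e | e | e | e <;> rw [e] <;>
              first | exact one_mem _ | assumption⟩) fun x y e => Subtype.ext (congrArg (fun z : V => (z : X)) e)
        rw [Nat.card_eq_fintype_card, Fintype.card_coe] at h5
        simp only [Finset.card_insert_of_notMem, Finset.mem_insert, Finset.mem_singleton, hv1.symm, m1.symm,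
          m2.symm, hw1.symm, n01.symm, n12.symm, n02.symm, hcon.1.symm, hcon.2.1.symm, hcon.2.2.symm,
          not_false_eq_true, or_self, Finset.card_singleton, h.cardV] at h5
        omega
      obtain ⟨⟨v, hv⟩, hv'⟩ := ne_bot_iff_exists_ne_one.1 (show V ≠ ⊥ by
        intro e; have := h.cardV; rw [e, card_bot] at this; omega)
      have hv1 : v ≠ 1 := fun e => hv' (Subtype.ext e)
      -- a power of `τ` moves `a v a⁻¹` back
      have hav : a * v * a⁻¹ ∈ V := hVn.conj_mem v hv a
      obtain ⟨i, hi⟩ : ∃ i : ℕ, a * v * a⁻¹ = τ ^ i * v * (τ ^ i)⁻¹ := by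
        rcases key v hv hv1 _ hav (fun e => hv1 (conj_eq_one_iff.1 e)) with e | e | e
        · exact ⟨0, by simpa using e⟩
        · exact ⟨1, by simpa using e⟩
        · exact ⟨2, by rw [e, pow_two]; group⟩
      set b := (τ ^ i)⁻¹ * a with hb
      have hbX : b ∈ X0 := mul_mem (inv_mem (pow_mem (hoddX0 τ h.τodd) i)) ha
      have hbv : b * v * b⁻¹ = v := by
        rw [show b * v * b⁻¹ = (τ ^ i)⁻¹ * (a * v * a⁻¹) * τ ^ i by rw [hb]; group, hi]; group
      -- it lies in `V`
      obtain ⟨c, d, hcd, hcz, hdz, ⟨k, hk⟩, hd⟩ := Transfer.exists_pPart_mul (p := 2) b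
      have hcV : c ∈ V := by
        have hT : IsPGroup 2 ↥(V ⊔ zpowers c) :=
          (Signalizer.isPGroup_of_elemAb hVea).to_sup_of_normal_left'
            (IsPGroup.of_card (n := k) (by rw [Nat.card_zpowers, hk])) (zpowers_le.2 (hNV c))
        have hle := hX0two _ hT (sup_le hVX0 (zpowers_le.2 ((zpowers_le.2 hbX) hcz)))
        have := eq_of_le_of_card_ge (le_sup_left (b := zpowers c)) (by rw [h.cardV]; exact hle)
        exact this.symm ▸ mem_sup_right (mem_zpowers c)
      have hd1 : d = 1 := hoddc v hv hv1 d (Nat.coprime_two_right.1 hd) (by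
        obtain ⟨j, rfl⟩ := mem_zpowers_iff.1 hdz
        exact (show Commute b v from mul_inv_eq_iff_eq_mul.1 hbv).zpow_left j)
      rw [hd1, mul_one] at hcd
      have hce : Commute e c := hcommP e he _ (h.le hcV)
      have hτc : Commute e τ := (show Commute τ e from mul_inv_eq_iff_eq_mul.1 hτe).symm
      rw [show a = τ ^ i * c by rw [← hcd, hb, mul_inv_cancel_left]]
      exact (hτc.pow_right i).mul_right hce
    · exfalso
      rw [hoddc v hv hv1 y (hyr ▸ hr.odd_of_ne_two hr2) hyv, orderOf_one] at hyr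
      exact hr.one_lt.ne hyr
    · obtain ⟨⟨v, hv⟩, hv'⟩ := ne_bot_iff_exists_ne_one.1 (show V ≠ ⊥ by
        intro e; have := h.cardV; rw [e, card_bot] at this; omega)
      exact hoddc v hv (fun e => hv' (Subtype.ext e)) y hy (hyv v hv)

end Cfsg.Agent.J2Core
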