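import Cfsg.Agent.Lib.J2Core.Tools
import Cfsg.Agent.Lib.GWKlein.General.Main
import Cfsg.Agent.Lib.AbelianSylowAut.PSLTwo
import Cfsg.Agent.Lib.AutPSL.Count
import Cfsg.Agent.Lib.GLOrder.Torus
import Cfsg.Agent.Lib.PSL2.Centralizers
import Cfsg.Agent.Lib.PSL2.Klein
import Cfsg.Agent.Lib.PSL2.Overgroups

/-!
# What is used about `L₂(q)`, `q ≡ 3, 5 (mod 8)`

* `Facts V` : cyclic odd Sylow subgroups for the primes of `C(v)`, `C(V)` a 2-group, automorphisms fixing `V`
* `facts_of_klein` : a simple group with Klein four Sylow 2-subgroup `V` has them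
-/

set_option autoImplicit false
set_option linter.style.haveILetI false

open scoped MatrixGroups

namespace Cfsg.Agent.J2Core

open Subgroup

universe u

/-- The facts used about a simple group with Klein four Sylow 2-subgroup `V`. -/
structure Facts {T : Type u} [Group T] (V : Subgroup T) : Prop where
  cyclic : ∀ v ∈ V, v ≠ 1 → ∀ r : ℕ, r.Prime → r ≠ 2 → (∃ y : T, orderOf y = r ∧ Commute y v) →
    ∀ R : Subgroup T, IsPGroup r R → IsCyclic R
  cent : ∀ y : T, Odd (orderOf y) → (∀ v ∈ V, Commute y v) → y = 1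
  inner : ∀ α : MulAut T, α * α = 1 → (∀ v ∈ V, α v = v) → ∃ y : T, α = MulAut.conj y
  small : (∀ v ∈ V, v ≠ 1 → ∀ y : T, Odd (orderOf y) → Commute y v → y = 1) →
    ∀ α : MulAut T, Odd (orderOf α) → (∀ v ∈ V, α v = v) → α = 1

theorem Facts.of_equiv {T : Type u} [Group T] {M : Type*} [Group M] (e : T ≃* M) {V : Subgroup T}
    (h : ∀ v ∈ V.map e.toMonoidHom, v ≠ 1 → ∀ r : ℕ, r.Prime → r ≠ 2 →
      (∃ y : M, orderOf y = r ∧ Commute y v) → ∀ R : Subgroup M, IsPGroup r R → IsCyclic R)
    (hc : ∀ y : M, Odd (orderOf y) → (∀ v ∈ V.map e.toMonoidHom, Commute y v) → y = 1)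
    (hi : ∀ α : MulAut M, α * α = 1 → (∀ v ∈ V.map e.toMonoidHom, α v = v) → ∃ y : M, α = MulAut.conj y)
    (hs : (∀ v ∈ V.map e.toMonoidHom, v ≠ 1 → ∀ y : M, Odd (orderOf y) → Commute y v → y = 1) →
      ∀ α : MulAut M, Odd (orderOf α) → (∀ v ∈ V.map e.toMonoidHom, α v = v) → α = 1) : Facts V := by
  have hm : ∀ {v}, v ∈ V → e v ∈ V.map e.toMonoidHom := fun {v} hv => ⟨v, hv, rfl⟩
  have hne : ∀ {v : T}, v ≠ 1 → e v ≠ 1 := fun {v} hv h => hv (e.injective (h.trans (map_one e).symm))
  have hcong : ∀ α : MulAut T, (∀ v ∈ V, α v = v) → ∀ v ∈ V.map e.toMonoidHom, MulAut.congr e α v = v := by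
    rintro α hα _ ⟨v, hv, rfl⟩
    show e (α (e.symm (e v))) = e v
    rw [e.symm_apply_apply, hα v hv]
  refine ⟨fun v hv hv1 r hr hr2 ⟨y, hy, hyv⟩ R hR => ?_, fun y hy hyv => ?_, fun α hα hαV => ?_, fun h α hα hαV => ?_⟩
  · haveI := h _ (hm hv) (hne hv1) r hr hr2 ⟨e y, by rw [MulEquiv.orderOf_eq, hy], hyv.map e⟩
      (R.map e.toMonoidHom) (hR.map _)
    exact isCyclic_of_surjective (R.equivMapOfInjective e.toMonoidHom e.injective).symm
      (MulEquiv.surjective _)
  · refine e.injective ((hc (e y) (by rwa [MulEquiv.orderOf_eq]) ?_).trans (map_one e).symm)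
    rintro _ ⟨v, hv, rfl⟩
    exact (hyv v hv).map e
  · obtain ⟨y, hy⟩ := hi (MulAut.congr e α) (by rw [← map_mul, hα, map_one]) (hcong α hαV)
    refine ⟨e.symm y, MulEquiv.ext fun x => e.injective ?_⟩
    have h1 : e (α (e.symm (e x))) = y * e x * y⁻¹ := MulEquiv.congr_fun hy (e x)
    rw [e.symm_apply_apply] at h1
    rw [h1, MulAut.conj_apply, map_mul, map_mul, map_inv, e.apply_symm_apply]
  · refine (MulAut.congr e).injective ((hs ?_ _ (by rwa [MulEquiv.orderOf_eq]) (hcong α hαV)).trans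
      (map_one (MulAut.congr e)).symm)
    rintro _ ⟨v, hv, rfl⟩ hv1 y hy hyv
    refine e.symm.injective ((h v hv (fun e1 => hv1 (by
      show e v = 1
      rw [e1, map_one])) (e.symm y) (by rwa [MulEquiv.orderOf_eq]) ?_).trans (map_one e.symm).symm)
    have := hyv.map e.symm
    rwa [show e.toMonoidHom v = e v from rfl, e.symm_apply_apply] at this

theorem center_eq_bot {T : Type u} [Group T] [IsSimpleGroup T] (hna : ¬ IsMulCommutative T) :
    center T = ⊥ :=
  ((inferInstance : (center T).Normal).eq_bot_or_eq_top).resolve_right fun e =>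
    hna ⟨⟨fun a b => (mem_center_iff.1 (e ▸ mem_top b) a)⟩⟩

section PSL

variable {F : Type} [Field F] [Fintype F]

local notation "PG" => Matrix.ProjectiveSpecialLinearGroup (Fin 2) F

theorem facts_psl [IsSimpleGroup PG] (hna : ¬ IsMulCommutative PG)
    (h8 : Fintype.card F % 8 = 3 ∨ Fintype.card F % 8 = 5) (h3 : 3 < Fintype.card F)
    (S : Sylow 2 PG) (hS : IsKleinFour (S : Subgroup PG)) : Facts (S : Subgroup PG) := by
  classical
  haveI : Fact (Nat.Prime 2) := ⟨Nat.prime_two⟩
  have hq : Nat.card F = Fintype.card F := Nat.card_eq_fintype_card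
  have hodd : Odd (Nat.card F) := by rw [hq, Nat.odd_iff]; omega
  obtain ⟨p, hp⟩ := CharP.exists F
  haveI : Fact p.Prime := ⟨CharP.char_is_prime F p⟩
  obtain ⟨f, hpr, hf⟩ := FiniteField.card F p
  have hsq : ∀ v ∈ (S : Subgroup PG), v ≠ 1 → orderOf v = 2 := fun v hv hv1 =>
    orderOf_eq_prime (by rw [pow_two]; exact (PSL2.klein_comm hS hv hv).1) hv1
  have hC : ∀ v ∈ (S : Subgroup PG), v ≠ 1 → ∃ ε, (ε = Nat.card F - 1 ∨ ε = Nat.card F + 1) ∧
      Nat.card (centralizer ({v} : Set PG)) = ε := by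
    intro v hv hv1
    obtain ⟨a, b⟩ := PSL2.card_centralizer_involution hodd (hsq v hv hv1)
    rcases (show Nat.card F % 4 = 1 ∨ Nat.card F % 4 = 3 by rw [hq]; omega) with h | h
    · exact ⟨_, Or.inl rfl, a h⟩
    · exact ⟨_, Or.inr rfl, b h⟩
  -- C(V) is a 2-group
  have hcent : ∀ y : PG, Odd (orderOf y) → (∀ v ∈ (S : Subgroup PG), Commute y v) → y = 1 := by
    intro y hy hyv
    obtain ⟨⟨a, ha⟩, ha1'⟩ := ne_bot_iff_exists_ne_one.1 (show (S : Subgroup PG) ≠ ⊥ by
      intro e; have := hS.card_four; rw [e, card_bot] at this; omega)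
    have ha1 : a ≠ 1 := fun e => ha1' (Subtype.ext e)
    obtain ⟨b, hb, hb1, hab⟩ : ∃ b ∈ (S : Subgroup PG), b ≠ 1 ∧ a ≠ b := by
      by_contra h
      push Not at h
      have hle : (S : Subgroup PG) ≤ zpowers a := fun z hz => by
        rcases eq_or_ne z 1 with rfl | hz1
        · exact one_mem _
        · rw [← h z hz hz1]; exact mem_zpowers a
      have := Subgroup.card_le_of_le hle
      rw [hS.card_four, Nat.card_zpowers, hsq a ha ha1] at this
      omega
    have hf4 := PSL2.card_centralizer_klein (PSL2.two_ne_zero_iff_odd.2 hodd) hS ha hb ha1 hb1 hab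
    set φ : PG →* PSL2.PGL2 F := Matrix.ProjectiveSpecialLinearGroup.toPGL
    have hmem : φ y ∈ centralizer ({φ a, φ b} : Set (PSL2.PGL2 F)) := by
      rw [mem_centralizer_iff]
      rintro z (rfl | rfl)
      · exact ((hyv a ha).map φ).eq.symm
      · exact ((hyv b hb).map φ).eq.symm
    have hd := Subgroup.orderOf_dvd_natCard _ hmem
    rw [hf4, orderOf_injective φ Matrix.ProjectiveSpecialLinearGroup.toPGL_injective] at hd
    rw [← orderOf_eq_one_iff]
    have h2 : Nat.Coprime (orderOf y) 4 :=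
      Nat.Coprime.pow_right 2 ((Nat.coprime_two_right).2 hy)
    exact Nat.eq_one_of_dvd_coprimes h2 dvd_rfl hd
  refine ⟨fun v hv hv1 r hr hr2 ⟨y, hy, hyv⟩ R hR => ?_, hcent, fun α hα hαV => ?_, fun h α hα hαV => ?_⟩
  · haveI : Fact r.Prime := ⟨hr⟩
    obtain ⟨ε, hε, hcard⟩ := hC v hv hv1
    have hrd : r ∣ ε := hcard ▸ hy ▸ Subgroup.orderOf_dvd_natCard _
      (mem_centralizer_singleton_iff.2 hyv.eq)
    have hrp : r ≠ p := by
      rintro rfl
      have hq' : r ∣ Nat.card F := by rw [hq, hf]; exact dvd_pow_self _ f.pos.ne'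
      rcases hε with rfl | rfl
      · have := Nat.dvd_sub hq' hrd
        rw [show Nat.card F - (Nat.card F - 1) = 1 by rw [hq]; omega] at this
        exact hr.one_lt.ne' (Nat.dvd_one.1 this)
      · have := (Nat.dvd_add_right hq').1 hrd
        exact hr.one_lt.ne' (Nat.dvd_one.1 this)
    obtain ⟨R0⟩ : Nonempty (Sylow r SL(2, F)) := inferInstance
    haveI := GLOrder.isCyclic_sylow_SL_two p r hr2 hrp R0
    set π := QuotientGroup.mk' (center SL(2, F))
    let R1 : Sylow r PG := R0.mapSurjective (f := π) (QuotientGroup.mk'_surjective _)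
    haveI : IsCyclic (R1 : Subgroup PG) := isCyclic_of_surjective (π.subgroupMap (R0 : Subgroup SL(2, F)))
      (MonoidHom.subgroupMap_surjective _ _)
    obtain ⟨R2, hR2⟩ := hR.exists_le_sylow
    haveI : IsCyclic (R2 : Subgroup PG) :=
      isCyclic_of_surjective (R1.equiv R2) (R1.equiv R2).surjective
    exact isCyclic_of_injective (Subgroup.inclusion hR2) (Subgroup.inclusion_injective _)
  · obtain ⟨k, hk⟩ : ∃ k, orderOf α = 2 ^ k := by
      have hd : orderOf α ∣ 2 := orderOf_dvd_of_pow_eq_one (by rw [pow_two, hα])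
      rcases (Nat.dvd_prime Nat.prime_two).1 hd with e | e
      · exact ⟨0, e⟩
      · exact ⟨1, e⟩
    exact AbelianSylowAut.inner_psl hna (Or.inr h8) (r := 2)
      ((by norm_num : (2 : ℕ) ∣ 4).trans (hS.card_four ▸ card_subgroup_dvd_card _)) hk S hαV
  · obtain ⟨⟨a, ha⟩, ha1'⟩ := ne_bot_iff_exists_ne_one.1 (show (S : Subgroup PG) ≠ ⊥ by
      intro e; have := hS.card_four; rw [e, card_bot] at this; omega)
    have ha1 : a ≠ 1 := fun e => ha1' (Subtype.ext e)
    obtain ⟨ε, hε, hcard⟩ := hC a ha ha1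
    -- `q = 5`
    have h2g : IsPGroup 2 (centralizer ({a} : Set PG)) := by
      refine IsPGroup.iff_orderOf.2 fun g => ?_
      obtain ⟨x, y, hxy, hxz, hyz, ⟨k, hk⟩, hyc⟩ := Transfer.exists_pPart_mul (p := 2) g
      refine ⟨k, ?_⟩
      have hy1 : (y : PG) = 1 := h a ha ha1 _ (by
        rw [Subgroup.orderOf_coe]; exact Nat.coprime_two_right.1 hyc)
        (mem_centralizer_singleton_iff.1 y.2)
      rw [hxy, show y = 1 from Subtype.ext hy1, mul_one, hk]
    obtain ⟨P, hP⟩ := h2g.exists_le_sylow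
    have h4 : ε ∣ 4 := by
      rw [← hcard, ← hS.card_four, show Nat.card (S : Subgroup PG) = Nat.card (P : Subgroup PG) from
        Nat.card_congr (S.equiv P).toEquiv]
      exact card_dvd_of_le hP
    have hq5 : Nat.card F = 5 := by
      have h4' := Nat.le_of_dvd (by norm_num) h4
      rcases hε with rfl | rfl <;> · rw [hq] at h4' ⊢; omega
    have hcardT : Nat.card PG = 60 := by
      have := PSL2.card_psl_mul (F := F)
      rw [hq5] at this
      rw [show Nat.gcd 2 (5 - 1) = 2 from rfl] at this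
      change 2 * Nat.card PG = _ at this
      omega
    haveI : Fact (Nat.Prime 5) := ⟨by norm_num⟩
    have hA : Nat.card (MulAut PG) = 120 := by
      have := AutPSL.card_mulAut (F := F) (m := 0) 5 1 le_rfl (by rw [hq5, pow_one])
      refine this.trans ?_
      rw [if_pos rfl, show Nat.card (Matrix.ProjGenLinGroup (Fin (0 + 2)) F) =
        Nat.card F * ((Nat.card F + 1) * (Nat.card F - 1)) from PSL2.card_pgl_eq, hq5]
    haveI : Finite (MulAut PG) := Finite.of_injective (fun β : MulAut PG => (β : PG → PG)) DFunLike.coe_injective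
    have hinj : Function.Injective (MulAut.conj : PG →* MulAut PG) := fun x y hxy => by
      have hc : x⁻¹ * y ∈ center PG := mem_center_iff.2 fun g => by
        have := MulEquiv.congr_fun hxy g
        simp only [MulAut.conj_apply] at this
        calc g * (x⁻¹ * y) = x⁻¹ * (x * g * x⁻¹) * y := by group
          _ = _ := by rw [this]; group
      rw [center_eq_bot hna, mem_bot] at hc
      exact eq_of_inv_mul_eq_one hc
    have hidx : (MulAut.conj : PG →* MulAut PG).range.index = 2 := by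
      have := (MulAut.conj : PG →* MulAut PG).range.index_mul_card
      rw [hA, ← Nat.card_congr (MonoidHom.ofInjective hinj).toEquiv, hcardT] at this
      omega
    obtain ⟨k, hk⟩ := hα
    have hαr : α ∈ (MulAut.conj : PG →* MulAut PG).range := by
      have hsq := pow_mem (Subgroup.sq_mem_of_index_two hidx α) (k + 1)
      rwa [← pow_mul, show 2 * (k + 1) = orderOf α + 1 by omega, pow_succ, pow_orderOf_eq_one, one_mul] at hsq
    obtain ⟨y, rfl⟩ := hαr
    rw [hcent y (by rw [orderOf_injective _ hinj] at hk; exact ⟨k, hk⟩) fun v hv => ?_, map_one]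
    have := hαV v hv
    rw [MulAut.conj_apply] at this
    exact mul_inv_eq_iff_eq_mul.1 this

end PSL

/-- **The facts.** -/
theorem facts_of_klein {T : Type u} [Group T] [Finite T] [IsSimpleGroup T] (hna : ¬ IsMulCommutative T)
    (S : Sylow 2 T) (hS : IsKleinFour (S : Subgroup T)) : Facts (S : Subgroup T) := by
  haveI : Fact (Nat.Prime 2) := ⟨Nat.prime_two⟩
  obtain ⟨F, _, _, hodd, ⟨e⟩⟩ := GWKlein.kleinGW T inferInstance hna S hS
  obtain ⟨F', _, _, h8, h3, ⟨e'⟩⟩ := GWKlein.psl_arith hna hodd e fun h => by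
    have h' := S.pow_dvd_card_of_pow_dvd_card (n := 3) (by simpa using h)
    rw [hS.card_four] at h'
    norm_num at h'
  haveI : Nontrivial (Matrix.ProjectiveSpecialLinearGroup (Fin 2) F') := e'.symm.toEquiv.nontrivial
  haveI : IsSimpleGroup (Matrix.ProjectiveSpecialLinearGroup (Fin 2) F') :=
    IsSimpleGroup.isSimpleGroup_of_surjective e'.toMonoidHom e'.surjective
  have hna' : ¬ IsMulCommutative (Matrix.ProjectiveSpecialLinearGroup (Fin 2) F') := fun h =>
    hna ⟨⟨fun a b => e'.injective (by rw [map_mul, map_mul]; exact h.is_comm.comm (e' a) (e' b))⟩⟩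
  let S' := S.mapSurjective (f := e'.toMonoidHom) e'.surjective
  let eS : (S : Subgroup T) ≃* (S' : Subgroup (Matrix.ProjectiveSpecialLinearGroup (Fin 2) F')) :=
    ((S : Subgroup T).equivMapOfInjective e'.toMonoidHom e'.injective)
  have hS' : IsKleinFour (S' : Subgroup (Matrix.ProjectiveSpecialLinearGroup (Fin 2) F')) :=
    ⟨by rw [← Nat.card_congr eS.toEquiv, hS.card_four], by
      rw [← Monoid.exponent_eq_of_mulEquiv eS, hS.exponent_two]⟩
  have hf := facts_psl hna' h8 h3 S' hS'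
  exact Facts.of_equiv e' hf.cyclic hf.cent hf.inner hf.small

end Cfsg.Agent.J2Core
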