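import Cfsg.Agent.EqLemmas
import Mathlib.GroupTheory.PGroup
import Mathlib.GroupTheory.Commutator.Basic
import Mathlib.FieldTheory.Finite.Basic

/-!
# Three lines permuted cyclically: an elementary commutator argument

* `Tri W T`       : an elementary abelian `r`-group with a fixed point free four-group `W` and a three-cycle `T`
* `Tri.exists_shift` : an `r`-element centralised by `W 0` and inverted by `W 1` is a shift
* `Tri.false_of_odd` : no subgroup of odd order normalised by `T` contains a shift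
-/

set_option autoImplicit false
set_option linter.style.haveILetI false
set_option linter.unusedSectionVars false

namespace Cfsg.Agent.J2Core

universe u

variable {M : Type u} [CommGroup M]

/-- The configuration. -/
structure Tri (r : ℕ) (W : Fin 3 → MulAut M) (T : MulAut M) : Prop where
  prime : r.Prime
  odd : Odd r
  exp : ∀ m : M, m ^ r = 1
  invol : ∀ i m, W i (W i m) = m
  comm : ∀ i j m, W i (W j m) = W j (W i m)
  prod : ∀ m, W 0 (W 1 m) = W 2 m
  fpf : ∀ m, W 0 m = m → W 1 m = m → m = 1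
  line : ∀ i, ∃ g : M, g ≠ 1 ∧ W i g = g ∧ ∀ m, W i m = m → ∃ k : ℕ, m = g ^ k
  cyc : ∀ i m, T (W i m) = W (i + 1) (T m)

/-- `X` fixes the lines other than `p` and moves `p` along `q`. -/
def IsShift (W : Fin 3 → MulAut M) (p q : Fin 3) (X : MulAut M) : Prop :=
  p ≠ q ∧ (∀ s, s ≠ p → ∀ m, W s m = m → X m = m) ∧
    ∃ a b : M, a ≠ 1 ∧ b ≠ 1 ∧ W p a = a ∧ W q b = b ∧ X a = a * b

variable {r : ℕ} {W : Fin 3 → MulAut M} {T : MulAut M} (h : Tri r W T)

include h

theorem Tri.sq_ne {m : M} (hm : m * m = 1) : m = 1 := by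
  obtain ⟨k, hk⟩ := h.odd
  have := h.exp m
  rwa [hk, pow_succ, pow_mul, pow_two, hm, one_pow, one_mul] at this

theorem Tri.eq_one_of_two {m : M} {i j : Fin 3} (hij : i ≠ j) (hi : W i m = m) (hj : W j m = m) : m = 1 := by
  have h01 : W 0 m = m → W 2 m = m → W 1 m = m := fun a b => by
    have := h.prod m
    rw [b] at this
    rw [← h.invol 0 (W 1 m), this, a]
  have h12 : W 1 m = m → W 2 m = m → W 0 m = m := fun a b => by
    have := h.prod m
    rwa [a, b] at this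
  fin_cases i <;> fin_cases j <;> first
    | exact absurd rfl hij
    | exact h.fpf m hi hj
    | exact h.fpf m hj hi
    | exact h.fpf m hi (h01 hi hj)
    | exact h.fpf m hj (h01 hj hi)
    | exact h.fpf m (h12 hi hj) hi
    | exact h.fpf m (h12 hj hi) hj

theorem Tri.exists_pow {i : Fin 3} {a m : M} (ha : W i a = a) (ha1 : a ≠ 1) (hm : W i m = m) :
    ∃ k : ℕ, m = a ^ k := by
  haveI : Fact r.Prime := ⟨h.prime⟩
  obtain ⟨g, hg1, -, hg⟩ := h.line i
  obtain ⟨s, rfl⟩ := hg a ha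
  obtain ⟨t, rfl⟩ := hg m hm
  have hord : orderOf g = r := orderOf_eq_prime (h.exp g) hg1
  have hs : ¬ r ∣ s := fun hd => ha1 (orderOf_dvd_iff_pow_eq_one.1 (hord.symm ▸ hd))
  obtain ⟨k, hk⟩ := Nat.exists_mul_mod_eq_one_of_coprime
    ((Nat.Prime.coprime_iff_not_dvd h.prime).2 hs).symm h.prime.one_lt
  refine ⟨k * t, ?_⟩
  rw [← pow_mul, ← mul_assoc, pow_mul, ← pow_mod_orderOf g (s * k), hord, hk.2, pow_one]

/-- Everything is a product of points of the three lines. -/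
theorem Tri.decomp (m : M) : ∃ a b c : M, W 0 a = a ∧ W 1 b = b ∧ W 2 c = c ∧ m = a * b * c := by
  obtain ⟨k, hk⟩ := h.odd
  have key : m * W 0 m * W 1 m * W 2 m = 1 := by
    refine h.fpf _ ?_ ?_
    · simp only [map_mul, h.invol 0, ← h.prod, h.comm 0 1]
      simp only [mul_comm, mul_left_comm]
    · have h2 : W 1 (W 2 m) = W 0 m := by rw [← h.prod, h.comm 1 0, h.invol]
      have h0 : W 1 (W 0 m) = W 2 m := by rw [h.comm 1 0, h.prod]
      simp only [map_mul, h.invol 1, h2, h0]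
      simp only [mul_comm, mul_left_comm]
  have hfix : ∀ i, W i ((m * W i m) ^ (k + 1)) = (m * W i m) ^ (k + 1) := fun i => by
    rw [map_pow, map_mul, h.invol, mul_comm]
  refine ⟨_, _, _, hfix 0, hfix 1, hfix 2, ?_⟩
  rw [← mul_pow, ← mul_pow, show m * W 0 m * (m * W 1 m) * (m * W 2 m) = m ^ 2 * (m * W 0 m * W 1 m * W 2 m) by
    simp only [pow_two, mul_assoc, mul_comm, mul_left_comm], key, mul_one, ← pow_mul,
    show 2 * (k + 1) = r + 1 by omega, pow_succ, h.exp, one_mul]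

theorem Tri.ext {X Z : MulAut M} (hXZ : ∀ i m, W i m = m → X m = Z m) : X = Z :=
  MulEquiv.ext fun m => by
    obtain ⟨a, b, c, ha, hb, hc, rfl⟩ := h.decomp m
    rw [map_mul, map_mul, map_mul, map_mul, hXZ 0 a ha, hXZ 1 b hb, hXZ 2 c hc]

/-- Fermat on a line. -/
theorem Tri.eq_of_pow {X : MulAut M} {n : ℕ} (hX : X ^ (r ^ n) = 1) {a b : M} (ha1 : a ≠ 1) {i j : Fin 3}
    (hij : i ≠ j) (ha : W i a = a) (hb : W j b = b) (hbX : X b = b) {k : ℕ} (hXa : X a = a ^ k * b) :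
    a ^ k = a := by
  haveI : Fact r.Prime := ⟨h.prime⟩
  have hp : ∀ t : ℕ, ∃ s : ℕ, (X ^ t) a = a ^ (k ^ t) * b ^ s := by
    intro t
    induction t with
    | zero => exact ⟨0, by simp⟩
    | succ t ih =>
      obtain ⟨s, hs⟩ := ih
      refine ⟨k ^ t + s, ?_⟩
      rw [pow_succ' X, pow_succ' k t, MulAut.mul_apply, hs, map_mul, map_pow, map_pow, hXa, hbX, mul_pow,
        ← pow_mul, pow_add, mul_assoc]
  obtain ⟨s, hs⟩ := hp (r ^ n)
  rw [hX, MulAut.one_apply] at hs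
  -- the `b`-part is trivial
  have hbs : b ^ s = 1 := by
    refine h.eq_one_of_two hij ?_ (by rw [map_pow, hb])
    rw [show b ^ s = (a ^ k ^ r ^ n)⁻¹ * a by rw [eq_inv_mul_iff_mul_eq]; exact hs.symm, map_mul, map_inv,
      map_pow, ha]
  rw [hbs, mul_one] at hs
  have hord : orderOf a = r := orderOf_eq_prime (h.exp a) ha1
  have h1 := pow_eq_pow_iff_modEq.1 (show a ^ k ^ r ^ n = a ^ 1 by rw [pow_one]; exact hs.symm)
  rw [hord] at h1
  have h2 : (k : ZMod r) = 1 := by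
    have := (ZMod.natCast_eq_natCast_iff _ _ _).2 h1
    rwa [Nat.cast_pow, ZMod.pow_card_pow, Nat.cast_one] at this
  have h3 : k ≡ 1 [MOD r] := (ZMod.natCast_eq_natCast_iff _ _ _).1 (by rw [h2, Nat.cast_one])
  conv_rhs => rw [← pow_one a]
  exact pow_eq_pow_iff_modEq.2 (hord.symm ▸ h3)

theorem Tri.exists_shift {U : MulAut M} {n : ℕ} (hU : U ^ (r ^ n) = 1) (hU1 : U ≠ 1)
    (h0 : ∀ m, U (W 0 m) = W 0 (U m)) (h1 : ∀ m, U (W 1 (U m)) = W 1 m) :
    IsShift W 2 1 U ∨ IsShift W 1 2 U := by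
  classical
  haveI : Fact r.Prime := ⟨h.prime⟩
  -- the first line is fixed
  obtain ⟨g0, hg01, hg0, -⟩ := h.line 0
  have hUg0 : U g0 = g0 := by
    obtain ⟨k, hk⟩ := h.exists_pow hg0 hg01 (show W 0 (U g0) = U g0 by rw [← h0, hg0])
    rw [hk]
    exact h.eq_of_pow hU hg01 (show (0 : Fin 3) ≠ 1 by decide) hg0 (map_one (W 1)) (map_one U)
      (by rw [hk, mul_one])
  have hfix0 : ∀ m, W 0 m = m → U m = m := fun m hm => by
    obtain ⟨k, rfl⟩ := h.exists_pow hg0 hg01 hm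
    rw [map_pow, hUg0]
  -- a fixed point on the plane
  let P : Subgroup M :=
    { carrier := {m | W 0 m = m⁻¹}
      one_mem' := by simp
      mul_mem' := fun {a b} ha hb => by
        simp only [Set.mem_setOf_eq] at *
        rw [map_mul, ha, hb, mul_inv]
      inv_mem' := fun {a} ha => by
        simp only [Set.mem_setOf_eq] at *
        rw [map_inv, ha] }
  have hinvP : ∀ s, s ≠ 0 → ∀ m, W s m = m → m ∈ P := fun s hs m hm => by
    show W 0 m = m⁻¹
    refine eq_inv_of_mul_eq_one_left (h.eq_one_of_two (Ne.symm hs) ?_ ?_)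
    · rw [map_mul, h.invol, mul_comm]
    · rw [map_mul, h.comm, hm]
  obtain ⟨g1, hg11, hg1, -⟩ := h.line 1
  obtain ⟨g2, hg21, hg2, -⟩ := h.line 2
  have hUP : ∀ m ∈ P, U m ∈ P := fun m hm => by
    show W 0 (U m) = (U m)⁻¹
    rw [← h0, show W 0 m = m⁻¹ from hm, map_inv]
  have hW1P : ∀ m ∈ P, W 1 m ∈ P := fun m hm => by
    show W 0 (W 1 m) = (W 1 m)⁻¹
    rw [h.comm, show W 0 m = m⁻¹ from hm, map_inv]
  let Z := Subgroup.zpowers U
  have hZP : ∀ X ∈ Z, ∀ m ∈ P, X m ∈ P := by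
    intro X hX m hm
    have hfin : IsOfFinOrder U := isOfFinOrder_iff_pow_eq_one.2 ⟨r ^ n, pow_pos h.prime.pos n, hU⟩
    obtain ⟨t, rfl⟩ := (Submonoid.mem_powers_iff _ _).1
      ((IsOfFinOrder.mem_powers_iff_mem_zpowers hfin).2 hX)
    induction t with
    | zero => simpa using hm
    | succ t ih => rw [pow_succ', MulAut.mul_apply]; exact hUP _ (ih (pow_mem (Subgroup.mem_zpowers U) t))
  haveI : Finite Z := by
    have hfin : IsOfFinOrder U := isOfFinOrder_iff_pow_eq_one.2 ⟨r ^ n, pow_pos h.prime.pos n, hU⟩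
    exact Nat.finite_of_card_ne_zero (by rw [Nat.card_zpowers]; exact hfin.orderOf_pos.ne')
  letI : MulAction Z P :=
    { smul := fun X m => ⟨(X : MulAut M) m, hZP X X.2 m m.2⟩
      one_smul := fun m => Subtype.ext rfl
      mul_smul := fun X Y m => Subtype.ext rfl }
  have hZr : IsPGroup r Z := IsPGroup.iff_card.2 (by
    obtain ⟨j, -, hj⟩ := (Nat.dvd_prime_pow h.prime).1 (orderOf_dvd_of_pow_eq_one hU)
    exact ⟨j, by rw [Nat.card_zpowers, hj]⟩)
  -- `M` is finite, being generated by three elements of order `r`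
  haveI : Finite M := by
    refine Finite.of_surjective (fun t : Fin r × Fin r × Fin r => g0 ^ (t.1 : ℕ) * g1 ^ (t.2.1 : ℕ) * g2 ^ (t.2.2 : ℕ))
      fun m => ?_
    obtain ⟨a, b, c, ha, hb, hc, rfl⟩ := h.decomp m
    obtain ⟨i, rfl⟩ := h.exists_pow hg0 hg01 ha
    obtain ⟨j, rfl⟩ := h.exists_pow hg1 hg11 hb
    obtain ⟨l, rfl⟩ := h.exists_pow hg2 hg21 hc
    refine ⟨(⟨i % r, Nat.mod_lt _ h.prime.pos⟩, ⟨j % r, Nat.mod_lt _ h.prime.pos⟩, ⟨l % r, Nat.mod_lt _ h.prime.pos⟩), ?_⟩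
    have e : ∀ (g : M) (i : ℕ), g ^ (i % r) = g ^ i := fun g i => by
      conv_rhs => rw [← Nat.mod_add_div i r, pow_add, pow_mul, h.exp, one_pow, mul_one]
    simp only [e]
  obtain ⟨⟨m, hmP⟩, hm1, hmfix⟩ : ∃ m : P, (m : M) ≠ 1 ∧ U m = m := by
    have hd : r ∣ Nat.card P := by
      have := Subgroup.orderOf_dvd_natCard P (hinvP 1 (by decide) g1 hg1)
      rwa [orderOf_eq_prime (h.exp g1) hg11] at this
    obtain ⟨b, hb, hb1⟩ := hZr.exists_fixed_point_of_prime_dvd_card_of_fixed_point (α := P) hd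
      (a := 1) (fun X => Subtype.ext (map_one (X : MulAut M)))
    exact ⟨b, fun e => hb1 (Subtype.ext e).symm, congrArg Subtype.val (hb ⟨U, Subgroup.mem_zpowers U⟩)⟩
  -- one of the two lines is fixed
  have hW1m : U (W 1 m) = W 1 m := by
    have := h1 m
    rwa [show U m = m from hmfix] at this
  have hor : ∃ i j : Fin 3, ((i = 1 ∧ j = 2) ∨ (i = 2 ∧ j = 1)) ∧ ∃ g, g ≠ 1 ∧ W i g = g ∧ U g = g := by
    by_cases e : m * W 1 m = 1
    · refine ⟨2, 1, Or.inr ⟨rfl, rfl⟩, m * (W 1 m)⁻¹, fun e2 => hm1 (h.sq_ne ?_), ?_, ?_⟩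
      · rw [mul_inv_eq_one] at e2
        rwa [← e2] at e
      · rw [← h.prod, map_mul, map_inv, h.invol, map_mul, map_inv, h.comm 0 1, show W 0 m = m⁻¹ from hmP,
          map_inv, inv_inv, mul_comm, mul_comm m]
      · rw [map_mul, map_inv, show U m = m from hmfix, hW1m]
    · exact ⟨1, 2, Or.inl ⟨rfl, rfl⟩, m * W 1 m, e, by rw [map_mul, h.invol, mul_comm],
        by rw [map_mul, show U m = m from hmfix, hW1m]⟩
  obtain ⟨i, j, hij, g, hg1', hgi, hgU⟩ := hor
  have hne : j ≠ i ∧ i ≠ 0 ∧ j ≠ 0 := by rcases hij with ⟨rfl, rfl⟩ | ⟨rfl, rfl⟩ <;> decide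
  have hfixi : ∀ m, W i m = m → U m = m := fun m hm => by
    obtain ⟨k, rfl⟩ := h.exists_pow hgi hg1' hm
    rw [map_pow, hgU]
  obtain ⟨a, ha1, haj, -⟩ := h.line j
  -- the image of the other line
  have hdec : ∃ k : ℕ, ∃ b, W i b = b ∧ U a = a ^ k * b := by
    obtain ⟨c0, c1, c2, e0, e1, e2, e⟩ := h.decomp (U a)
    have hc0 : c0 = 1 := by
      have hP : U a ∈ P := hUP a (hinvP j hne.2.2 a haj)
      have hc : c0 ∈ P := by
        rw [show c0 = U a * (c1 * c2)⁻¹ by rw [e, mul_assoc c0, mul_inv_cancel_right]]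
        exact mul_mem hP (inv_mem (mul_mem (hinvP 1 (by decide) c1 e1) (hinvP 2 (by decide) c2 e2)))
      exact h.sq_ne (mul_eq_one_iff_eq_inv.2 (e0.symm.trans (show W 0 c0 = c0⁻¹ from hc)))
    rw [hc0, one_mul] at e
    rcases hij with ⟨rfl, rfl⟩ | ⟨rfl, rfl⟩
    · obtain ⟨k, hk⟩ := h.exists_pow haj ha1 e2
      exact ⟨k, c1, e1, by rw [e, hk, mul_comm]⟩
    · obtain ⟨k, hk⟩ := h.exists_pow haj ha1 e1
      exact ⟨k, c2, e2, by rw [e, hk]⟩
  obtain ⟨k, b, hb, hab⟩ := hdec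
  have hak := h.eq_of_pow hU ha1 hne.1 haj hb (hfixi b hb) hab
  rw [hak] at hab
  have hb1 : b ≠ 1 := by
    intro e
    rw [e, mul_one] at hab
    refine hU1 (h.ext fun s m hm => ?_)
    rw [MulAut.one_apply]
    rcases hij with ⟨rfl, rfl⟩ | ⟨rfl, rfl⟩ <;> fin_cases s <;> first
      | exact hfix0 m hm
      | exact hfixi m hm
      | (obtain ⟨l, rfl⟩ := h.exists_pow haj ha1 hm; rw [map_pow, hab])
  have hres : IsShift W j i U := ⟨hne.1, fun s hs m hm => by
    rcases hij with ⟨rfl, rfl⟩ | ⟨rfl, rfl⟩ <;> fin_cases s <;> first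
      | exact absurd rfl hs
      | exact hfix0 m hm
      | exact hfixi m hm, a, b, ha1, hb1, haj, hb, hab⟩
  rcases hij with ⟨rfl, rfl⟩ | ⟨rfl, rfl⟩
  · exact Or.inl hres
  · exact Or.inr hres

theorem Tri.shift_conj {p q : Fin 3} {X : MulAut M} (hX : IsShift W p q X) :
    IsShift W (p + 1) (q + 1) (T * X * T⁻¹) := by
  obtain ⟨hpq, hfix, a, b, ha1, hb1, ha, hb, hab⟩ := hX
  have hs : ∀ m, (T * X * T⁻¹) (T m) = T (X m) := fun m => by
    simp only [MulAut.mul_apply, MulAut.inv_apply_self]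
  refine ⟨fun e => hpq (add_right_cancel e), fun s hs' m hm => ?_, T a, T b,
    fun e => ha1 (T.injective (e.trans (map_one T).symm)),
    fun e => hb1 (T.injective (e.trans (map_one T).symm)), by rw [← h.cyc, ha], by rw [← h.cyc, hb],
    by rw [hs, hab, map_mul]⟩
  have hm' : W (s - 1) (T⁻¹ m) = T⁻¹ m := T.injective (by
    rw [h.cyc, sub_add_cancel, MulAut.apply_inv_self, hm])
  have h2 := hs (T⁻¹ m)
  rw [hfix (s - 1) (fun e => hs' (by rw [← e, sub_add_cancel])) _ hm', MulAut.apply_inv_self] at h2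
  exact h2

theorem Tri.shift_comm {p q s : Fin 3} (hps : p ≠ s) {X Y : MulAut M} (hX : IsShift W p q X)
    (hY : IsShift W q s Y) : IsShift W p s (Y * X * Y⁻¹ * X⁻¹) := by
  obtain ⟨hpq, hXf, a, b, ha1, hb1, ha, hb, hab⟩ := hX
  obtain ⟨hqs, hYf, a', c', ha'1, hc'1, ha', hc', hac⟩ := hY
  obtain ⟨k, hk⟩ := h.exists_pow ha' ha'1 hb
  have hc : Y b = b * c' ^ k := by rw [hk, map_pow, hac, mul_pow]
  have hcs : W s (c' ^ k) = c' ^ k := by rw [map_pow, hc']
  have hc1 : c' ^ k ≠ 1 := by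
    intro e
    refine hb1 ?_
    haveI : Fact r.Prime := ⟨h.prime⟩
    obtain ⟨d, rfl⟩ : r ∣ k := orderOf_eq_prime (h.exp c') hc'1 ▸ orderOf_dvd_of_pow_eq_one e
    rw [hk, pow_mul, h.exp, one_pow]
  have inv_fix : ∀ (Z : MulAut M) (m : M), Z m = m → Z⁻¹ m = m := fun Z m e => by
    conv_lhs => rw [← e, MulAut.inv_apply_self]
  refine ⟨hps, fun t ht m hm => ?_, a, c' ^ k, ha1, hc1, ha, hcs, ?_⟩
  · have h1 := hXf t ht m hm
    simp only [MulAut.mul_apply, inv_fix X m h1]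
    by_cases htq : t = q
    · subst htq
      obtain ⟨l, rfl⟩ := h.exists_pow hb hb1 hm
      have h2 : Y⁻¹ b = b * (c' ^ k)⁻¹ := Y.injective (by
        rw [MulAut.apply_inv_self, map_mul, map_inv, hc, hYf s (Ne.symm hqs) _ hcs, mul_inv_cancel_right])
      rw [map_pow, h2, map_pow, map_mul, map_inv, hXf t ht b hb, hXf s (Ne.symm hps) _ hcs, map_pow,
        map_mul, map_inv, hc, hYf s (Ne.symm hqs) _ hcs, mul_inv_cancel_right]
    · rw [inv_fix Y m (hYf t htq m hm), h1, hYf t htq m hm]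
  · have hXi : X⁻¹ a = a * b⁻¹ := X.injective (by
      rw [MulAut.apply_inv_self, map_mul, map_inv, hab, hXf q (Ne.symm hpq) b hb, mul_inv_cancel_right])
    have hYa : Y a = a := hYf p hpq a ha
    have hYi : Y⁻¹ b = b * (c' ^ k)⁻¹ := Y.injective (by
      rw [MulAut.apply_inv_self, map_mul, map_inv, hc, hYf s (Ne.symm hqs) _ hcs, mul_inv_cancel_right])
    simp only [MulAut.mul_apply]
    simp only [hXi, map_mul, map_inv, inv_fix Y a hYa, hYi, hab, hXf q (Ne.symm hpq) b hb,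
      hXf s (Ne.symm hps) _ hcs, hYa, hc, hYf s (Ne.symm hqs) _ hcs, mul_inv, inv_inv]
    simp [mul_comm, mul_left_comm, mul_assoc]

/-- No subgroup of odd order normalised by `T` contains a shift. -/
theorem Tri.false_of_odd {K : Subgroup (MulAut M)} [Finite K] (hK : Odd (Nat.card K))
    (hT : ∀ X ∈ K, T * X * T⁻¹ ∈ K) {p q : Fin 3} {X : MulAut M} (hX : X ∈ K) (hs : IsShift W p q X) :
    False := by
  haveI : Fact r.Prime := ⟨h.prime⟩
  -- a shift back
  obtain ⟨Y, hY, hYs⟩ : ∃ Y ∈ K, IsShift W q p Y := by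
    have h1 := h.shift_conj hs
    have h2 := h.shift_conj h1
    have m1 := hT X hX
    have m2 := hT _ m1
    have hp : ∀ p q : Fin 3, p ≠ q →
        (p + 1 = q ∧ q + 1 = p + 1 + 1 ∧ q + 1 + 1 = p) ∨ (p + 1 + 1 = q ∧ q + 1 + 1 = p + 1 ∧ q + 1 = p) := by
      decide
    rcases hp p q hs.1 with ⟨e1, e2, e3⟩ | ⟨e1, e2, e3⟩
    · rw [e1, e2] at h1
      rw [e3] at h2
      exact ⟨_, mul_mem (mul_mem (mul_mem m2 m1) (inv_mem m2)) (inv_mem m1),
        h.shift_comm hs.1.symm h1 h2⟩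
    · rw [e1, e2] at h2
      rw [e3] at h1
      exact ⟨_, mul_mem (mul_mem (mul_mem m1 m2) (inv_mem m1)) (inv_mem m2),
        h.shift_comm hs.1.symm h2 h1⟩
  obtain ⟨hpq, hXf, a, b, ha1, hb1, ha, hb, hab⟩ := hs
  obtain ⟨-, hYf, b', a', hb'1, ha'1, hb', ha', hba⟩ := hYs
  obtain ⟨k, hk⟩ := h.exists_pow hb' hb'1 hb
  have hY2 : Y b = b * a' ^ k := by rw [hk, map_pow, hba, mul_pow]
  have hpa : W p (a' ^ k) = a' ^ k := by rw [map_pow, ha']
  have hak : a' ^ k ≠ 1 := by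
    intro e
    refine hb1 ?_
    obtain ⟨d, rfl⟩ : r ∣ k := orderOf_eq_prime (h.exp a') ha'1 ▸ orderOf_dvd_of_pow_eq_one e
    rw [hk, pow_mul, h.exp, one_pow]
  obtain ⟨t, ht⟩ := h.exists_pow hpa hak (show W p a⁻¹ = a⁻¹ by rw [map_inv, ha])
  have hYt : (Y ^ t) b = b * a⁻¹ := by
    rw [ht]
    clear ht
    induction t with
    | zero => simp
    | succ t ih =>
      rw [pow_succ', MulAut.mul_apply, ih, map_mul, map_pow, hY2, hYf p hpq _ hpa, mul_assoc, ← pow_succ']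
  have hYta : (Y ^ t) a = a := by
    clear ht hYt
    induction t with
    | zero => simp
    | succ t ih => rw [pow_succ', MulAut.mul_apply, ih, hYf p hpq a ha]
  set Z := X * Y ^ t * X with hZ
  have hXb : X b = b := hXf q (Ne.symm hpq) b hb
  have hZa : Z a = b := by
    simp only [hZ, MulAut.mul_apply, hab, map_mul, hYt, hYta, map_inv, hXb]
    simp [mul_comm, mul_left_comm, mul_assoc]
  have hZb : Z b = a⁻¹ := by
    simp only [hZ, MulAut.mul_apply, hXb, hYt, map_mul, map_inv, hab]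
    rw [mul_inv, mul_comm, mul_assoc, inv_mul_cancel, mul_one]
  have h4 : ∀ j : ℕ, (Z ^ (4 * j)) a = a := by
    intro j
    induction j with
    | zero => simp
    | succ j ih =>
      rw [show 4 * (j + 1) = 1 + 1 + 1 + 1 + 4 * j by ring, pow_add, MulAut.mul_apply, ih]
      simp only [pow_add, pow_one, MulAut.mul_apply, hZa, hZb, map_inv, inv_inv]
  have hZK : Z ∈ K := mul_mem (mul_mem hX (pow_mem hY t)) hX
  have hodd : Odd (orderOf Z) := hK.of_dvd_nat (Subgroup.orderOf_dvd_natCard K hZK)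
  have hZfix : Z a = a := by
    obtain ⟨m, hm⟩ := hodd
    rcases Nat.even_or_odd m with ⟨j, rfl⟩ | ⟨j, rfl⟩
    · have h1 : Z ^ (4 * j + 1) = 1 := by rw [show 4 * j + 1 = 2 * (j + j) + 1 by ring, ← hm, pow_orderOf_eq_one]
      have := congrArg (fun F : MulAut M => F a) h1
      simpa [pow_succ', MulAut.mul_apply, h4] using this
    · have h1 : Z ^ (4 * j + 3) = 1 := by
        rw [show 4 * j + 3 = 2 * (2 * j + 1) + 1 by ring, ← hm, pow_orderOf_eq_one]
      have h2 : Z⁻¹ = Z ^ (4 * j + 2) := inv_eq_of_mul_eq_one_right (by rw [← pow_succ', h1])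
      have h5 := h4 (j + 1)
      rw [show 4 * (j + 1) = 1 + (4 * j + 3) by ring, pow_add, h1, mul_one, pow_one] at h5
      exact h5
  rw [hZa] at hZfix
  exact hb1 (h.eq_one_of_two hpq (hZfix ▸ ha) hb)

/-- A shift only adds a point of the line `q`. -/
theorem Tri.move {p q : Fin 3} {X : MulAut M} (hX : IsShift W p q X) {i : Fin 3} {m : M} (hm : W i m = m) :
    ∃ d, W q d = d ∧ X m = m * d ∧ (i ≠ p → d = 1) := by
  obtain ⟨-, hf, a, b, ha1, -, ha, hb, hab⟩ := hX
  by_cases hip : i = p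
  · subst hip
    obtain ⟨k, rfl⟩ := h.exists_pow ha ha1 hm
    exact ⟨b ^ k, by rw [map_pow, hb], by rw [map_pow, hab, mul_pow], fun e => absurd rfl e⟩
  · exact ⟨1, map_one _, by rw [mul_one, hf i hip m hm], fun _ => rfl⟩

theorem Tri.shift_commute {p q p' q' : Fin 3} {X Z : MulAut M} (hX : IsShift W p q X) (hZ : IsShift W p' q' Z)
    (h1 : q ≠ p') (h2 : q' ≠ p) : Commute X Z :=
  h.ext fun i m hm => by
    obtain ⟨d, hd, hXm, -⟩ := h.move hX hm
    obtain ⟨e, he, hZm, -⟩ := h.move hZ hm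
    simp only [MulAut.mul_apply, hZm, hXm, map_mul, hX.2.1 q' h2 e he, hZ.2.1 q h1 d hd]
    exact mul_right_comm m d e

theorem Tri.shift_pow {p q : Fin 3} {X : MulAut M} (hX : IsShift W p q X) : X ^ r = 1 :=
  h.ext fun i m hm => by
    obtain ⟨d, hd, hXm, -⟩ := h.move hX hm
    have hp : ∀ t : ℕ, (X ^ t) m = m * d ^ t := by
      intro t
      induction t with
      | zero => simp
      | succ t ih =>
        rw [pow_succ' X, MulAut.mul_apply, ih, map_mul, map_pow, hXm, hX.2.1 q hX.1.symm d hd, mul_assoc,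
          ← pow_succ']
    rw [hp, h.exp, mul_one, MulAut.one_apply]

/-- Two composable shifts generate an `r`-group. -/
theorem Tri.isPGroup_pair [Finite M] {p q s : Fin 3} (hps : p ≠ s) {X Y : MulAut M} (hX : IsShift W p q X)
    (hY : IsShift W q s Y) : ∃ A : Subgroup (MulAut M), IsPGroup r A ∧ X ∈ A ∧ Y ∈ A := by
  haveI : Fact r.Prime := ⟨h.prime⟩
  set C := Y * X * Y⁻¹ * X⁻¹ with hC
  have hCs : IsShift W p s C := h.shift_comm hps hX hY
  have hCX : Commute C X := h.shift_commute hCs hX hps.symm hX.1.symm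
  have hCY : Commute C Y := h.shift_commute hCs hY hY.1.symm hps.symm
  have hz : ∀ {Z : MulAut M}, Z ^ r = 1 → IsPGroup r (Subgroup.zpowers Z) := fun {Z} hZ =>
    IsPGroup.iff_card.2 (by
      rcases (Nat.dvd_prime h.prime).1 (orderOf_dvd_of_pow_eq_one hZ) with e | e
      · exact ⟨0, by rw [Nat.card_zpowers, e, pow_zero]⟩
      · exact ⟨1, by rw [Nat.card_zpowers, e, pow_one]⟩)
  have hn : Subgroup.zpowers X ≤ Subgroup.normalizer (Subgroup.zpowers C : Set (MulAut M)) := by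
    refine Subgroup.zpowers_le.2 (Subgroup.mem_normalizer_iff.2 fun z => ?_)
    constructor
    · intro hz
      obtain ⟨k, rfl⟩ := Subgroup.mem_zpowers_iff.1 hz
      exact Subgroup.mem_zpowers_iff.2 ⟨k, by
        rw [← (hCX.zpow_left k).eq, mul_inv_cancel_right]⟩
    · intro hz
      obtain ⟨k, hk⟩ := Subgroup.mem_zpowers_iff.1 hz
      refine Subgroup.mem_zpowers_iff.2 ⟨k, ?_⟩
      have h1 : z = X⁻¹ * C ^ k * X := by rw [hk]; group
      rw [h1, mul_assoc, (hCX.zpow_left k).eq, inv_mul_cancel_left]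
  have hA := (hz (h.shift_pow hCs)).to_sup_of_normal_left' (hz (h.shift_pow hX)) hn
  set A := Subgroup.zpowers C ⊔ Subgroup.zpowers X with hAd
  have hle : A ≤ A.comap (MulAut.conj Y).toMonoidHom := by
    refine sup_le (Subgroup.zpowers_le.2 ?_) (Subgroup.zpowers_le.2 ?_)
    · show Y * C * Y⁻¹ ∈ A
      rw [← hCY.eq, mul_inv_cancel_right]
      exact Subgroup.mem_sup_left (Subgroup.mem_zpowers C)
    · show Y * X * Y⁻¹ ∈ A
      rw [show Y * X * Y⁻¹ = C * X by rw [hC, inv_mul_cancel_right]]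
      exact mul_mem (Subgroup.mem_sup_left (Subgroup.mem_zpowers C))
        (Subgroup.mem_sup_right (Subgroup.mem_zpowers X))
  have hn2 : Subgroup.zpowers Y ≤ Subgroup.normalizer (A : Set (MulAut M)) :=
    Subgroup.zpowers_le.2 ((Subgroup.mem_normalizer_iff_conj_image_eq).2 (Set.eq_of_subset_of_ncard_le
      (Set.image_subset_iff.2 hle) (by rw [Set.ncard_image_of_injective _ (MulAut.conj Y).injective])))
  exact ⟨A ⊔ Subgroup.zpowers Y, hA.to_sup_of_normal_left' (hz (h.shift_pow hY)) hn2,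
    Subgroup.mem_sup_left (Subgroup.mem_sup_right (Subgroup.mem_zpowers X)),
    Subgroup.mem_sup_right (Subgroup.mem_zpowers Y)⟩

end Cfsg.Agent.J2Core
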