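import Cfsg.Agent.Lib.J2Core.Invert
import Cfsg.Agent.Lib.J2Core.Shift

/-!
# A factor `N / (N ⊓ Y)` and its lines

* `Frame.Closed`  : what is used about the closure `Y ≤ O(C(x))`
* `actHom`        : conjugation on `N / (N ⊓ Y)`; `exists_fixed_rep` : fixed points lift
* `Frame.exists_gen` : the fixed points of a point of `V` of exponent `r` come from a cyclic group
-/

set_option autoImplicit false
set_option linter.style.haveILetI false
set_option linter.unusedSectionVars false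

namespace Cfsg.Agent.J2Core

open Subgroup

universe u

variable {G : Type u} [Group G] [Finite G] (Φ : Frame G)

local notation "C[" γ "]" => centralizer ({γ} : Set G)
local notation "O[" γ "]" => Cfsg.centralizerPPrimeCore 2 γ

/-- What is used about the closure. -/
structure Frame.Closed {x : G} (hx : x ∈ Φ.E) (Y : Subgroup G) : Prop where
  le : Y ≤ O[x]
  norm : ∀ g ∈ normalizer (Φ.E : Set G), g * x * g⁻¹ = x → g ∈ normalizer (Y : Set G)
  cent : ∀ e ∈ Φ.E, e ≠ 1 → e ≠ x → Y ⊓ C[e] ≤ Φ.theta hx e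
  theta_le : ∀ e ∈ Φ.E, e ≠ 1 → e ≠ x → Φ.theta hx e ≤ Y
  mate : ∀ x' w u : G, Φ.InB x x' → x' ≠ 1 → x' ≠ x → w ∈ Φ.V → w ≠ 1 → Commute u x → Commute u x' →
    Commute u w → u ∈ normalizer (Y : Set G)

variable {Φ} {x : G} {hx : x ∈ Φ.E} {Y : Subgroup G}

omit [Finite G] in
theorem Frame.mul_mem_V {γ v : G} (hγV : γ ∉ Φ.V) (hv : v ∈ Φ.V) : γ * v ∉ Φ.V :=
  fun h => hγV (by simpa using mul_mem h (inv_mem hv))

theorem Frame.Closed.fix_le (hC : Φ.Closed hx Y) (hxV : x ∉ Φ.V) {c : G} (hc : c ∈ O[x])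
    (hcV : ∀ v ∈ Φ.V, Commute c v) : c ∈ Y := by
  obtain ⟨⟨w, hw⟩, hw'⟩ := ne_bot_iff_exists_ne_one.1 (show Φ.V ≠ ⊥ by
    intro e; have := Φ.cardV; rw [e, card_bot] at this; omega)
  have hw1 : w ≠ 1 := fun e => hw' (Subtype.ext e)
  obtain ⟨w', hw'V, hw'1, hne⟩ : ∃ w' ∈ Φ.V, w' ≠ 1 ∧ w ≠ w' := by
    by_contra h
    push Not at h
    have hle : Φ.V ≤ zpowers w := fun z hz => by
      rcases eq_or_ne z 1 with rfl | hz1
      · exact one_mem _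
      · rw [← h z hz hz1]; exact mem_zpowers w
    have := Subgroup.card_le_of_le hle
    rw [Φ.cardV, Nat.card_zpowers, Φ.orderOf_eq (Φ.le hw) hw1] at this
    omega
  have hcx : c ∈ C[x] := Signalizer.core_le_centralizer x hc
  have hcw : c ∈ C[w] := mem_centralizer_singleton_iff.2 (hcV w hw).eq
  have hxw := Φ.mul_mem_V hxV hw
  refine hC.theta_le w (Φ.le hw) hw1 (fun e => hxV (e ▸ hw)) ((Φ.mem_theta hx (Φ.le hw)).2
    ⟨hc, Φ.fx_auto hx hxV _ hw1 (Or.inl hw) hc hcw, ?_⟩)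
  exact Φ.fx_of_two _ hxw (Frame.mem_C_mul hcx hcw) hw hw1 hw'V hw'1 hne (comm_of_commute (hcV w hw))
    (comm_of_commute (hcV w' hw'V))

theorem Frame.Closed.mate_le (hC : Φ.Closed hx Y) (hxV : x ∉ Φ.V) {x' c : G} (hB : Φ.InB x x')
    (hx'1 : x' ≠ 1) (hx'x : x' ≠ x) (hc : c ∈ O[x]) (hcx' : Commute c x') : c ∈ Y := by
  have hcC : c ∈ C[x'] := mem_centralizer_singleton_iff.2 hcx'.eq
  have hne : x * x' ≠ 1 := fun e => hx'x (by rw [← inv_eq_of_mul_eq_one_right e, Φ.inv_eq hx])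
  refine hC.theta_le x' hB.1 hx'1 hx'x ((Φ.mem_theta hx hB.1).2
    ⟨hc, Φ.fx_auto hx hxV _ hx'1 (Or.inr ?_) hc hcC, Φ.fx_auto hx hxV _ hne (Or.inr ?_) hc
      (Frame.mem_C_mul (Signalizer.core_le_centralizer x hc) hcC)⟩)
  · exact (Φ.inB_trans hx hxV hB hx'1).2.2 (Φ.inB_self hx)
  · exact (Φ.inB_trans hx hxV (Φ.inB_mul (Φ.inB_self hx) hB hx) hne).2.2 (Φ.inB_self hx)

theorem Frame.Closed.kernel_le (hC : Φ.Closed hx Y) (hxV : x ∉ Φ.V) {w c : G} (hw : w ∈ Φ.V) (hw1 : w ≠ 1)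
    (hc : c ∈ O[x]) (hcw : Commute c w) (hco : c ∈ O[x * w]) : c ∈ Y :=
  hC.theta_le w (Φ.le hw) hw1 (fun e => hxV (e ▸ hw)) ((Φ.mem_theta hx (Φ.le hw)).2
    ⟨hc, Φ.fx_auto hx hxV _ hw1 (Or.inl hw) hc (mem_centralizer_singleton_iff.2 hcw.eq),
      Φ.fx_of_core _ hco⟩)

theorem Frame.Closed.E_le (hC : Φ.Closed hx Y) : Φ.E ≤ normalizer (Y : Set G) := fun e he =>
  hC.norm e (le_normalizer he) (by rw [Φ.comm he hx, mul_inv_cancel_right])

/-! ### The action -/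

/-- Conjugation on `N / (N ⊓ Y)`. -/
noncomputable def actHom (N Y H : Subgroup G) [(Y.subgroupOf N).Normal]
    (hN : H ≤ normalizer (N : Set G)) (hY : H ≤ normalizer (Y : Set G)) :
    H →* MulAut (↥N ⧸ Y.subgroupOf N) :=
  MonoidHom.mk' (fun h => QuotientGroup.congr (Y.subgroupOf N) (Y.subgroupOf N)
    (N.normalizerMonoidHom ⟨h, hN h.2⟩) (by
      ext n
      constructor
      · rintro ⟨m, hm, rfl⟩
        exact (mem_normalizer_iff.1 (hY h.2) m).1 hm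
      · intro hn
        refine ⟨(N.normalizerMonoidHom ⟨h, hN h.2⟩).symm n, ?_, MulEquiv.apply_symm_apply _ n⟩
        show ((N.normalizerMonoidHom ⟨h, hN h.2⟩).symm n : G) ∈ Y
        refine (mem_normalizer_iff.1 (hY h.2) _).2 ?_
        have := MulEquiv.apply_symm_apply (N.normalizerMonoidHom ⟨h, hN h.2⟩) n
        show ((N.normalizerMonoidHom ⟨h, hN h.2⟩ ((N.normalizerMonoidHom ⟨h, hN h.2⟩).symm n) : N) : G) ∈ Y
        rw [this]
        exact hn))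
    fun a b => MulEquiv.ext fun q => by
      induction q using QuotientGroup.induction_on with
      | H n =>
        show QuotientGroup.mk _ = QuotientGroup.mk _
        congr 1
        refine Subtype.ext ?_
        show ((a : G) * b) * (n : G) * ((a : G) * b)⁻¹ = a * (b * n * (b : G)⁻¹) * (a : G)⁻¹
        group

theorem actHom_mk {N Y H : Subgroup G} [(Y.subgroupOf N).Normal] (hN : H ≤ normalizer (N : Set G))
    (hY : H ≤ normalizer (Y : Set G)) (h : H) (n : N) :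
    actHom N Y H hN hY h (QuotientGroup.mk n) =
      QuotientGroup.mk ⟨(h : G) * n * (h : G)⁻¹, (mem_normalizer_iff.1 (hN h.2) _).1 n.2⟩ := rfl

/-- A class fixed by a 2-group has a fixed representative. -/
theorem exists_fixed_rep {N Y H : Subgroup G} [(Y.subgroupOf N).Normal] (hN : H ≤ normalizer (N : Set G))
    (hY : H ≤ normalizer (Y : Set G)) (hodd : ¬ 2 ∣ Nat.card N) {A : Subgroup G} (hA : IsPGroup 2 A)
    (hAH : A ≤ H) (q : ↥N ⧸ Y.subgroupOf N) (h : ∀ a (ha : a ∈ A), actHom N Y H hN hY ⟨a, hAH ha⟩ q = q) :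
    ∃ n : N, QuotientGroup.mk n = q ∧ ∀ a ∈ A, Commute (n : G) a := by
  haveI : Fact (Nat.Prime 2) := ⟨Nat.prime_two⟩
  obtain ⟨n, rfl⟩ := QuotientGroup.mk_surjective q
  obtain ⟨d, hd, hdc⟩ := Signalizer.exists_fixed_in_coset hA (N := Y ⊓ N)
    (Signalizer.le_normalizer_inf (hAH.trans hY) (hAH.trans hN))
    (Signalizer.not_dvd_card_of_le inf_le_right hodd) (n : G) (fun a ha => by
      have hmem : a * (n : G) * a⁻¹ * (n : G)⁻¹ ∈ N :=
        mul_mem ((mem_normalizer_iff.1 (hN (hAH ha)) _).1 n.2) (inv_mem n.2)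
      have h1 := h a ha
      rw [actHom_mk] at h1
      have h2 := (inferInstance : (Y.subgroupOf N).Normal).conj_mem _ (QuotientGroup.eq.1 h1.symm) n
      refine ⟨?_, hmem⟩
      have h3 : (n : G) * ((n : G)⁻¹ * (a * n * a⁻¹)) * (n : G)⁻¹ ∈ Y := h2
      rwa [mul_inv_cancel_left] at h3)
  refine ⟨⟨d * n, mul_mem hd.2 n.2⟩, ?_, fun a ha => (mem_centralizer_iff.1 hdc a ha).symm⟩
  refine QuotientGroup.eq.2 ?_
  show (d * (n : G))⁻¹ * n ∈ Y
  have h2 := (inferInstance : (Y.subgroupOf N).Normal).conj_mem ⟨d⁻¹, N.inv_mem hd.2⟩ (Y.inv_mem hd.1) n⁻¹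
  have h3 : (n : G)⁻¹ * d⁻¹ * (n : G)⁻¹⁻¹ ∈ Y := h2
  rwa [inv_inv, ← mul_inv_rev] at h3

/-- A homomorphism to a commutative group has the image of one Sylow subgroup for each. -/
theorem exists_sylow_preimage {A B : Type*} [Group A] [Finite A] [Group B]
    (ψ : A →* B) (hB : ∀ a b : A, ψ a * ψ b = ψ b * ψ a) {r : ℕ} [Fact r.Prime] (R : Sylow r A)
    {a : A} (hq : ψ a ^ r = 1) : ∃ s ∈ (R : Subgroup A), ψ s = ψ a := by
  obtain ⟨p, b, hab, hpz, hbz, ⟨k, hk⟩, hb⟩ := Transfer.exists_pPart_mul (p := r) a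
  have hb1 : ψ b = 1 := by
    obtain ⟨i, hi⟩ := mem_zpowers_iff.1 hbz
    have h1 : ψ b ^ r = 1 := by rw [← hi, map_zpow, ← zpow_natCast, zpow_comm, zpow_natCast, hq, one_zpow]
    exact orderOf_eq_one_iff.1 (Nat.eq_one_of_dvd_coprimes hb (orderOf_map_dvd ψ b)
      (orderOf_dvd_of_pow_eq_one h1))
  obtain ⟨Q, hQ⟩ := (IsPGroup.of_card (n := k) (by rw [Nat.card_zpowers, hk]) :
    IsPGroup r (zpowers p)).exists_le_sylow
  obtain ⟨g, hg⟩ := MulAction.exists_smul_eq A Q R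
  refine ⟨g * p * g⁻¹, hg ▸ ⟨p, hQ (mem_zpowers p), rfl⟩, ?_⟩
  rw [map_mul, map_mul, map_inv, hB g p, mul_inv_cancel_right, hab, map_mul, hb1, mul_one]

/-- The points of exponent `r` fixed by `v ∈ V`. -/
theorem Frame.exists_gen (hC : Φ.Closed hx Y) (hxV : x ∉ Φ.V) {N H : Subgroup G}
    [(Y.subgroupOf N).Normal] (hNle : N ≤ O[x]) (hN : H ≤ normalizer (N : Set G))
    (hY : H ≤ normalizer (Y : Set G)) (hab : ∀ a b : ↥N ⧸ Y.subgroupOf N, a * b = b * a)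
    (hEH : Φ.E ≤ H) {x' v : G} (hB : Φ.InB x x') (hx'1 : x' ≠ 1) (hx'x : x' ≠ x) (hv : v ∈ Φ.V) (hv1 : v ≠ 1)
    {r : ℕ} (hr : r.Prime) (hr2 : r ≠ 2) :
    (∀ q, actHom N Y H hN hY ⟨x', hEH hB.1⟩ q = q⁻¹) ∧
    ∃ g : ↥N ⧸ Y.subgroupOf N, ∀ q, actHom N Y H hN hY ⟨v, hEH (Φ.le hv)⟩ q = q → q ^ r = 1 →
      (∃ k : ℤ, q = g ^ k) ∧
      (q ≠ 1 → ∃ c : G, ∃ n : ℕ, Commute c x ∧ Commute c v ∧ orderOf c = r ^ n ∧ c ∉ O[x * v] ∧
        ∀ L, Φ.LData (x * v) L → c ∈ L) := by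
  classical
  haveI : Fact (Nat.Prime 2) := ⟨Nat.prime_two⟩
  haveI : Fact r.Prime := ⟨hr⟩
  have hodd : ¬ 2 ∣ Nat.card N := Signalizer.not_dvd_card_of_le hNle (Signalizer.not_dvd_card_core x)
  have hNodd : Odd (Nat.card N) := Nat.odd_iff.2 (Nat.two_dvd_ne_zero.1 hodd)
  have hQodd : ∀ q : ↥N ⧸ Y.subgroupOf N, Odd (orderOf q) := fun q => by
    obtain ⟨n, rfl⟩ := QuotientGroup.mk_surjective q
    refine hNodd.of_dvd_nat ((orderOf_map_dvd (QuotientGroup.mk' _) n).trans (orderOf_dvd_natCard n))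
  have hsq : ∀ e ∈ Φ.E, IsPGroup 2 (zpowers e) := fun e he =>
    Signalizer.isPGroup_zpowers_of_pow_eq_one (Φ.ea.2 e he)
  have hfixz : ∀ (e : G) (he : e ∈ Φ.E) q, actHom N Y H hN hY ⟨e, hEH he⟩ q = q →
      ∀ a (ha : a ∈ zpowers e), actHom N Y H hN hY ⟨a, (zpowers_le.2 (hEH he)) ha⟩ q = q := by
    intro e he q h a ha
    obtain ⟨k, rfl⟩ := mem_zpowers_iff.1 ha
    rcases Int.even_or_odd k with ⟨m, rfl⟩ | ⟨m, rfl⟩
    · have e1 : (⟨e ^ (m + m), (zpowers_le.2 (hEH he)) ha⟩ : H) = 1 := Subtype.ext (by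
        show e ^ (m + m) = 1
        rw [← two_mul, zpow_mul, zpow_two, ← pow_two, Φ.ea.2 e he, one_zpow])
      rw [e1, map_one, MulAut.one_apply]
    · have e1 : (⟨e ^ (2 * m + 1), (zpowers_le.2 (hEH he)) ha⟩ : H) = ⟨e, hEH he⟩ := Subtype.ext (by
        show e ^ (2 * m + 1) = e
        rw [zpow_add, zpow_mul, zpow_two, ← pow_two, Φ.ea.2 e he, one_zpow, one_mul, zpow_one])
      rw [e1, h]
  set σ := actHom N Y H hN hY ⟨x', hEH hB.1⟩ with hσ
  have hinv : ∀ q, σ q = q⁻¹ := by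
    intro q
    refine eq_inv_of_mul_eq_one_left ?_
    have hσ2 : σ (σ q) = q := by
      rw [← MulAut.mul_apply, hσ, ← map_mul,
        show (⟨x', hEH hB.1⟩ * ⟨x', hEH hB.1⟩ : H) = 1 from Subtype.ext (by
          show x' * x' = 1
          rw [← pow_two, Φ.ea.2 x' hB.1]), map_one, MulAut.one_apply]
    obtain ⟨n, hn, hnc⟩ := exists_fixed_rep hN hY hodd (hsq x' hB.1) (zpowers_le.2 (hEH hB.1)) (σ q * q)
      (hfixz x' hB.1 _ (by show σ (σ q * q) = σ q * q; rw [map_mul, hσ2, hab]))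
    rw [← hn, QuotientGroup.eq_one_iff]
    exact hC.mate_le hxV hB hx'1 hx'x (hNle n.2) (hnc x' (mem_zpowers x'))
  refine ⟨hinv, ?_⟩
  have hxvV := Φ.mul_mem_V hxV hv
  have hxvE := mul_mem hx (Φ.le hv)
  obtain ⟨L, hL⟩ := Φ.exists_ldata hxvE hxvV
  set P : Subgroup N := (C[v]).subgroupOf N
  set S : Set P := {s | ∃ c : P, (s : G) = (c : G) * x' * (c : G)⁻¹ * x'⁻¹}
  set P2 : Subgroup P := closure S
  set ψ : P2 →* ↥N ⧸ Y.subgroupOf N := (QuotientGroup.mk' _).comp (P.subtype.comp P2.subtype) with hψ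
  have hcC : ∀ c : P, ((c : N) : G) ∈ C[x * v] := fun c =>
    Frame.mem_C_mul (Signalizer.core_le_centralizer x (hNle (c : N).2)) c.2
  -- the commutators with `x'` lie in `L`
  have hP2L : ∀ L : Subgroup G, Φ.LData (x * v) L → ∀ s : P2, ((s : P) : G) ∈ L := by
    intro L hL
    have : P2 ≤ L.comap (N.subtype.comp P.subtype) := by
      rw [closure_le]
      rintro s ⟨c, hc⟩
      show (s : G) ∈ L
      rw [hc]
      obtain ⟨v', hv', hb⟩ := Φ.exists_proj hxvE hxvV hB.1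
      have h1 : ((c : N) : G) * v' * ((c : N) : G)⁻¹ * v'⁻¹ ∈ L :=
        mul_mem (hL.normal _ (hcC c) _ (hL.V_le hv')) (inv_mem (hL.V_le hv'))
      have h2 := hL.normal _ (Φ.mem_C hb.1 hxvE) _ h1
      have h3 := mul_mem (hL.core (hb.2 _ (hcC c))) h2
      have e : v' * v' = 1 := by rw [← pow_two, Φ.ea.2 v' (Φ.le hv')]
      rwa [show ((c : N) : G) * (x' * v') * ((c : N) : G)⁻¹ * (x' * v')⁻¹ *
          (x' * v' * (((c : N) : G) * v' * ((c : N) : G)⁻¹ * v'⁻¹) * (x' * v')⁻¹) =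
        ((c : N) : G) * (x' * v') * ((c : N) : G)⁻¹ * (((c : N) : G) * v' * ((c : N) : G)⁻¹) * v'⁻¹ *
          (x' * v')⁻¹ by group,
        show ((c : N) : G) * (x' * v') * ((c : N) : G)⁻¹ * (((c : N) : G) * v' * ((c : N) : G)⁻¹) =
          ((c : N) : G) * x' * (v' * v') * ((c : N) : G)⁻¹ by group, e, mul_one, mul_inv_rev,
        show ∀ z : G, z * v'⁻¹ * (v'⁻¹ * x'⁻¹) = z * (v' * v')⁻¹ * x'⁻¹ from fun z => by group,
        e, inv_one, mul_one] at h3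
    exact fun s => this s.2
  -- they cover the fixed points
  have hsurj : ∀ q, actHom N Y H hN hY ⟨v, hEH (Φ.le hv)⟩ q = q → ∃ s : P2, ψ s = q := by
    intro q hq
    obtain ⟨n, hn, hnc⟩ := exists_fixed_rep hN hY hodd (hsq v (Φ.le hv)) (zpowers_le.2 (hEH (Φ.le hv))) q
      (hfixz v (Φ.le hv) q hq)
    have hnv : Commute (n : G) v := hnc v (mem_zpowers v)
    have hx'v : Commute x' v := Φ.comm hB.1 (Φ.le hv)
    have hm : (n : G) * x' * (n : G)⁻¹ * x'⁻¹ ∈ N := by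
      rw [mul_assoc, mul_assoc, ← mul_assoc x']
      exact mul_mem n.2 ((mem_normalizer_iff.1 (hN (hEH hB.1)) _).1 (inv_mem n.2))
    have hmP : (⟨_, hm⟩ : N) ∈ P := mem_centralizer_singleton_iff.2
      (((hnv.mul_left hx'v).mul_left hnv.inv_left).mul_left hx'v.inv_left)
    have hs : (⟨_, hmP⟩ : P) ∈ P2 := subset_closure ⟨⟨n, mem_centralizer_singleton_iff.2 hnv.eq⟩, rfl⟩
    have hval : ψ ⟨_, hs⟩ = q ^ 2 := by
      show QuotientGroup.mk (⟨_, hm⟩ : N) = q ^ 2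
      rw [pow_two]
      have h1 : σ q⁻¹ = q := by rw [hinv, inv_inv]
      conv_rhs => arg 2; rw [← h1]
      rw [← hn, ← QuotientGroup.mk_inv, hσ, actHom_mk, ← QuotientGroup.mk_mul]
      congr 1
      refine Subtype.ext ?_
      show (n : G) * x' * (n : G)⁻¹ * x'⁻¹ = (n : G) * (x' * (n : G)⁻¹ * x'⁻¹)
      group
    obtain ⟨k, hk⟩ := hQodd q
    refine ⟨⟨_, hs⟩ ^ (k + 1), ?_⟩
    rw [map_pow, hval, ← pow_mul, show 2 * (k + 1) = orderOf q + 1 by omega, pow_succ, pow_orderOf_eq_one,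
      one_mul]
  obtain ⟨R⟩ : Nonempty (Sylow r P2) := inferInstance
  have hsyl : ∀ q, actHom N Y H hN hY ⟨v, hEH (Φ.le hv)⟩ q = q → q ^ r = 1 →
      ∃ s ∈ (R : Subgroup P2), ψ s = q := by
    intro q hq hqr
    obtain ⟨s, hs⟩ := hsurj q hq
    obtain ⟨t, ht, h⟩ := exists_sylow_preimage ψ (fun a b => hab _ _) R (a := s) (by rw [hs]; exact hqr)
    exact ⟨t, ht, h.trans hs⟩
  set ι : P2 →* G := N.subtype.comp (P.subtype.comp P2.subtype)
  have hker : ∀ s : P2, ι s ∈ O[x * v] → ψ s = 1 := fun s hs =>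
    (QuotientGroup.eq_one_iff _).2 (hC.kernel_le hxV hv hv1 (hNle (s : P).1.2)
      (mem_centralizer_singleton_iff.1 (s : P).2) hs)
  -- the elements over a nontrivial point
  have hex : ∀ q, actHom N Y H hN hY ⟨v, hEH (Φ.le hv)⟩ q = q → q ^ r = 1 → q ≠ 1 →
      ∃ c : G, ∃ n : ℕ, Commute c x ∧ Commute c v ∧ orderOf c = r ^ n ∧ c ∉ O[x * v] ∧
        ∀ L, Φ.LData (x * v) L → c ∈ L := by
    intro q hq hqr hq1
    obtain ⟨s, hs, hsq'⟩ := hsyl q hq hqr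
    obtain ⟨n, hn⟩ : ∃ n, orderOf (ι s) = r ^ n := by
      obtain ⟨k, hk⟩ := R.isPGroup' ⟨s, hs⟩
      obtain ⟨j, -, hj⟩ := (Nat.dvd_prime_pow hr).1 ((orderOf_map_dvd ι s).trans
        (orderOf_dvd_of_pow_eq_one (congrArg Subtype.val hk : s ^ r ^ k = 1)))
      exact ⟨j, hj⟩
    refine ⟨ι s, n, mem_centralizer_singleton_iff.1 (Signalizer.core_le_centralizer x (hNle (s : P).1.2)),
      mem_centralizer_singleton_iff.1 (s : P).2, hn, fun h => hq1 (hsq' ▸ hker s h), fun L' hL' => ?_⟩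
    exact hP2L L' hL' s
  by_cases hall : ∀ q, actHom N Y H hN hY ⟨v, hEH (Φ.le hv)⟩ q = q → q ^ r = 1 → q = 1
  · exact ⟨1, fun q hq hqr => ⟨⟨0, by rw [zpow_zero, hall q hq hqr]⟩, hex q hq hqr⟩⟩
  push Not at hall
  obtain ⟨q0, hq0, hq0r, hq01⟩ := hall
  obtain ⟨c, n, hcx, hcv, hcn, hcO, hcL⟩ := hex q0 hq0 hq0r hq01
  have hi : ∃ i, c ^ (r ^ i) ∈ O[x * v] := ⟨n, by rw [← hcn, pow_orderOf_eq_one]; exact one_mem _⟩
  obtain ⟨i, hi'⟩ : ∃ i, Nat.find hi = i + 1 := Nat.exists_eq_succ_of_ne_zero fun e => hcO (by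
    have := Nat.find_spec hi
    rwa [e, pow_zero, pow_one] at this)
  obtain ⟨g, hgR, hg⟩ := hL.cyclic v hv hv1 r hr hr2
    ⟨c ^ (r ^ i), pow_mem (hcL L hL) _, hcv.pow_left _, Nat.find_min hi (by omega), by
      rw [← pow_mul, ← pow_succ, ← hi']; exact Nat.find_spec hi⟩
    ((R : Subgroup P2).map ι) (R.isPGroup'.map _)
    (by rintro _ ⟨s, -, rfl⟩; exact hP2L L hL s)
  obtain ⟨s0, hs0, rfl⟩ := hgR
  refine ⟨ψ s0, fun q hq hqr => ⟨?_, hex q hq hqr⟩⟩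
  obtain ⟨s, hs, rfl⟩ := hsyl q hq hqr
  obtain ⟨k, hk⟩ := hg (ι s) ⟨s, hs, rfl⟩
  refine ⟨k, ?_⟩
  have := hker (s * (s0 ^ k)⁻¹) (by rw [map_mul, map_inv, map_zpow]; exact hk)
  rwa [map_mul, map_inv, map_zpow, mul_inv_eq_one] at this

end Cfsg.Agent.J2Core
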