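import Cfsg.Agent.EqLemmas
import Cfsg.Agent.Lib.Signalizer.ElemAb
import Cfsg.Agent.Lib.Signalizer.PAction
import Cfsg.Prelude.Def_Involutions

/-!
# Odd elements acting on an elementary abelian group of order sixteen with a distinguished four-group

* `cent_of_fix`  : an element of odd order fixing one involution of a four-group centralises it
* `conj_mem_add` : an element of odd order fixing a point outside `V` acts trivially on `E/V`
* `exists_proj`  : if it fixes no involution of `V`, every coset of `V` has a fixed point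
-/

set_option autoImplicit false
set_option linter.style.haveILetI false

namespace Cfsg.Agent.J2Core

open Subgroup

universe u

variable {G : Type u} [Group G] [Finite G]

/-- An injection of a three point set fixing `v` has square the identity. -/
theorem cent_of_fix {V : Subgroup G} (hV : Cfsg.IsElementaryAbelian 2 V) (h4 : Nat.card V = 4) {g : G}
    (hodd : Odd (orderOf g)) (hg : g ∈ normalizer (V : Set G)) {v : G} (hv : v ∈ V) (hv1 : v ≠ 1)
    (hfix : g * v * g⁻¹ = v) {a : G} (ha : a ∈ V) : g * a * g⁻¹ = a := by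
  have hsq : ∀ b ∈ V, g * (g * b * g⁻¹) * g⁻¹ = b → g * b * g⁻¹ = b := by
    intro b _ h
    obtain ⟨k, hk⟩ := hodd
    have hp : ∀ i : ℕ, g ^ (2 * i) * b * (g ^ (2 * i))⁻¹ = b := by
      intro i
      induction i with
      | zero => simp
      | succ i ih =>
        calc g ^ (2 * (i + 1)) * b * (g ^ (2 * (i + 1)))⁻¹
            = g * (g * (g ^ (2 * i) * b * (g ^ (2 * i))⁻¹) * g⁻¹) * g⁻¹ := by
              rw [mul_add, pow_add, mul_one, pow_two, (Commute.refl g).pow_left (2 * i) |>.mul_right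
                ((Commute.refl g).pow_left (2 * i)) |>.eq]; group
          _ = b := by rw [ih, h]
    have h1 : g ^ (2 * k + 1) = 1 := hk ▸ pow_orderOf_eq_one g
    have h2 : g = (g ^ (2 * k))⁻¹ := eq_inv_of_mul_eq_one_left (by rw [← pow_succ', h1])
    conv_lhs => rw [h2, inv_inv, ← hp k]
    group
  by_cases ha1 : a = 1
  · simp [ha1]
  by_cases hav : a = v
  · rw [hav, hfix]
  have hav' : a * v ∈ V := mul_mem ha hv
  haveI : IsKleinFour V := ⟨h4, by
    refine ((Nat.dvd_prime Nat.prime_two).1 (Monoid.exponent_dvd_of_forall_pow_eq_one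
      fun x : V => Subtype.ext (hV.2 x x.2))).resolve_left fun h1 => ?_
    haveI := Monoid.exp_eq_one_iff.1 h1
    rw [Nat.card_unique] at h4
    omega⟩
  have hmem : ∀ b ∈ V, b ≠ 1 → b ≠ v → b = a ∨ b = a * v := by
    intro b hb hb1 hbv
    classical
    by_contra h
    push Not at h
    have h5 : Nat.card ({1, v, a, a * v, b} : Finset G) ≤ Nat.card V :=
      Nat.card_le_card_of_injective (fun x => ⟨x.1, by
        have hx := x.2
        simp only [Finset.mem_insert, Finset.mem_singleton] at hx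
        rcases hx with e | e | e | e | e <;> rw [e] <;>
          first | exact one_mem _ | assumption⟩) fun x y e => Subtype.ext (congrArg (fun z : V => (z : G)) e)
    have e1 : v ≠ a * v := fun e => ha1 (right_eq_mul.1 e)
    have e2 : a ≠ a * v := fun e => hv1 (left_eq_mul.1 e)
    have e3 : (1 : G) ≠ a * v := fun e => hav (by
      rw [eq_comm, mul_eq_one_iff_eq_inv] at e
      rw [e, inv_eq_of_mul_eq_one_right (by rw [← pow_two, hV.2 v hv])])
    rw [Nat.card_eq_fintype_card, Fintype.card_coe] at h5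
    simp only [Finset.card_insert_of_notMem, Finset.mem_insert, Finset.mem_singleton, Ne.symm hv1,
      Ne.symm ha1, Ne.symm hb1, Ne.symm hbv, Ne.symm hav, e1, e2, e3, Ne.symm h.1, Ne.symm h.2,
      not_false_eq_true, or_self, Finset.card_singleton, h4] at h5
    omega
  have him : g * a * g⁻¹ = a ∨ g * a * g⁻¹ = a * v := hmem _ ((mem_normalizer_iff.1 hg a).1 ha)
    (fun e => ha1 (conj_eq_one_iff.1 e)) (fun e => hav (by
      rw [← hfix] at e
      exact mul_left_cancel (mul_right_cancel e)))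
  rcases him with e | e
  · exact e
  · refine hsq a ha ?_
    rw [e, show g * (a * v) * g⁻¹ = g * a * g⁻¹ * (g * v * g⁻¹) by group, e, hfix, mul_assoc,
      ← pow_two, hV.2 v hv, mul_one]

/-- Powers of an element acting by a translation. -/
theorem pow_translate {g a d : G} (h : g * a * g⁻¹ = d * a) (hd : g * d * g⁻¹ = d) :
    ∀ n : ℕ, g ^ n * a * (g ^ n)⁻¹ = d ^ n * a := by
  intro n
  induction n with
  | zero => simp
  | succ n ih =>
    calc g ^ (n + 1) * a * (g ^ (n + 1))⁻¹ = g * (g ^ n * a * (g ^ n)⁻¹) * g⁻¹ := by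
          rw [pow_succ' g n]; group
      _ = (g * d * g⁻¹) ^ n * (g * a * g⁻¹) := by rw [ih, conj_pow]; group
      _ = d ^ (n + 1) * a := by rw [hd, h, ← mul_assoc, ← pow_succ]

/-- An element of odd order fixing `x` outside `V` acts trivially on `E/V`. -/
theorem conj_mem_add {E V : Subgroup G} (hE : Cfsg.IsElementaryAbelian 2 E) (h16 : Nat.card E = 16)
    (hVE : V ≤ E) (h4 : Nat.card V = 4) {g : G} (hodd : Odd (orderOf g))
    (hgE : g ∈ normalizer (E : Set G)) (hgV : g ∈ normalizer (V : Set G)) {x : G} (hx : x ∈ E)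
    (hxV : x ∉ V) (hfix : g * x * g⁻¹ = x) {e : G} (he : e ∈ E) : g * e * g⁻¹ * e⁻¹ ∈ V := by
  haveI : Fact (Nat.Prime 2) := ⟨Nat.prime_two⟩
  set K := V ⊔ zpowers x
  have hKE : K ≤ E := sup_le hVE (zpowers_le.2 hx)
  have hK8 : Nat.card K = 8 := by rw [Signalizer.card_sup_zpowers hE hVE hx hxV, h4]
  have hgK : g ∈ normalizer (K : Set G) :=
    Signalizer.mem_normalizer_of_conj_mem fun y hy => by
      have : y ∈ K.comap (MulAut.conj g).toMonoidHom := by
        refine (sup_le (fun z hz => ?_) (zpowers_le.2 ?_) : K ≤ K.comap (MulAut.conj g).toMonoidHom) hy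
        · exact mem_sup_left ((mem_normalizer_iff.1 hgV z).1 hz)
        · show g * x * g⁻¹ ∈ K
          rw [hfix]; exact mem_sup_right (mem_zpowers x)
      exact this
  have hcase : ∀ y ∈ K, y ∈ V ∨ y * x⁻¹ ∈ V := by
    intro y hy
    rw [← SetLike.mem_coe, coe_mul_of_right_le_normalizer_left _ _ (Signalizer.le_normalizer_of_commute
      fun a ha b hb => Signalizer.commute_of_isMulCommutative hE.1 (zpowers_le.2 hx ha) (hVE hb))] at hy
    obtain ⟨a, ha, b, hb, rfl⟩ := hy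
    obtain ⟨k, rfl⟩ := mem_zpowers_iff.1 hb
    have hx2 : x ^ (2 : ℤ) = 1 := by rw [zpow_two, ← pow_two, hE.2 x hx]
    rcases Int.even_or_odd k with ⟨m, rfl⟩ | ⟨m, rfl⟩
    · left
      rw [← two_mul, zpow_mul, hx2, one_zpow]
      simpa using ha
    · right
      rw [zpow_add, zpow_mul, hx2, one_zpow, one_mul, zpow_one]
      simpa using ha
  have he' := (mem_normalizer_iff.1 hgE e).1 he
  have hdK : g * e * g⁻¹ * e⁻¹ ∈ K := by
    by_cases heK : e ∈ K
    · exact mul_mem ((mem_normalizer_iff.1 hgK e).1 heK) (inv_mem heK)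
    have hi : K.relIndex E = 2 := by
      have h := Signalizer.card_hyperplane_mul (p := K.relIndex E) hKE rfl
      rw [hK8, h16] at h
      omega
    have heK' : g * e * g⁻¹ ∉ K := fun h => heK ((mem_normalizer_iff.1 hgK e).2 h)
    have := Subgroup.mul_mem_iff_of_index_two (H := K.subgroupOf E) hi
      (a := ⟨g * e * g⁻¹, he'⟩) (b := ⟨e⁻¹, inv_mem he⟩)
    simp only [mem_subgroupOf, Subgroup.coe_mul, inv_mem_iff, heK, heK', iff_self] at this
    exact this.2 trivial
  rcases hcase _ hdK with h | h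
  · exact h
  exfalso
  set d := g * e * g⁻¹ * e⁻¹ * x⁻¹ with hd
  have hcomm : ∀ a ∈ E, ∀ b ∈ E, a * b = b * a := fun a ha b hb =>
    Signalizer.commute_of_isMulCommutative hE.1 ha hb
  -- the square moves `e` inside its coset, so all powers with odd exponent move it out
  have key : ∀ n : ℕ, g ^ n * e * (g ^ n)⁻¹ * e⁻¹ * (x ^ n)⁻¹ ∈ V := by
    intro n
    induction n with
    | zero => simp
    | succ n ih =>
      have h1 : g * (g ^ n * e * (g ^ n)⁻¹ * e⁻¹ * (x ^ n)⁻¹) * g⁻¹ ∈ V := (mem_normalizer_iff.1 hgV _).1 ih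
      have h2 : g * (x ^ n)⁻¹ * g⁻¹ = (x ^ n)⁻¹ := by rw [← conj_inv, ← conj_pow, hfix]
      have h3 := mul_mem h1 h
      have e1 : g * (g ^ n * e * (g ^ n)⁻¹ * e⁻¹ * (x ^ n)⁻¹) * g⁻¹ * d =
          g ^ (n + 1) * e * (g ^ (n + 1))⁻¹ * e⁻¹ * (x ^ (n + 1))⁻¹ := by
        have e2 : g * (g ^ n * e * (g ^ n)⁻¹ * e⁻¹ * (x ^ n)⁻¹) * g⁻¹ =
            g ^ (n + 1) * e * (g ^ (n + 1))⁻¹ * (g * e * g⁻¹)⁻¹ * (g * (x ^ n)⁻¹ * g⁻¹) := by
          rw [pow_succ' g n]; group
        rw [e2, h2, hd]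
        have hc : (x ^ n)⁻¹ * (g * e * g⁻¹) = (g * e * g⁻¹) * (x ^ n)⁻¹ :=
          hcomm _ (inv_mem (pow_mem hx n)) _ he'
        have hc2 : (x ^ n)⁻¹ * e⁻¹ = e⁻¹ * (x ^ n)⁻¹ :=
          hcomm _ (inv_mem (pow_mem hx n)) _ (inv_mem he)
        calc g ^ (n + 1) * e * (g ^ (n + 1))⁻¹ * (g * e * g⁻¹)⁻¹ * (x ^ n)⁻¹ * (g * e * g⁻¹ * e⁻¹ * x⁻¹)
            = g ^ (n + 1) * e * (g ^ (n + 1))⁻¹ * (g * e * g⁻¹)⁻¹ *
                ((x ^ n)⁻¹ * (g * e * g⁻¹)) * e⁻¹ * x⁻¹ := by group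
          _ = g ^ (n + 1) * e * (g ^ (n + 1))⁻¹ * ((x ^ n)⁻¹ * e⁻¹) * x⁻¹ := by rw [hc]; group
          _ = _ := by rw [hc2, pow_succ' x n]; group
      rwa [e1] at h3
  have h1 := key (orderOf g)
  obtain ⟨k, hk⟩ := hodd
  rw [pow_orderOf_eq_one, hk, pow_succ, pow_mul, hE.2 x hx] at h1
  simp at h1
  exact hxV h1

/-- An element of odd order fixing `x` outside `V` and centralising `V` centralises `E`. -/
theorem cent_of_cent {E V : Subgroup G} (hE : Cfsg.IsElementaryAbelian 2 E) (h16 : Nat.card E = 16)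
    (hVE : V ≤ E) (h4 : Nat.card V = 4) {g : G} (hodd : Odd (orderOf g))
    (hgE : g ∈ normalizer (E : Set G)) (hgV : g ∈ normalizer (V : Set G)) {x : G} (hx : x ∈ E)
    (hxV : x ∉ V) (hfix : g * x * g⁻¹ = x) (hc : ∀ v ∈ V, g * v * g⁻¹ = v) {e : G} (he : e ∈ E) :
    g * e * g⁻¹ = e := by
  have hd := conj_mem_add hE h16 hVE h4 hodd hgE hgV hx hxV hfix he
  have h := pow_translate (g := g) (a := e) (d := g * e * g⁻¹ * e⁻¹) (by group) (hc _ hd) (orderOf g)
  rw [pow_orderOf_eq_one] at h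
  simp only [inv_one, mul_one, one_mul, right_eq_mul] at h
  obtain ⟨k, hk⟩ := hodd
  rw [hk, pow_succ, pow_mul, hE.2 _ (hVE hd)] at h
  simp only [one_pow, one_mul] at h
  exact mul_inv_eq_one.1 h

/-- A fixed point free element on `V` fixes a point of each coset. -/
theorem exists_proj {E V : Subgroup G} (hE : Cfsg.IsElementaryAbelian 2 E) (h16 : Nat.card E = 16)
    (hVE : V ≤ E) (h4 : Nat.card V = 4) {g : G} (hodd : Odd (orderOf g))
    (hgE : g ∈ normalizer (E : Set G)) (hgV : g ∈ normalizer (V : Set G)) {x : G} (hx : x ∈ E)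
    (hxV : x ∉ V) (hfix : g * x * g⁻¹ = x) (hfpf : ∀ v ∈ V, g * v * g⁻¹ = v → v = 1) {e : G}
    (he : e ∈ E) : ∃ v ∈ V, g * (e * v) * g⁻¹ = e * v := by
  have hcomm : ∀ a ∈ E, ∀ b ∈ E, a * b = b * a := fun a ha b hb =>
    Signalizer.commute_of_isMulCommutative hE.1 ha hb
  let φ : V → V := fun v => ⟨g * v * g⁻¹ * (v : G)⁻¹,
    mul_mem ((mem_normalizer_iff.1 hgV v).1 v.2) (inv_mem v.2)⟩
  have hinj : Function.Injective φ := by
    intro a b hab
    have h : g * a * g⁻¹ * (a : G)⁻¹ = g * b * g⁻¹ * (b : G)⁻¹ := congrArg Subtype.val hab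
    have h0 : (b : G)⁻¹ * a ∈ V := mul_mem (inv_mem b.2) a.2
    have := hfpf _ h0 (by
      rw [show g * ((b : G)⁻¹ * a) * g⁻¹ = (g * b * g⁻¹)⁻¹ * (g * a * g⁻¹) by group]
      rw [mul_inv_eq_iff_eq_mul.1 h]
      group)
    exact Subtype.ext (eq_of_inv_mul_eq_one this).symm
  have hd := conj_mem_add hE h16 hVE h4 hodd hgE hgV hx hxV hfix he
  obtain ⟨v, hv⟩ := (Finite.injective_iff_surjective.1 hinj) ⟨(g * e * g⁻¹ * e⁻¹)⁻¹, inv_mem hd⟩
  refine ⟨v, v.2, ?_⟩
  have hv' : g * v * g⁻¹ * (v : G)⁻¹ = (g * e * g⁻¹ * e⁻¹)⁻¹ := congrArg Subtype.val hv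
  have hc := hcomm _ ((mem_normalizer_iff.1 hgE e).1 he) _ he
  calc g * (e * v) * g⁻¹ = g * e * g⁻¹ * ((g * v * g⁻¹ * (v : G)⁻¹) * v) := by group
    _ = g * e * g⁻¹ * ((g * e * g⁻¹ * e⁻¹)⁻¹ * v) := by rw [hv']
    _ = g * e * g⁻¹ * e * (g * e * g⁻¹)⁻¹ * v := by group
    _ = e * v := by rw [hc]; group

end Cfsg.Agent.J2Core
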